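import Cfsg.Agent.Perm.Huppert2
import Cfsg.Agent.Perm.CharSimple
import Cfsg.Agent.Fgs1.FPF2
import Cfsg.Agent.S0106

/-! Huppert's theorem: the final forms, and the case of regular action. -/

set_option autoImplicit false

namespace CF.Perm

open Subgroup CF.Fgs1.Fpf
open scoped MatrixGroups

variable {G V : Type*} [Group G] [Finite G]

theorem index_two_of_compl (he : Even (Nat.card G)) (P : Sylow 2 G) {N : Subgroup G} [N.Normal]
    (h : N.IsComplement' P) : ∃ H : Subgroup G, H.index = 2 := by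
  obtain ⟨k, hk⟩ := P.isPGroup'.exists_card_eq
  obtain ⟨H, -, hH⟩ := CF.Invol.exists_index_eq_of_quotient (p := 2) N (fun e => P.not_dvd_index
    (by rw [h.index_eq_card, e, card_top]; exact he.two_dvd)) (.of_card (h.symm.index_eq_card.trans hk))
  exact ⟨H, hH⟩

theorem index_two_of_centralizer_le (he : Even (Nat.card G)) (A : Subgroup G) [A.Normal]
    [hA : IsCyclic A] (h : centralizer (A : Set G) ≤ A) : ∃ H : Subgroup G, H.index = 2 := by
  let φ := (IsCyclic.mulAutMulEquiv A).toMonoidHom.comp (MulAut.conjNormal (H := A))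
  by_cases h1 : 2 ∣ φ.ker.index
  · obtain ⟨T⟩ : Nonempty (Sylow 2 φ.range) := inferInstance
    obtain ⟨H, hH⟩ := index_two_of_compl (even_iff_two_dvd.2 (index_ker φ ▸ h1)) T
      (MonoidHom.ker_transferSylow_isComplement' T fun a _ b _ => mul_comm b a)
    exact ⟨_, (index_comap_of_surjective _ φ.rangeRestrict_surjective).trans hH⟩
  · obtain ⟨T, hT⟩ := CF.Solv.exists_sylow_le_of_not_dvd_index h1
    refine CF.Invol.exists_index_two_of_isCyclic he T (isCyclic_of_le (hT.trans fun g hg => h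
      fun a ha => (mul_inv_eq_iff_eq_mul.1 (congrArg Subtype.val (DFunLike.congr_fun
        ((map_eq_one_iff _ (IsCyclic.mulAutMulEquiv A).injective).1 hg) (⟨a, ha⟩ : A)))).symm))

theorem index_two_or_sl23 (hG : FPF G) (h : Nat.card G = 24) :
    (∃ N : Subgroup G, N.index = 2) ∨ Nonempty (G ≃* SL(2, ZMod 3)) := by
  obtain ⟨T⟩ : Nonempty (Sylow 2 G) := inferInstance
  rcases hG.isCyclic_or_quaternion T.isPGroup' with h1 | ⟨-, n, hn, h1⟩
  · exact .inl (CF.Invol.exists_index_two_of_isCyclic (h ▸ by decide) T h1)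
  rcases Cfsg.Agent.S0106.result T n hn h1 with ⟨P, N, _, h2⟩ | h2
  · exact .inl (index_two_of_compl (h ▸ by decide) P h2)
  · obtain ⟨K, f, hf⟩ := CF.Transfer.involves_iff.1 h2
    have h3 := CF.Transfer.card_sl23
    obtain rfl := eq_top_of_le_card K (h ▸ h3 ▸ Nat.card_le_card_of_surjective f hf)
    exact .inr ⟨topEquiv.symm.trans (.ofBijective f (hf.bijective_of_nat_card_le (by rw [card_top, h, h3])))⟩

theorem index_two_or_sl23_prod (hG : FPF G) (h : Nat.card G = 120) {z : G} (hz : z ∈ center G)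
    (h5 : orderOf z = 5) : (∃ N : Subgroup G, N.index = 2) ∨
      Nonempty (G ≃* SL(2, ZMod 3) × Multiplicative (ZMod 5)) := by
  have : Fact (Nat.Prime 5) := ⟨by norm_num⟩
  have h1 : Nat.card (zpowers z) = 5 := (Nat.card_zpowers z).trans h5
  let P : Sylow 5 G := Sylow.ofCard (zpowers z) (by
    rw [h, h1, show 120 = 5 * 24 from rfl, Nat.factorization_mul (by decide) (by decide)]
    simp [this.out.factorization, Nat.factorization_eq_zero_of_not_dvd])
  have h2 := MonoidHom.ker_transferSylow_isComplement' P (le_top.trans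
    (centralizer_eq_top_iff_subset.2 (zpowers_le.2 hz)).ge)
  have : (P : Subgroup G).Normal := ⟨fun a ha g => by
    rwa [mem_center_iff.1 (zpowers_le.2 hz ha) g, mul_inv_cancel_right]⟩
  obtain ⟨e⟩ := nonempty_sup_equiv_prod _ _ h2.disjoint.eq_bot
  let e' := (topEquiv.symm.trans (MulEquiv.subgroupCongr h2.sup_eq_top.symm)).trans e
  refine (index_two_or_sl23 (hG.subgroup _) (Nat.eq_of_mul_eq_mul_right (by decide : 0 < 5)
    ((h1 ▸ h2.card_mul_card :).trans h))).imp (fun ⟨N, hN⟩ => ⟨N.comap ((MonoidHom.fst _ _).comp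
    e'.toMonoidHom), (index_comap_of_surjective _ (Prod.fst_surjective.comp e'.surjective)).trans
    hN⟩) fun ⟨f⟩ => ⟨e'.trans (f.prodCongr (mulEquivOfPrimeCardEq h1 (by simp)))⟩

variable [AddCommGroup V] [DistribMulAction G V] [Finite V] [Nontrivial V] [FaithfulSMul G V]

theorem Tr.semilinear_or [Group.IsSolvable G] (h : Tr G V) (F : Type*) [Field F] [Finite F]
    (hF : Nat.card F = Nat.card V) : (∃ e : V ≃+ F, ∀ g : G, ∃ (a : F) (τ : F ≃+* F),
      ∀ v : V, e (g • v) = a * τ (e v)) ∨ Nat.card V ∈ ({9, 25, 49, 121, 529, 81} : Set ℕ) := by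
  obtain ⟨A, h1, h2, h3⟩ := exists_max_abelian (G := G)
  obtain ⟨M, hM⟩ := exists_AM A h3
  obtain ⟨K, _, _, _, σ, h4⟩ := h.exists_FS A h2
  by_cases hd : Module.finrank K V = 1
  · exact .inl (h4.semilinear hd F hF)
  · rw [Module.natCard_eq_pow_finrank (K := K)]
    rcases (h4.cases hM h hd).2 with ⟨h5, h6 | h6 | h6 | h6 | h6⟩ | ⟨h5, h6⟩ <;> simp [h5, h6]

omit [Finite G] [FaithfulSMul G V] in
theorem Tr.card_eq (h : Tr G V) (hr : ∀ v : V, v ≠ 0 → ∀ g : G, g • v = v → g = 1) :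
    Nat.card G = Nat.card V - 1 := by
  obtain ⟨v, hv⟩ := exists_ne (0 : V)
  rw [← Set.ncard_add_ncard_compl ({0} : Set V), Set.ncard_singleton, Nat.add_sub_cancel_left]
  exact Nat.card_eq_of_bijective (fun g => ⟨g • v, mt (smul_eq_zero_iff_eq g).1 hv⟩ :
    G → ({0}ᶜ : Set V)) ⟨fun a b e => eq_of_inv_mul_eq_one (hr v hv _ (by
      rw [mul_smul, inv_smul_eq_iff]; exact congrArg Subtype.val e.symm)),
      fun w => (h v w hv w.2).imp fun _ => Subtype.ext⟩

omit [FaithfulSMul G V] in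
theorem fpf_of_regular (hr : ∀ v : V, v ≠ 0 → ∀ g : G, g • v = v → g = 1) : FPF G :=
  fpf_of_mulAut (K := Multiplicative V) ((MulAutMultiplicative V).symm.toMonoidHom.comp
    (DistribMulAction.toAddAut G V)) fun g hg v hv => by_contra fun h => hg (hr v.toAdd h g hv)

variable {K : Type*} [Field K] [Finite K] [Module K V] {A M : Subgroup G} {σ : G →* RingAut K}

set_option synthInstance.maxSize 4096 in
set_option synthInstance.maxHeartbeats 200000 in
theorem regular_num {Q d c e a : ℕ} (h1 : (d = 2 ∧ (Q = 3 ∨ Q = 5 ∨ Q = 7 ∨ Q = 11 ∨ Q = 23)) ∨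
    (d = 4 ∧ Q = 3)) (h2 : Q ^ d - 1 = c * (e * a)) (h3 : a ∣ Q - 1) (h4 : e ∣ a ^ e)
    (h5 : c ∣ (e - 1).factorial) (h6 : c = 1 → e = 1) (h7 : 5 ∣ c → ∃ e' < e, e' ∣ e ∧ 5 ∣ e - e')
    (h8 : e ≤ d ^ 2) : Q ≠ 3 ∧ (Q = 5 ∨ (Q = 11 ∧ a = 10) ∨ c % 4 = 2) := by
  have key : ∀ p ∈ [(3, 2), (5, 2), (7, 2), (11, 2), (23, 2), (3, 4)], ∀ a < 23, ∀ e ≤ p.2 ^ 2,
      (a ∣ p.1 - 1 ∧ e ∣ a ^ e) → ∀ c ≤ p.1 ^ p.2, (p.1 ^ p.2 - 1 = c * (e * a) ∧
      c ∣ (e - 1).factorial ∧ (c = 1 → e = 1) ∧ (5 ∣ c → ∃ e' < e, e' ∣ e ∧ 5 ∣ e - e')) →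
      p.1 ≠ 3 ∧ (p.1 = 5 ∨ (p.1 = 11 ∧ a = 10) ∨ c % 4 = 2) := by decide +kernel
  refine key (Q, d) ?_ a ?_ e h8 ⟨h3, h4⟩ c ((Nat.le_of_dvd ?_ (Dvd.intro _ h2.symm)).trans
    (Nat.sub_le _ _)) ⟨h2, h5, h6, h7⟩ <;> clear key h2 h4 h5 h6 h7 h8
  · simp only [List.mem_cons, Prod.mk.injEq]; omega
  · have := Nat.le_of_dvd (by omega) h3; omega
  · exact Nat.sub_pos_of_lt (Nat.one_lt_pow (by omega) (by omega))

theorem FS.regular (h : FS V K A σ) (hM : AM A M) (ht : Tr G V) (hd : Module.finrank K V ≠ 1)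
    (hr : ∀ v : V, v ≠ 0 → ∀ g : G, g • v = v → g = 1) :
    Nat.card V ∈ ({25, 49, 121, 529} : Set ℕ) ∧ ((∃ N : Subgroup G, N.index = 2) ∨
      (Nat.card V = 25 ∧ Nonempty (G ≃* SL(2, ZMod 3))) ∨
      (Nat.card V = 121 ∧ Nonempty (G ≃* SL(2, ZMod 3) × Multiplicative (ZMod 5)))) := by
  obtain ⟨h1, h2⟩ := h.cases hM ht hd
  have h3 := ht.card_eq hr
  have h4 := hM.card_eq
  have h5 := hM.relIndex_dvd
  have h8 := Module.natCard_eq_pow_finrank (K := K) (V := V)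
  rw [h1, relIndex_top_right] at h4 h5
  rw [index_top, one_mul, h3, h8] at h4
  obtain ⟨h11, h12⟩ := regular_num h2 h4 h.card_dvd hM.relIndex_dvd_pow h5.1 (fun e =>
    relIndex_eq_one.2 (hM.le_of_eq_top (index_eq_one.1 e))) (h5.2 5 (by norm_num)) (h.relIndex_le_sq hM)
  obtain ⟨h13, h14⟩ := h2.resolve_right fun h => h11 h.2
  rw [h13] at h8
  refine ⟨by rcases h14.resolve_left h11 with h | h | h | h <;> simp [h8, h], ?_⟩
  rcases h12 with h12 | ⟨h12, h15⟩ | h12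
  · rw [h12] at h8
    exact (index_two_or_sl23 (fpf_of_regular hr) (by omega)).imp_right fun h => .inl ⟨h8, h⟩
  · rw [h12] at h8
    have : Fact (Nat.Prime 5) := ⟨by norm_num⟩
    obtain ⟨z, hz⟩ := exists_prime_orderOf_dvd_card' (G := A) 5 (h15 ▸ by decide)
    exact (index_two_or_sl23_prod (fpf_of_regular hr) (by omega) (centralizer_eq_top_iff_subset.1
      h1 z.2) ((orderOf_coe z).trans hz)).imp_right fun h => .inr ⟨h8, h⟩
  · have := hM.Mn
    obtain ⟨N, hN⟩ := CF.Invol.exists_index_two_of_not_four_dvd (G := G ⧸ M)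
      (Nat.even_iff.2 (by change M.index % 2 = 0; omega)) (by change ¬ 4 ∣ M.index; omega)
    exact .inl ⟨_, (index_comap_of_surjective _ (QuotientGroup.mk'_surjective M)).trans hN⟩

omit [Finite G] [Finite V] [Nontrivial V] [Finite K] in
theorem FS.isMulCommutative (h : FS V K A σ) (hd : Module.finrank K V = 1) :
    IsMulCommutative (centralizer (A : Set G)) := ⟨⟨fun a b => Subtype.ext (eq_of_smul_eq_smul
  fun v : V => by
    obtain ⟨c, hc⟩ := (LinearMap.existsUnique_eq_smul_id_of_finrank_eq_one hd (h.lin a.2)).exists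
    have h1 : ∀ v : V, (a : G) • v = c • v := DFunLike.congr_fun hc
    simp only [coe_mul, mul_smul, h1, h.comm b.2])⟩⟩

theorem Tr.regular [Group.IsSolvable G] (h : Tr G V)
    (hr : ∀ v : V, v ≠ 0 → ∀ g : G, g • v = v → g = 1) (F : Type*) [Field F] [Finite F]
    (hF : Nat.card F = Nat.card V) : ((∃ e : V ≃+ F, ∀ g : G, ∃ (a : F) (τ : F ≃+* F),
      ∀ v : V, e (g • v) = a * τ (e v)) ∨ Nat.card V ∈ ({25, 49, 121, 529} : Set ℕ)) ∧
      (Odd (Nat.card V) → (∃ N : Subgroup G, N.index = 2) ∨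
      (Nat.card V = 25 ∧ Nonempty (G ≃* SL(2, ZMod 3))) ∨
      (Nat.card V = 121 ∧ Nonempty (G ≃* SL(2, ZMod 3) × Multiplicative (ZMod 5)))) := by
  obtain ⟨A, h1, h2, h3⟩ := exists_max_abelian (G := G)
  obtain ⟨M, hM⟩ := exists_AM A h3
  obtain ⟨K, _, _, _, σ, h4⟩ := h.exists_FS A h2
  by_cases hd : Module.finrank K V = 1
  · have := h4.isCyclic
    exact ⟨.inl (h4.semilinear hd F hF), fun h5 => .inl (index_two_of_centralizer_le
      (h.card_eq hr ▸ Nat.Odd.sub_odd h5 odd_one) A (h3 _ inferInstance (h4.isMulCommutative hd)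
      (le_centralizer A)))⟩
  · exact (h4.regular hM h hd hr).imp .inr fun h _ => h

end CF.Perm
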