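import Cfsg.Agent.Perm.HkU2

/-! The unitary case: identification. -/

set_option autoImplicit false
set_option linter.unusedSectionVars false

namespace CF.Hk
open MulAction Subgroup Cfsg CF.BG CF.Bender CF.ZD CF.Tw CF.Fisch
open scoped MatrixGroups

universe u v
variable {G : Type u} {Ω : Type v} [Group G] [Finite G] [MulAction G Ω] [Finite Ω]
variable {F K : Type} [Field F] [Fintype F] [Field K] [Fintype K]
variable {Q : Ω → Subgroup G} {α β γ : Ω} {a g h k s t u v w x y z : G} {pt : F → F → Ω} {π : SL(2, F) →* G}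
  {M N : Subgroup G} {A B J : SL(2, F)} {q : ℕ}

theorem sl2_normal (l : 3 < Fintype.card F) (N : Subgroup SL(2, F)) [hN : N.Normal] (h : ¬ N ≤ center _) : N = ⊤ :=
  eq_top_iff.2 (Classical.commutator_SL2_eq_top (F := F) (Nat.card_eq_fintype_card (α := F) ▸ l) ▸
    Subgroup.Normal.commutator_le_of_self_sup_commutative_eq_top ((rog_normal sl2_rog N hN).resolve_right h) upper_comm)

theorem cube_le {a b : ℕ} (l : 0 < b) (h : a * (a ^ 2 - 1) ≤ b * (b ^ 2 - 1)) : a ≤ b := by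
  by_contra! o
  exact h.not_gt (Nat.mul_lt_mul'' o (Nat.sub_lt_sub_right (Nat.one_le_pow _ _ l) (Nat.pow_lt_pow_left o two_ne_zero)))

/-- the centraliser of `φ (-1)` is abelian modulo the image of `φ` -/
def Cmp {X : Type*} [Group X] (φ : SL(2, K) →* X) : Prop :=
  Iv (φ (-1)) ∧ ⁅𝐂₁ (φ (-1)), 𝐂₁ (φ (-1))⁆ ≤ φ.range

theorem cmp_l3 (o : Odd (Fintype.card K)) : ∃ φ : SL(2, K) →* PSL(3, K), Cmp φ := by
  have h2 := JR.two_ne (Nat.card_eq_fintype_card (α := K) ▸ o)
  refine ⟨(FusB.jP K).comp Matrix.SpecialLinearGroup.toGL, ?_⟩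
  rw [Cmp, show (FusB.jP K).comp Matrix.SpecialLinearGroup.toGL (-1) = FusB.jP K (-1) from
    congrArg (FusB.jP K) (Units.ext (by simp))]
  refine ⟨iv_iff.2 (FusB.orderOf_jP h2), ?_⟩
  rw [← FusB.range_jP h2, commutator_le]
  rintro _ ⟨a, rfl⟩ _ ⟨b, rfl⟩
  obtain ⟨s, e⟩ := Classical.exists_toGL_eq (g := a * b * a⁻¹ * b⁻¹) (by
    have := Classical.dt2_ne_zero a
    have := Classical.dt2_ne_zero b
    simp only [Classical.dt2_mul, Classical.dt2_inv]
    field_simp)
  exact ⟨s, by rw [MonoidHom.comp_apply, e, ← map_commutatorElement, commutatorElement_def]⟩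

open Phan in
theorem cmp_u3 (hF : Fintype.card F = q ^ 2) (o : Odd q) : ∃ (K : Type) (_ : Field K) (_ : Fintype K)
    (φ : SL(2, K) →* PSU 3 F q), Fintype.card K = q ∧ Cmp φ := by
  classical
  obtain ⟨σ, h⟩ := exists_QF hF
  have h2 : (2 : F) ≠ 0 := JR.two_ne (by rw [Nat.card_eq_fintype_card, hF]; exact o.pow)
  let K : Subfield F := RingHom.eqLocusField σ (RingHom.id F)
  have hK : Fintype.card K = q := Nat.card_eq_fintype_card.symm.trans ((Nat.card_congr (Equiv.subtypeEquivRight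
    fun x => by simp [K, h.pow])).trans (Geom.card_fixed_eq h.card))
  obtain ⟨e⟩ := Classical.SU_two_equiv hK hF
  have hf : Function.Injective (Fin.castSucc : Fin 2 → Fin 3) := Fin.castSucc_injective 2
  let m : SU 2 F q := h.mku (-1) (by simp [Matrix.det_neg]) (by ext i j; simp [ct, Matrix.one_apply, eq_comm])
  let t : SU 3 F q := h.bl _ hf m
  have m2 : m * m = 1 := Subtype.ext (Subtype.ext (by simp [m]))
  have t2 : t * t = 1 := by rw [← map_mul, m2, map_one]
  have t1 : t ≠ 1 := fun z => h2 (by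
    have := h.bl_apply hf m 0 0
    rw [show h.bl _ hf m = 1 from z] at this
    simp [m] at this
    linear_combination this)
  have em : e (-1) = m := by
    rw [← e.eq_symm_apply, eq_comm]
    refine (sq_one (two_ne (hK ▸ o)) (by rw [← map_mul, m2, map_one])).resolve_left fun k => t1 ?_
    rw [e.symm_apply_eq, map_one] at k
    exact (congrArg (h.bl _ hf) k).trans (map_one _)
  have tB : t ∈ Bl F q {2}ᶜ := h.bl_mem hf m (by decide)
  have te : t • ev F (2 : Fin 3) = ev F 2 := tB 2 (by decide)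
  have key : ∀ g ∈ 𝐂₁ t, ∃ c : F, g • ev F 2 = c • ev F (2 : Fin 3) := fun g hg => by
    have e1 : t • g • ev F (2 : Fin 3) = g • ev F 2 := by rw [smul_smul, ← mem_cent1.1 hg, mul_smul, te]
    have e2 : ∀ a : Fin 2, (g • ev F (2 : Fin 3)) a.castSucc = 0 := fun a => by
      have := congrFun e1 a.castSucc
      have e3 : t.1.1 a.castSucc 2 = 0 := by rw [← smul_ev, te]; exact ev_ne (Fin.castSucc_lt_last a).ne
      rw [Phan.smul_def t, Matrix.mulVec, dotProduct, Fin.sum_univ_castSucc, show Fin.last 2 = 2 from rfl, e3] at this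
      simp only [t, h.bl_apply, m, QF.val_mku, Matrix.neg_apply, Matrix.one_apply] at this
      simp at this
      exact (mul_eq_zero.1 (by linear_combination -this)).resolve_left h2
    refine ⟨(g • ev F (2 : Fin 3)) 2, funext fun i => ?_⟩
    fin_cases i
    exacts [(e2 0).trans (by simp [ev_apply]), (e2 1).trans (by simp [ev_apply]), by simp [ev_apply]]
  have cm : ⁅𝐂₁ t, 𝐂₁ t⁆ ≤ (h.bl _ hf).range := commutator_le.2 fun g hg k hk => h.exists_bl hf (s := {2}ᶜ) (by decide)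
    fun j hj => by
      obtain rfl : j = 2 := by simpa using hj
      obtain ⟨c, e1⟩ := key _ (inv_mem hg)
      obtain ⟨d, e2⟩ := key _ (inv_mem hk)
      have : g⁻¹ • k⁻¹ • ev F 2 = k⁻¹ • g⁻¹ • ev F (2 : Fin 3) := by
        rw [e1, e2, smul_smul', smul_smul', e1, e2, smul_comm]
      rw [commutatorElement_def, mul_smul, mul_smul, mul_smul, this, smul_inv_smul, smul_inv_smul]
  have ko : PiGrp {2}ᶜ (QuotientGroup.mk' (center (SU 3 F q))).ker := by
    rw [QuotientGroup.ker_mk', PiGrp, Cfsg.Agent.S0279.result hF 3 le_rfl]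
    exact ((piNat_compl_single p2).2 (by decide)).dvd (Nat.gcd_dvd_left 3 _)
  have e1 := Sig.map_cent1_of_ker (QuotientGroup.mk'_surjective _) ko (piElt_of_pow_eq_one p2 ((sq t).trans t2))
  refine ⟨K, inferInstance, inferInstance, (QuotientGroup.mk' _).comp ((h.bl _ hf).comp e.toMonoidHom), hK, ?_⟩
  rw [Cmp, show (QuotientGroup.mk' _).comp ((h.bl _ hf).comp e.toMonoidHom) (-1) = QuotientGroup.mk' _ t from
    congrArg (fun x => QuotientGroup.mk' _ (h.bl _ hf x)) em]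
  refine ⟨⟨fun z => t1 ((piElt_of_pow_eq_one p2 ((sq t).trans t2)).eq_one (ko.elt z)), by rw [← map_mul, t2, map_one]⟩, ?_⟩
  rw [← e1, ← map_commutator, map_le_iff_le_comap]
  refine cm.trans ?_
  rintro _ ⟨g, rfl⟩
  exact ⟨e.symm g, by simp⟩

namespace B1
variable (C : B1 Q t pt π)
include C

theorem q_eq' (o : Odd (Fintype.card K)) (φ : SL(2, K) →* G) (z : φ (-1) = t) (cm : ⁅𝐂₁ t, 𝐂₁ t⁆ ≤ φ.range) :
    Fintype.card K = Fintype.card F := by
  have h3 := three_le C.T.two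
  have h3' := three_le (two_ne o)
  have a : 3 < Fintype.card F → Fintype.card F ≤ Fintype.card K := fun l => cube_le Fintype.card_pos (by
    rw [← C.card_L, ← Classical.card_SL_two]
    refine (card_le_of_le (le_trans ?_ cm)).trans (Nat.le_of_dvd Nat.card_pos (card_range_dvd φ))
    rw [π.range_eq_map, ← Classical.commutator_SL2_eq_top (Nat.card_eq_fintype_card (α := F) ▸ l), commutator_def,
      map_commutator, ← π.range_eq_map]
    exact commutator_mono C.le_C C.le_C)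
  suffices b : 3 < Fintype.card K → Fintype.card K ≤ Fintype.card F by omega
  intro l
  have inj : Function.Injective φ := (injective_iff_map_eq_one φ).2 fun A e => by
    by_cases k : φ.ker ≤ center _
    · exact (sl2_center_cases (k e)).resolve_right fun k => C.t1 (by rw [← z, ← k, e])
    · exact absurd (z ▸ (sl2_normal l _ k).ge trivial) C.t1
  have c : ∀ A, φ A ∈ 𝐂₁ t := fun A => mem_cent1.2 (by rw [← z, ← map_mul, ← map_mul]; simp)
  have : (π.range.comap φ).Normal := ⟨fun A m B => by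
    simpa only [mem_comap, map_mul, map_inv] using conj_mem_of_norm (C.L_norm.norm (c B)) m⟩
  have e := sl2_normal l (π.range.comap φ) fun k => by
    obtain ⟨A, e⟩ := cm (commutator_mem_commutator (C.le_C ⟨upT 1, rfl⟩) (C.le_C ⟨loT 1, rfl⟩))
    rw [← map_commutatorElement, commutatorElement_def] at e
    refine up_lo ((sl2_center_cases (k (show φ A ∈ π.range from ⟨_, e.symm⟩))).imp ?_ ?_) C.T.two <;> rintro rfl
    · rw [map_one, eq_comm, ← map_one π, C.inj.eq_iff, mul_inv_eq_one, mul_inv_eq_iff_eq_mul] at e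
      exact e
    · rw [z, eq_comm, ← C.z, C.inj.eq_iff, mul_inv_eq_iff_eq_mul, mul_inv_eq_iff_eq_mul] at e
      simpa using e
  refine cube_le Fintype.card_pos ?_
  rw [← C.card_L, ← Classical.card_SL_two, Nat.card_congr (MonoidHom.ofInjective inj).toEquiv]
  exact card_le_of_le (by rintro _ ⟨A, rfl⟩; exact e.ge trivial)

theorem q_eq {X : Type*} [Group X] [Finite X] (e : G ≃* X) (one : ∀ u, Iv u → IsConj t u) (o : Odd (Fintype.card K))
    {φ : SL(2, K) →* X} (c : Cmp φ) : Fintype.card K = Fintype.card F := by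
  obtain ⟨g, k⟩ := isConj_iff.1 (one (e.symm (φ (-1))) (iv_iff.2 ((e.symm.orderOf_eq _).trans c.1.orderOf)))
  let f := (MulAut.conj g).trans e
  have ft : f t = φ (-1) := by simp [f, k]
  refine C.q_eq' o (f.symm.toMonoidHom.comp φ) (f.symm_apply_eq.2 ft.symm) (commutator_le.2 fun x hx y hy => ?_)
  have m : ∀ {x}, x ∈ 𝐂₁ t → f x ∈ 𝐂₁ (φ (-1)) := fun h => mem_cent1.2 (by rw [← ft, ← map_mul, ← map_mul, mem_cent1.1 h])
  obtain ⟨A, a⟩ := c.2 (commutator_mem_commutator (m hx) (m hy))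
  exact ⟨A, f.symm_apply_eq.2 (a.trans (map_commutatorElement f x y).symm)⟩

theorem no_l2 (o : Odd (Fintype.card K)) (l : 5 ≤ Fintype.card K) (e : G ≃* PSL(2, K)) : False := by
  rw [← Nat.card_eq_fintype_card] at o l
  obtain ⟨T, κ, κ', j⟩ := (Ab2.l2q_of_iso (JR.two_ne o) (by omega) (topEquiv.trans e)).self
  have i := C.iv.orderOf
  have l := (j.T_le t trivial i).trans inf_le_right
  have c := card_mul_relIndex l
  rw [← top_inf_eq (𝐂₁ t), j.card_C t trivial i, mul_comm 2, top_inf_eq] at c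
  have c := Nat.eq_of_mul_eq_mul_left (card_pos' _) c
  have ab := (j.T_cyc t trivial i).abel.mono (Ko.R2_le_of (normalIn_of_two l c.dvd).norm ((piNat_self p2).dvd c.dvd))
  exact C.ncm (ab.mul_comm (Ko.mem_R2 (C.le_C ⟨_, rfl⟩) (C.rs.pi'.elt (C.T.root 1)))
    (Ko.mem_R2 (C.le_C ⟨_, rfl⟩) (C.rs.pi'.elt (C.T.root' C.rs 1))))

set_option synthInstance.maxSize 1000 in
theorem small (q3 : Fintype.card F % 4 = 3) {N : ℕ} (d : Nat.card G ∣ N) (k : N = 62400 ∨ N = 2520 ∨ N = 7920) :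
    False := by
  have d1 := (C.card_L ▸ card_subgroup_dvd_card π.range).trans d
  replace d := (C.t2.card C.T.ab ▸ Dvd.intro_left _ rfl : _ ∣ Nat.card G).trans d
  have l := le_of_mul ((Nat.le_of_dvd (by omega) d).trans (show N ≤ (250 + 1) * 250 by omega))
  have l1 := cube_le (b := 40) (by decide) ((Nat.le_of_dvd (by omega) d1).trans (by omega))
  have h : 8 ∣ Nat.card Ω → 8 ∣ Fintype.card F + 1 := fun e =>
    ((Nat.coprime_two_left.2 (Ko.odd_idx C.iv fun _ => C.one q3)).pow_left 3).dvd_of_dvd_mul_right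
      (C.cnt ▸ (e.mul_right _).mul_right _) |> ((Nat.coprime_two_left.2 (Nat.odd_iff.2 (by omega))).pow_left 3).dvd_of_dvd_mul_right
  have h1 := C.lt
  have h2 := C.mod4
  have h3 := C.dvd
  generalize Fintype.card F = q at *
  generalize Nat.card Ω = n at *
  have : q = 3 ∨ q = 11 := by
    clear d h h1 h2 h3
    revert q3 d1
    revert q
    rcases k with rfl | rfl | rfl <;> decide +kernel
  clear d1 l1
  revert d h h1 h2 h3
  revert n
  rcases this with rfl | rfl <;> rcases k with rfl | rfl | rfl <;> decide +kernel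

theorem idx : ∃ H : Subgroup G, H ≠ ⊤ ∧ H.index = Nat.card Ω := by
  have := C.t2.index1 C.T.ab
  exact ⟨_, fun e => by rw [e, index_top] at this; have := C.big; omega, this⟩

theorem idx' {X : Type*} [Group X] (e : G ≃* X) : ∃ H : Subgroup X, H ≠ ⊤ ∧ H.index = Nat.card Ω := by
  obtain ⟨H, n, k⟩ := C.idx
  have := index_comap_of_surjective (f := e.symm.toMonoidHom) H e.symm.surjective
  exact ⟨_, fun z => n (index_eq_one.1 (by rw [← this, z, index_top])), this.trans k⟩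

theorem no_l3 (q3 : Fintype.card F % 4 = 3) (o : Odd (Fintype.card K)) (e : G ≃* PSL(3, K)) : False := by
  obtain ⟨φ, c⟩ := cmp_l3 o
  have one := fun u => C.one q3 (u := u)
  have q := C.q_eq e one o c
  obtain ⟨u, i, k⟩ := Ko.idx_l3 o
  have d := C.cnt
  rw [Ko.idx_eq e i one, k, ← q] at d
  obtain ⟨H, k1, k2⟩ := C.idx' e
  have l := (Cfsg.Agent.S2140.result rfl 3 le_rfl (by simp)).1 H k1
  obtain ⟨p, hp⟩ := CharP.exists K
  obtain ⟨j, pp, hq⟩ := FiniteField.card K p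
  have q1 := Fintype.one_lt_card (α := K)
  obtain ⟨r, hr⟩ : ∃ r, Fintype.card K = r + 1 := ⟨_, (Nat.sub_add_cancel q1.le).symm⟩
  rw [hr, Nat.add_sub_cancel, show (r + 1) ^ 3 - 1 = r * ((r + 1) ^ 2 + (r + 1) + 1) from Nat.sub_eq_of_eq_add (by ring),
    Nat.mul_div_cancel_left _ (by omega), k2, ← hr] at l
  exact num3 pp hq o q1 C.even l (Dvd.intro _ (d.trans (by ring)))

theorem of_u3 (hK : Fintype.card K = q ^ 2) (o : Odd q) (e : G ≃* PSU 3 K q)
    (h : ∃ g ∈ D2 G (pt 1 0) (pt 0 1), S1 pt g ∧ ¬ Dp pt g) : CU Q := by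
  have one : ∀ u, Iv u → IsConj t u := fun y j => by
    simpa using e.symm.toMonoidHom.map_isConj (psu_one hK o (iv_iff.2 ((e.orderOf_eq _).trans C.iv.orderOf))
      (iv_iff.2 ((e.orderOf_eq _).trans j.orderOf)))
  obtain ⟨K', _, _, φ, hq, c⟩ := cmp_u3 hK o
  have eq := hq.symm.trans (C.q_eq e one (hq ▸ o) c)
  have q3 := eq ▸ three_le C.T.two
  obtain ⟨r, rfl⟩ : ∃ r, q = r + 1 := ⟨_, (Nat.succ_pred_eq_of_pos o.pos).symm⟩
  obtain ⟨u, i, k⟩ := Ko.idx_u3 hK o
  have d := C.cnt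
  rw [Ko.idx_eq e i one, k, ← eq, show (r + 1 + 1) * (r + 1) * ((r + 1) ^ 2 * (r ^ 2 + r + 1)) =
    ((r + 1) ^ 3 + 1) * (r + 1) ^ 3 by ring] at d
  have le := le_of_mul (Nat.le_of_dvd (by positivity) (Dvd.intro _ d))
  obtain ⟨H, k1, k2⟩ := C.idx' e
  have n : Nat.card Ω = (r + 1) ^ 3 + 1 := by
    rcases MH.Idx.psu3_index hK q3 k1 with l | ⟨f, l⟩
    · exact le_antisymm le (k2 ▸ l)
    · have := C.mod4
      rw [k2] at l
      rw [← eq, f] at this
      rw [f] at le d ⊢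
      exact (by decide : ∀ n ≤ 126, 50 ≤ n → n % 4 = 2 → n * (n - 1) ∣ 15750 → n = 126) _ le l this (Dvd.intro _ d)
  rw [n, Nat.add_sub_cancel, mul_eq_left₀ (by positivity), relIndex_eq_one] at d
  have d1 := card_quotient_dvd_card (center (SU 3 K (r + 1)))
  rw [card_SU3 hK, ← Nat.card_congr e.toEquiv, C.t2.card C.T.ab, n, Nat.add_sub_cancel, mul_comm (_ ^ 3), mul_assoc,
    mul_comm (_ ^ 3), Nat.mul_dvd_mul_iff_right (by positivity)] at d1
  obtain ⟨g, n', c'⟩ := C.zstar C.nr C.iv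
  obtain ⟨x, x1, x2⟩ := h
  refine ⟨⟨F, _, _, pt, π, cl_univ, C.T.congr (by rw [C.z, Set.univ_inter]), C.z ▸ C.t1,
    fun y _ k _ => C.ff y fun a => k a trivial, fun y _ k i => C.z ▸ C.uq y k i (mem_cent1.1 (d k)),
    by rw [Set.ncard_univ, n, eq], ⟨g, C.mem g, ?_⟩, ⟨x, C.mem x, x1, x2⟩, fun y _ k => ⟨_, ?_,
      (orderOf_dvd_iff_pow_eq_one.1 (orderOf_dvd_natCard _ k)).symm ▸ one_mem _⟩⟩, K, _, _, _, hK, o, ⟨e⟩⟩
  · rw [C.z]
    exact ⟨c'.symm, fun γ _ => C.fpf (C.iv.conj g) c'.symm n' γ⟩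
  · rw [← eq]
    exact Nat.Coprime.coprime_dvd_left d1 (by
      rw [show (r + 1) ^ 2 - 1 = r * (r + 2) from Nat.sub_eq_of_eq_add (by ring)]
      exact Nat.Coprime.mul_left (by simp) (by simp [show r + 2 = r + 1 + 1 from rfl, -Nat.reduceAdd]))

theorem q1 (q1 : Fintype.card F % 4 = 1) : CU Q := by
  have : Fact (Nat.Prime 2) := ⟨p2⟩
  let _ := Fintype.ofFinite Ω
  have := C.t2.faith
  obtain ⟨g, n, c⟩ := C.zstar C.nr C.iv
  have r := C.tr (C.iv.conj g) c.symm n
  have h := C.mvD c.symm r.1.s1 fun k => by have := r.2.1 k; omega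
  have := C.simple h
  have n4 : Nat.card Ω % 4 = 2 := by have := C.mod4; omega
  obtain ⟨T, hT⟩ := IsPGroup.exists_le_sylow (p := 2) (P := zpowers (⟨t, C.tD⟩ : D2 G (pt 1 0) (pt 0 1)))
    (IsPGroup.of_card (n := 1) (by rw [Nat.card_zpowers, ← Subgroup.orderOf_coe, C.iv.orderOf]; rfl))
  have s := syl_sylow T
  have tT : t ∈ (T : Subgroup _).map (D2 G (pt 1 0) (pt 0 1)).subtype := mem_map_of_mem _ (hT (mem_zpowers _))
  obtain ⟨z, hz, j⟩ := exists_iv_of_pi (s.pi.inf_left (K := 𝐂 _)) (s.pi.center_ne_bot (ne_bot_of_mem tT C.t1))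
  obtain rfl := (C.uq z (s.le hz.1) j (mem_cent.1 hz.2 t tT).symm).symm
  obtain ⟨M, nM, M1, -, -, k⟩ := Cfsg.Agent.S3402.result C.t2.two (Nat.card_eq_fintype_card (α := Ω) ▸ n4)
    (Nat.card_eq_fintype_card (α := Ω) ▸ C.big) _ _ C.T.ab T (.inr ⟨⟨t, C.tD⟩, hT (mem_zpowers _),
      (Subgroup.orderOf_coe _).symm.trans C.iv.orderOf, fun x hx x1 ω e => by
        have l := zpowers_le.2 (mem_map_of_mem (D2 G (pt 1 0) (pt 0 1)).subtype hx)
        obtain ⟨y, hy, i⟩ := exists_iv_of_pi (s.pi.le l) (ne_bot_of_mem (mem_zpowers _) fun e => x1 (Subtype.ext e))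
        have k : y • ω = ω := (zpowers_le (H := stabilizer G ω)).2 e hy
        rwa [C.uq y (s.le (l hy)) i (mem_cent.1 hz.2 y (l hy))] at k⟩)
  obtain rfl := (nM.eq_bot_or_eq_top).resolve_left M1
  rw [← Nat.card_eq_fintype_card] at k
  have := C.lt
  have := three_le C.T.two
  rcases k with ⟨c, -⟩ | ⟨K, _, _, l, c, ⟨e⟩⟩ | ⟨K, _, _, q, hK, l, c, ⟨e⟩⟩
  · omega
  · exact (C.no_l2 (Nat.odd_iff.2 (by omega)) (by omega) (topEquiv.symm.trans e)).elim
  refine C.of_u3 hK (by_contra fun o => ?_) (topEquiv.symm.trans e) h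
  have := (Nat.not_odd_iff_even.1 o).pow_of_ne_zero (n := 3) (by decide)
  rw [Nat.even_iff] at this
  omega

theorem q3 (q3 : Fintype.card F % 4 = 3) : CU Q := by
  have := C.simple (C.nsq3 q3)
  rcases Cfsg.Agent.S0482.result (fun h => C.ncm (h.is_comm.comm _ _)) (C.rank q3) with ⟨K, _, _, o, l, ⟨e⟩⟩ |
    ⟨K, _, _, o, ⟨e⟩⟩ | ⟨K, _, _, q, c, o, ⟨e⟩⟩ | ⟨K, _, _, c, ⟨e⟩⟩ | ⟨⟨e⟩⟩ | c
  · exact (C.no_l2 o l e).elim
  · exact (C.no_l3 q3 o e).elim
  · exact C.of_u3 c o e (C.nsq3 q3)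
  · refine (C.small q3 ?_ (.inl rfl)).elim
    have := card_quotient_dvd_card (center (SU 3 K 4))
    rwa [card_SU3 (q := 4) c, ← Nat.card_congr e.toEquiv] at this
  · exact (C.small q3 (by rw [Nat.card_congr e.toEquiv, Nat.card_eq_fintype_card, card_alternatingGroup]; rfl)
      (.inr (.inl rfl))).elim
  · exact (C.small q3 c.2.dvd (.inr (.inr rfl))).elim

end B1

theorem CB.b1 (C : CB Q) (T : TLd Q (FE Ω t) pt π) (z : π (-1) = t) (t1 : t ≠ 1)
    (uq : ∀ y ∈ D2 G (pt 1 0) (pt 0 1), Iv y → y * t = t * y → y = t) : CU Q := by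
  have B : B1 Q t pt π := ⟨C, T, z, t1, uq⟩
  have := card_odd T.two
  by_cases q1 : Fintype.card F % 4 = 1
  exacts [B.q1 q1, B.q3 (by omega)]

end CF.Hk
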