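import Cfsg.Agent.Perm.HkR2
import Cfsg.Agent.Perm.HkU3
import Cfsg.Agent.Ree.E1
import Cfsg.Agent.JR.Ree4

/-! The rank one case: identification of the Ree type. -/

set_option autoImplicit false
set_option linter.unusedSectionVars false

namespace CF.Hk
open MulAction Subgroup Cfsg CF.BG CF.Bender CF.ZD CF.Tw CF.Fisch
open scoped MatrixGroups

universe u v
variable {G : Type u} {Ω : Type v} [Group G] [Finite G] [MulAction G Ω] [Finite Ω]
variable {F : Type} [Field F] [Fintype F]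
variable {Q : Ω → Subgroup G} {Δ : Set Ω} {α β γ : Ω} {g h k l r s t u v w x y z : G} {pt : F → F → Ω} {π : SL(2, F) →* G}
  {K M N S V : Subgroup G}

theorem ree_num {n m q : ℕ} (q2 : q % 2 = 1) (e : n * (n - 1) * m = (q + 1) * q * (q ^ 2 * (q ^ 2 - q + 1)))
    (d : q ∣ n - 1) (l : q + 1 < n) (ev : n % 2 = 0) : n = q ^ 3 + 1 ∧ m = 1 := by
  obtain ⟨x, hx⟩ := d
  obtain rfl : n = q * x + 1 := by omega
  have q0 : 0 < q := by omega
  have x2 : 2 ≤ x := by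
    rcases x with _ | _ | x <;> omega
  rw [Nat.add_sub_cancel, show (q + 1) * q * (q ^ 2 * (q ^ 2 - q + 1)) = q ^ 3 * (q ^ 3 + 1) by
    zify [Nat.le_self_pow two_ne_zero q]; ring] at e
  obtain ⟨c, hc⟩ := Nat.Coprime.dvd_of_dvd_mul_left (Nat.Coprime.pow_right 3 (by simp : (q * x + 1).Coprime q))
    ⟨_, e.symm.trans (mul_assoc _ _ _)⟩
  obtain ⟨c, rfl⟩ : ∃ b, c = b + 1 := ⟨c - 1, by rcases c with _ | c <;> simp at hc ⊢⟩
  obtain ⟨y, rfl⟩ : q ∣ c := (Nat.dvd_add_right ⟨x * (c + 1), rfl⟩).1 ⟨q ^ 2, by linarith⟩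
  have h1 : q ^ 2 = x + y + q * (x * y) := Nat.eq_of_mul_eq_mul_left q0 (by linarith)
  rcases y with _ | y
  · obtain rfl : x = q ^ 2 := by omega
    refine ⟨by ring, Nat.eq_of_mul_eq_mul_left (show 0 < q ^ 3 * (q ^ 3 + 1) by positivity) ?_⟩
    rw [mul_one]; nth_rw 2 [← e]; ring
  obtain ⟨k, hk⟩ : q ∣ x + (y + 1) := (Nat.dvd_add_left ⟨x * (y + 1), rfl⟩).1 ⟨q, by linarith⟩
  have h2 : q = k + x * (y + 1) := Nat.eq_of_mul_eq_mul_left q0 (by linarith)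
  obtain ⟨k, rfl⟩ : ∃ b, k = b + 1 := ⟨k - 1, by rcases k with _ | k <;> simp at hk ⊢⟩
  obtain rfl : y = 0 := by nlinarith [Nat.zero_le (q * k)]
  obtain rfl : k = 0 := by nlinarith
  obtain rfl : q = x + 1 := by omega
  have := Nat.even_iff.1 (Nat.even_mul_succ_self x)
  rw [mul_comm] at ev; omega

theorem walter2 (n : Ab2.NS (⊤ : Subgroup G)) (hS : Syl 2 S ⊤) (e : Abel S) (c : ♯S = 8) (i : GW.Iv t) :
    (∀ a b : G, GW.Iv a → GW.Iv b → IsConj a b) ∧ ((𝐂₁ t).index = 63 ∧ (∀ y ∈ 𝐂₁ t, y * y = 1) ∨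
      ∃ K q, 3 < q ∧ JR.JJ t K K q ∧ (q % 4 = 3 → JR.ReT t K q)) := by
  have := n.simple_top
  rcases Ab2.walter (Ab2.abS_top hS e) n with k | ⟨V, k, c'⟩ | j
  · obtain ⟨H, k⟩ := k.top
    obtain ⟨F, _, _, ⟨m, l, cF⟩, ⟨f⟩⟩ := Ab2.l2_of_se k hS e
    have sq : ∀ y ∈ 𝐂₁ t, y * y = 1 := fun y hy => JR.l2e_sq (by omega) cF f i hy
    refine ⟨fun a b => Invol.se_isConj k, .inl ⟨?_, sq⟩⟩
    obtain ⟨g, -, l'⟩ := hS.syl_le_cj le_top i.piGrp
    have h1 := (hS.cj_top g).eq_of_le (le_cent1_iff.2 (abel_cj.2 e (l' (mem_zpowers t)))) le_top (pi_of_sq sq)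
    have h2 := (𝐂₁ t).card_mul_index
    have h3 := Classical.card_PSL_two (F := F)
    have o : ∀ j, Odd (2 ^ (j + 1) - 1) := fun j => Nat.Even.sub_odd Nat.one_le_two_pow (by simp [pow_succ]) odd_one
    obtain ⟨m, rfl⟩ : ∃ b, m = b + 1 := ⟨m - 1, by omega⟩
    rw [← Nat.card_congr f.toEquiv, cF, (Nat.coprime_two_left.2 (o m)).gcd_eq_one, one_mul, ← pow_mul] at h3
    have h4 : 2 ^ (m + 1) = 8 := Nat.dvd_antisymm (c ▸ hS.dvd_card (by rw [card_top', h3]; exact dvd_mul_right _ _)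
      (piNat_pow_self p2 _)) (Nat.Coprime.dvd_of_dvd_mul_right (Nat.Coprime.pow_left 3 (Nat.coprime_two_left.2
        (o ((m + 1) * 2 - 1)))) (by
          rw [show (m + 1) * 2 - 1 + 1 = (m + 1) * 2 by omega, ← h3, ← c]; exact card_subgroup_dvd_card S))
    rw [← h1, card_cj, c, h3, pow_mul, h4] at h2
    rw [← h1]; omega
  · have := hS.card_eq k; omega
  obtain ⟨S, s, ab, c8, tr⟩ := j.syl
  obtain ⟨t, tS, i'⟩ := GW.exists_iv (K := S) (by rw [c8]; decide)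
  obtain ⟨E, K, d, nK, lK, ns, s4, cK, o⟩ := (j.cent t trivial i').dprod trivial i'
    (s.of_le (le_inf le_top (le_cent1_iff.2 (ab.abel tS))) le_top) c8
  obtain ⟨k, _, _, q8, -, q3, e⟩ := s4.top.psl ns.top
  rw [top_inf_eq] at d nK
  have J : JR.JJ t K E (Fintype.card k) := ⟨i', fun a b ia ib => by
    obtain ⟨g, -, l⟩ := s.syl_cj_le le_top ia.piGrp
    obtain ⟨g', -, l'⟩ := s.syl_cj_le le_top ib.piGrp
    obtain ⟨x, -, e⟩ := tr _ (l (conj_mem_cj.2 (mem_zpowers a))) (ia.conj g).ne_one _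
      (l' (conj_mem_cj.2 (mem_zpowers b))) (ib.conj g').ne_one
    exact isConj_iff.2 ⟨g'⁻¹ * x * g, by
      rw [show _ * (g'⁻¹ * x * g)⁻¹ = g'⁻¹ * (x * (g * a * g⁻¹) * x⁻¹) * g' by group, e]; group⟩,
    d, nK.of_le lK d.right_le, cK, o, q8, k, _, _, rfl, e⟩
  have c := Ab2.jmain G t K E _ J
  obtain rfl := c.eq n.perf
  obtain ⟨g, rfl⟩ := isConj_iff.1 (J.one _ _ i' i)
  refine ⟨J.one, .inr ⟨_, _, q3, J.cj g, fun q4 => ?_⟩⟩
  rcases c.idx with ⟨m, o, q, c⟩ | ⟨q, -⟩ | ⟨q, -⟩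
  exacts [⟨J.cj g, ⟨m, o, q⟩, by rw [← cj_cent1, index_cj, c]⟩, by omega, by omega]

theorem Pd.cent2 (P : Pd Δ pt) (hr : S1 pt r) (n : r * r ∉ Pt G Δ) (hx : Tr pt x) (hy : Tr pt y) (c1 : r * x = x * r)
    (c' : r * y = y * r) : x * y ∈ Pt G Δ := by
  obtain ⟨a, b, c, d, h⟩ := hr
  have h2 := P.two
  have key : ∀ {x e f g}, Rep pt x e f g (-e) ι₀ → r * x = x * r → b * g = f * c ∧ f * (a - d) = 2 * b * e ∧ g * (a - d) = 2 * c * e :=
    fun {x e f g} k cm => by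
      obtain ⟨-, s, s0, f1, f2, f3, f4⟩ := P.uniq (h.mul' k) (cm ▸ k.mul' h)
      have hs : s * s = 1 := mul_left_cancel₀ (mul_ne_zero h.det k.det) (by
        linear_combination -(g * b + -e * d) * f1 - s * (a * e + b * g) * f4 + (g * a + -e * c) * f2 + s * (a * f + b * -e) * f3)
      rcases mul_self_eq_one_iff.1 hs with rfl | rfl
      · exact ⟨by linear_combination -f1, by linear_combination -f2, by linear_combination f3⟩
      refine (n (P.tr_sq ⟨a, b, c, h.cast rfl rfl rfl (mul_left_cancel₀ (mul_ne_zero h2 k.det) ?_) rfl⟩)).elim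
      linear_combination -e * f1 - g * f2 - f * f3 + e * f4
  obtain ⟨e, f, g, k⟩ := hx
  obtain ⟨e', f', g', k'⟩ := hy
  obtain ⟨h1, h3, h4⟩ := key k c1
  obtain ⟨h1', h3', h4'⟩ := key k' c'
  obtain ⟨x1, x2, x3⟩ : e * f' = e' * f ∧ e * g' = e' * g ∧ f * g' = f' * g := by
    by_cases b0 : b = 0
    · by_cases c0 : c = 0
      · have d0 : a - d ≠ 0 := fun k => n (P.Pt_of (r := a * a) ((h.mul' h).cast (by simp [b0]) (by simp [b0]) (by simp [c0])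
          (by simp [c0, sub_eq_zero.1 k]) rfl))
        exact ⟨mul_left_cancel₀ d0 (by linear_combination e * h3' - e' * h3), mul_left_cancel₀ d0 (by linear_combination e * h4' - e' * h4),
          mul_left_cancel₀ d0 (by linear_combination g' * h3 - g * h3' + 2 * (e * g' - e' * g) * b0)⟩
      have x3 : f * g' = f' * g := mul_left_cancel₀ c0 (by linear_combination g * h1' - g' * h1)
      exact ⟨mul_left_cancel₀ (mul_ne_zero h2 c0) (by linear_combination f * h4' - f' * h4 - (a - d) * x3),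
        mul_left_cancel₀ (mul_ne_zero h2 c0) (by linear_combination g * h4' - g' * h4), x3⟩
    have x3 : f * g' = f' * g := mul_left_cancel₀ b0 (by linear_combination f * h1' - f' * h1)
    exact ⟨mul_left_cancel₀ (mul_ne_zero h2 b0) (by linear_combination f * h3' - f' * h3),
      mul_left_cancel₀ (mul_ne_zero h2 b0) (by linear_combination g * h3' - g' * h3 + (a - d) * x3), x3⟩
  exact P.Pt_of (r := e * e' + f * g') ((k.mul' k').cast rfl (by linear_combination x1) (by linear_combination -x2)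
    (by linear_combination -x3) rfl)

theorem RK.sq_sup {j : ℕ} (J : RK Q t j) (R : RS Q) (l : V ≤ LF Q t) (sq : ∀ x ∈ V, x * x = 1) :
    ∀ x ∈ zpowers t ⊔ V, x * x = 1 := fun x hx => by
  have c : V ≤ 𝐂 (zpowers t) := fun x hx => by rw [cent_zpowers]; exact mem_cent1.2 (J.lc R (l hx))
  obtain ⟨y, hy, z, hz, rfl⟩ := (mem_sup_norm' (norm_of_cent c)).1 hx
  rw [mul_assoc, ← mul_assoc z, ← mem_cent.1 (c hz) y hy, mul_assoc, sq z hz, mul_one, ← pow_two, ← J.iv.card]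
  exact congrArg Subtype.val (pow_card_eq_one' (x := (⟨y, hy⟩ : zpowers t)))

/-- the standing hypotheses -/
structure B2 (Q : Ω → Subgroup G) (t : G) (pt : F → F → Ω) (π : SL(2, F) →* G) : Prop extends CB Q where
  T : TLd Q (FE Ω t) pt π
  z : π (-1) = 1
  iv : Iv t
  uq : ∀ y ∈ D2 G (pt 1 0) (pt 0 1), Iv y → y * t = t * y → y = t

namespace B2
variable (C : B2 Q t pt π)
include C

theorem tD : t ∈ D2 G (pt 1 0) (pt 0 1) := ⟨C.T.ma, C.T.mb⟩

theorem uq' : ∀ y, Iv y → y * t = t * y → ∀ γ : Ω, t • γ = γ → y • γ = γ → y = t :=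
  C.rs.uq_of C.T.two_lt C.T.ab C.tD C.uq

theorem L_Pt (hl : l ∈ LF Q t) (hk : l ∈ Pt G (FE Ω t)) : l = 1 := (C.T.L_Pt C.rs hl hk).elim id (·.trans C.z)

theorem cpi (A : SL(2, F)) : π A * t = t * π A := (C.T.Pt_comm C.rs self_Pt A).symm

theorem nsq : ¬ IsSquare (-1 : F) := by
  rintro ⟨a, e⟩
  have a0 : a ≠ 0 := by rintro rfl; simp at e
  have n : π (hT a) ∉ Pt G (FE Ω t) := fun k => C.T.two (by
    have := (C.T.sc_one (C.T.sc_hT a0)).1 k; linear_combination -this - e)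
  exact n (C.uq _ (C.T.hT_D a0) ⟨fun k => n (k ▸ one_mem _), by
    rw [← map_mul, hT_mul a0 a0, ← e, hT_neg_one, C.z]⟩ (C.cpi _) ▸ self_Pt)

theorem q3 : Fintype.card F % 4 = 3 := by
  have := mt (neg_one_sq C.T.two).2 C.nsq
  have := card_odd C.T.two
  omega

theorem oq : Odd (Fintype.card F) := Nat.odd_iff.2 (card_odd C.T.two)

theorem tr (i : Iv y) (c : y * t = t * y) (n : y ≠ t) : Tr pt y ∧ Dp pt y :=
  (C.T.tr_of_fpf C.rs (cent_St c) (i.sq ▸ one_mem _) fun γ hγ e => n (C.uq' y i c γ hγ e)).imp_right (·.2 C.q3)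

theorem isL : JR.IsL (Fintype.card F) (LF Q t) := by
  refine ⟨F, _, _, rfl, ⟨((QuotientGroup.quotientMulEquivOfEq (Subgroup.ext fun M => ⟨fun e => ?_, fun e => ?_⟩)).trans
    ((QuotientGroup.quotientKerEquivRange π).trans (MulEquiv.subgroupCongr (C.T.L_eq C.rs).symm))).symm⟩⟩
  · rcases sl2_center_cases e with rfl | rfl
    exacts [one_mem _, C.z]
  · rcases C.T.ker M (by rw [show π M = 1 from e]; exact one_mem _) with rfl | rfl
    exacts [one_mem _, mem_center_iff.2 fun g => by simp]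

theorem rk : RK Q t 4 where
  iv := C.iv
  big := C.T.two_lt
  uq := C.uq'
  nt := fun h => C.iv.ne (C.L_Pt h self_Pt)
  dec := fun y i c m => by
    by_cases n : y = t
    · rw [n, C.iv.sq]; exact one_mem _
    obtain ⟨M, k, hk, rfl⟩ := C.T.kl C.rs (C.tr i c n).1.s1 (C.tr i c n).2
    have ck := C.T.Pt_comm C.rs hk M
    have s := i.sq
    rw [mul_assoc, ← mul_assoc k, ck, mul_assoc, ← mul_assoc] at s
    rw [C.L_Pt (mul_mem (C.T.mem_L C.rs M) (C.T.mem_L C.rs M)) (eq_inv_of_mul_eq_one_left s ▸ inv_mem (mul_mem hk hk)),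
      one_mul] at s
    have := C.uq' k ⟨fun e => m (by rw [e, mul_one]; exact C.T.mem_L C.rs M), s⟩
      (mul_left_cancel (a := π M) (by rw [← mul_assoc, c, ← mul_assoc, ← C.cpi, mul_assoc])) _ C.T.ma (hk _ C.T.ma)
    rw [this, C.cpi, ← mul_assoc, C.iv.sq, one_mul]
    exact C.T.mem_L C.rs M
  one := fun x hx y hy ix iy => by
    have k : ∀ x ∈ LF Q t, Iv x → Tr pt x := fun x hx i =>
      C.T.tr_of (C.T.s1_L C.rs hx) (i.sq ▸ one_mem _) fun k => i.ne (C.L_Pt hx k)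
    simpa using C.T.conj_J C.rs (k x hx ix) (mul_mem hy (inv_mem hx)) (by simpa using k y hy iy)
  ex := let ⟨_, hv, _, hw, _, _, c⟩ := C.isL.a4 C.oq
    ⟨_, GW.V4_le.2 ⟨hv, hw⟩, fun _ => c.fp.sq, c.fp.card⟩
  two := by omega
  cen := fun A hA sq c r hr k => by_contra fun n => by
    obtain ⟨x, hx, n1⟩ := exists_notMem_list (W := A) [1, t] (lt_of_lt_of_le (by simp) c)
    obtain ⟨y, hy, n2⟩ := exists_notMem_list (W := A) [1, t, x⁻¹, x⁻¹ * t] (lt_of_lt_of_le (by simp) c)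
    simp only [List.mem_cons, List.not_mem_nil, or_false, not_or, eq_inv_mul_iff_mul_eq, ← mul_eq_one_iff_eq_inv'] at n1 n2
    have := C.T.cent2 (C.T.s1_two C.rs C.q3 (cent_St (mem_cent.1 hr t hA).symm) k) n
      (C.tr ⟨n1.1, sq x hx⟩ (comm_of_sq sq hx hA) n1.2).1 (C.tr ⟨n2.1, sq y hy⟩ (comm_of_sq sq hy hA) n2.2.1).1
      (mem_cent.1 hr x hx).symm (mem_cent.1 hr y hy).symm
    exact n2.2.2.2 (C.uq' _ ⟨n2.2.2.1, sq _ (mul_mem hx hy)⟩ (comm_of_sq sq (mul_mem hx hy) hA) _ C.T.ma (this _ C.T.ma))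

theorem sc (hy : y ∈ D2 G (pt 1 0) (pt 0 1) ⊓ 𝐂₁ t) (k : PiElt {2} y) : y ∈ Pt G (FE Ω t) ∨ Sc pt y (-1) := by
  have key : ∀ r, Sc pt y r → r * r = 1 := two_ind (p := fun y => ∀ r, Sc pt y r → r * r = 1) k
    (fun r h => by rw [(C.T.sc_one h).1 (one_mem _), one_mul]) fun x _ h r e =>
      (mul_self_eq_one_iff.1 (h _ (e.mul e))).resolve_right fun k => C.nsq ⟨r, k.symm⟩
  obtain ⟨r, e⟩ := C.T.sc_of C.rs (C.T.s1_two C.rs C.q3 (cent_St (mem_cent1.1 hy.2)) k) hy.1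
  rcases mul_self_eq_one_iff.1 (key r e) with rfl | rfl
  exacts [.inl ((C.T.sc_one e).2 rfl), .inr e]

theorem wiv : Iv (π (wT 1)) :=
  ⟨fun e => C.T.ab (by rw [← C.T.w_ab one_ne_zero, e, one_smul]), by rw [C.T.w_sq one_ne_zero, C.z]⟩

theorem syl : (∀ y, Iv y → ∃ g, g * t * g⁻¹ = y) ∧ ∃ T : Subgroup G, Syl 2 T ⊤ ∧ (∀ x ∈ T, x * x = 1) ∧ ♯T = 8 := by
  have J := C.rk
  obtain ⟨one, S, hS, c⟩ := J.all C.toCore C.nr C.T.ab C.tD (fun S k l => by_contra fun c => by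
    have u : ∀ x ∈ S, Iv x → x = t := fun x hx i => C.uq x (l hx).1 i (mem_cent1.1 (l hx).2)
    obtain ⟨x, hx, y, hy, h1, h2, h3⟩ := q8_of k (fun x hx y hy i j => (u x hx i).trans (u y hy j).symm) c
    have key : ∀ w ∈ S, Iv (w * w) → w ∉ Pt G (FE Ω t) := fun w hw i k => J.nq C.toCore C.nr w k (u _ (mul_mem hw hw) i)
    exact key _ (mul_mem hx hy) h3 ((C.T.sc_one (((C.sc (l hx) (k.elt hx)).resolve_left (key x hx h1)).mul
      ((C.sc (l hy) (k.elt hy)).resolve_left (key y hy h2)))).2 (by simp)))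
    ⟨_, C.T.mem_L C.rs _, C.wiv, C.T.w_ab one_ne_zero, fun y hy k => (C.sc hy k).elim (fun h => (C.T.Pt_comm C.rs h _).symm)
      fun h => by
        have := C.rs.mu_invt (C.T.re one_ne_zero) hy.1 (by rw [C.T.conj_up C.rs h, ← map_inv, ← upT_neg]; simp)
        rw [C.T.mu_eq C.rs one_ne_zero, C.wiv.inv] at this
        exact (mul_inv_eq_iff_eq_mul.1 this).symm⟩
  obtain ⟨T, hT, sq, -, h1, h2⟩ := J.syl C.toCore C.nr C.T.ab C.tD one hS c
  obtain ⟨j, e⟩ := hT.pi.card_pow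
  refine ⟨one, T, hT, sq, ?_⟩
  rw [e] at h1 h2 ⊢
  have := (Nat.pow_lt_pow_iff_right one_lt_two).1 (show 2 ^ j < 2 ^ 4 from h2)
  have := (Nat.pow_le_pow_iff_right one_lt_two).1 (show 2 ^ 3 ≤ 2 ^ j from h1)
  rw [show j = 3 by omega]; rfl

theorem lt : Fintype.card F + 1 < Nat.card Ω := by
  rw [← C.T.card, ← Set.ncard_univ]
  exact Set.ncard_lt_ncard (Set.ssubset_univ_iff.2 (C.ne_univ C.iv.ne))

theorem cnt : Nat.card Ω * (Nat.card Ω - 1) * (𝐂₁ t).relIndex (D2 G (pt 1 0) (pt 0 1)) =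
    (Fintype.card F + 1) * Fintype.card F * (𝐂₁ t).index := by
  have h : TT (𝐂₁ t) (FE Ω t) := (C.rs.tt (C.rs.cl_FE t) C.T.two_lt).mono
    (fun g hg => mem_cent1.2 (C.rk.lc C.rs hg)) fun g hg x hx => St.smul (cent_St (mem_cent1.1 hg)) hx
  have e := h.rel C.T.ma C.T.mb C.T.ab
  rw [C.T.card, Nat.add_sub_cancel] at e
  rw [← C.t2.index C.T.ab, ← e, mul_comm, ← inf_relIndex_right, relIndex_mul_index inf_le_right, inf_comm,
    ← inf_relIndex_right (D2 _ _ _), relIndex_mul_index inf_le_right]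

theorem L_le (l : 3 < Fintype.card F) (nM : M ⊴ ⊤) (ne : M ≠ ⊥) : LF Q t ≤ M :=
  inf_eq_left.1 (((C.isL.ns C.oq l).eq_or _ (normalIn_inf_left (le_top.trans nM.norm))).resolve_left
    (ne_bot_of_mem ⟨C.T.mem_L C.rs _, C.two_mem nM ne (two_of_sq C.wiv.sq)⟩ C.wiv.ne))

theorem tr_of (c : Nat.card Ω = Fintype.card F ^ 3 + 1) (m : (𝐂₁ t).relIndex (D2 G (pt 1 0) (pt 0 1)) = 1)
    (pel : ∀ h ∈ D2 G (pt 1 0) (pt 0 1), ∃ m, m.Coprime (Fintype.card F) ∧ h ^ m = 1) : TR Q Set.univ :=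
  let ⟨one, T, hT, sq, c8⟩ := C.syl
  ⟨F, _, _, t, pt, π, cl_univ, ⟨T, C.top ▸ hT, sq, c8⟩, fun x _ i => let ⟨g, e⟩ := one x i; ⟨g, C.mem g, e⟩,
    fun y _ k _ => C.ff y fun a => k a trivial, C.mem t, C.iv, C.T.congr (Set.univ_inter _).symm, C.z, C.q3,
    (Set.ncard_univ Ω).trans c, fun y _ d i => C.uq y d i (mem_cent1.1 (relIndex_eq_one.1 m d)),
    fun h _ d => let ⟨m, c, e⟩ := pel h d; ⟨m, c, e ▸ one_mem _⟩⟩

theorem three (q : Fintype.card F = 3) (i : (𝐂₁ t).index = 63) : TR Q Set.univ := by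
  have R := C.rs
  have J := C.rk
  have h1 := C.cnt
  have h2 := C.lt
  have h3 := C.par C.iv.sq
  rw [C.T.card] at h3
  rw [q] at h1 h2 h3
  rw [i] at h1
  obtain ⟨c, m⟩ : Nat.card Ω = 28 ∧ (𝐂₁ t).relIndex (D2 G (pt 1 0) (pt 0 1)) = 1 := by
    generalize (𝐂₁ t).relIndex (D2 G (pt 1 0) (pt 0 1)) = m at *
    generalize Nat.card Ω = n at *
    obtain ⟨n, rfl⟩ : ∃ b, n = b + 1 := ⟨n - 1, by omega⟩
    have : n < 28 := by
      by_contra! k
      rcases m with _ | m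
      · simp at h1
      · rw [Nat.add_sub_cancel] at h1; nlinarith [Nat.zero_le ((n + 1) * n * m)]
    interval_cases n <;> omega
  refine C.tr_of (by rw [c, q]; norm_num) m fun h hh => ⟨4, by rw [q]; decide, ?_⟩
  have hc := relIndex_eq_one.1 m hh
  have hk : h * h ∈ Pt G (FE Ω t) := fun γ hγ => by
    obtain ⟨r, σ, e⟩ := C.T.rep_D R (cent_St (mem_cent1.1 hc)) hh
    have f : ∀ x : F, x = 0 ∨ x = 1 ∨ x = -1 := fun x => by
      have := FiniteField.pow_card x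
      rw [q] at this
      simpa only [mul_eq_zero, sub_eq_zero, add_eq_zero_iff_eq_neg] using show x * ((x - 1) * (x + 1)) = 0 by
        linear_combination this
    have s : ∀ x, σ x = x := fun x => by rcases f x with rfl | rfl | rfl <;> simp
    rcases C.T.surj' hγ with rfl | ⟨x, rfl⟩
    · exact (mul_mem hh hh).1
    rw [mul_smul, C.T.act_d e, C.T.act_d e, s, s, ← mul_assoc]
    rcases f r with rfl | rfl | rfl
    exacts [absurd rfl (Sc.ne e), by simp, by simp]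
  obtain ⟨V, lV, sq, cV⟩ := J.ex
  obtain ⟨x, hx, x1⟩ := exists_mem_ne_one (H := V) (one_lt_card.1 (by omega))
  have cV' : V ≤ 𝐂 (zpowers t) := fun x hx => by rw [cent_zpowers]; exact mem_cent1.2 (J.lc R (lV hx))
  have d := DProd.mk' cV' (inf_eq_bot_of_prime_of_not_le (by rw [J.iv.card]; exact p2) fun k => J.nt (lV (k (mem_zpowers t))))
  have tA : t ∈ zpowers t ⊔ V := mem_sup_left (mem_zpowers t)
  have sA := J.sq_sup R lV sq
  have key : ∀ y ∈ zpowers t ⊔ V, y ≠ 1 → (FE Ω y).ncard = 4 ∧ FE Ω y ⊆ FE Ω (h * h * (h * h)) ∧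
      ∀ w ∈ zpowers t ⊔ V, w ≠ 1 → w ≠ y → Disjoint (FE Ω y) (FE Ω w) := fun y hy y1 => by
    obtain ⟨g, rfl⟩ := C.syl.1 y ⟨y1, sA y hy⟩
    have J' := J.cj R g
    have c4 : (FE Ω (g * t * g⁻¹)).ncard = 4 := by rw [ncard_FE_conj, C.T.card, q]
    exact ⟨c4, reg_sq J'.uq J'.iv hy sA (by rw [c4, ← d.card, J.iv.card, cV]) (by
      rw [cent_sup, cent_zpowers]
      exact ⟨mul_mem hc hc, mem_cent.2 fun x hx => (R.Pt_comm C.T.ma C.T.mb C.T.ab hk (lV hx)).symm⟩),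
      fun w hw w1 n => Set.disjoint_left.2 fun γ h1 h2 => n (J'.uq w ⟨w1, sA w hw⟩ (comm_of_sq sA hw hy) γ h1 h2)⟩
  have xA := mem_sup_right (S := zpowers t) hx
  have i' := J.iv_mul R (lV hx) ⟨x1, sq x hx⟩
  obtain ⟨a1, a2, a3⟩ := key t tA C.iv.ne
  obtain ⟨b1, b2, b3⟩ := key x xA x1
  obtain ⟨c1, c2, -⟩ := key _ (mul_mem tA xA) i'.ne
  have h4 := Set.ncard_le_ncard (Set.union_subset (Set.union_subset a2 b2) c2)
  have d4 := mul_mem (mul_mem hh hh) (mul_mem hh hh)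
  rw [Set.ncard_union_eq (Set.disjoint_union_left.2 ⟨a3 _ (mul_mem tA xA) i'.ne (by simpa using x1),
    b3 _ (mul_mem tA xA) i'.ne (by simpa using C.iv.ne)⟩), Set.ncard_union_eq (a3 x xA x1 fun e => J.nt (lV (e ▸ hx))),
    a1, b1, c1, R.card_FE d4.2 d4.1 C.T.ab.symm] at h4
  have h5 := card_dvd (inf_le_left : Q (pt 1 0) ⊓ 𝐂₁ (h * h * (h * h)) ≤ _)
  have h6 : ♯(Q (pt 1 0)) = 3 ^ 3 := by have := R.card_Q C.T.ab.symm; omega
  rw [h6] at h5
  obtain ⟨j, l, e⟩ := (Nat.dvd_prime_pow Nat.prime_three).1 h5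
  have := inf_eq_left.1 (eq_of_card_eq (inf_le_left : Q (pt 1 0) ⊓ 𝐂₁ (h * h * (h * h)) ≤ _) (by
    rw [h6, e]; rw [e] at h4; interval_cases j <;> simp at h4 ⊢))
  rw [show h ^ 4 = h * h * (h * h) by simp [pow_succ, mul_assoc]]
  exact C.cent_Q C.T.ab d4 fun u hu => (mem_cent1.1 (this hu)).symm

theorem main : CR Q := by
  have R := C.rs
  have J := C.rk
  obtain ⟨-, T, hT, sq, c8⟩ := C.syl
  obtain ⟨M, nM, ne, -, -, s, na⟩ := C.socle C.nr
  have iM : ∀ x, x * x = 1 → x ∈ M := fun x e => C.two_mem nM ne (two_of_sq e)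
  have tM := iM t C.iv.sq
  have lT : T ≤ M := fun x hx => iM x (sq x hx)
  have n := Ab2.ns_top na
  have i : GW.Iv (⟨t, tM⟩ : M) := .mk' (fun e => C.iv.ne (congrArg Subtype.val e)) (Subtype.ext C.iv.sq)
  obtain ⟨one, h⟩ := walter2 n (by simpa only [subgroupOf_self] using hall_subgroupOf (hT.of_le lT le_top) le_rfl)
    ((abel_of_sq sq).subgroupOf M) ((card_subgroupOf' lT).trans c8) i
  have cM : ∀ x : M, x ∈ 𝐂₁ (⟨t, tM⟩ : M) ↔ (x : G) * t = t * x := fun x => mem_cent1.trans Subtype.ext_iff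
  have idx : (𝐂₁ t).index = (𝐂₁ (⟨t, tM⟩ : M)).index := by
    rw [show 𝐂₁ (⟨t, tM⟩ : M) = (𝐂₁ t).subgroupOf M from Subgroup.ext fun x => (cM x).trans mem_cent1.symm, ← relIndex,
      ← relIndex_sup_norm (.inr (le_top.trans nM.norm)), ← relIndex_top_right]
    congr 1
    refine (eq_top_iff.2 fun g _ => ?_).symm
    have i' := C.iv.conj g
    obtain ⟨m, e⟩ := isConj_iff.1 (one _ ⟨_, iM _ i'.sq⟩ i (.mk' (fun e => i'.ne (congrArg Subtype.val e)) (Subtype.ext i'.sq)))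
    have e : (m : G) * t * (m : G)⁻¹ = g * t * g⁻¹ := congrArg Subtype.val e
    rw [← mul_inv_cancel_left (m : G) g]
    exact mul_mem_sup m.2 (mem_cent1.2 (by rw [mul_assoc, ← inv_mul_cancel_right (g * t) g, ← e]; group))
  have uM : π (upT 1) ∈ M → (∀ y ∈ 𝐂₁ (⟨t, tM⟩ : M), y * y = 1) → False := fun m k => C.T.up_ne one_ne_zero
    (R.one_of_sq (C.T.root 1) (congrArg Subtype.val (k ⟨_, m⟩ ((cM _).2 (C.cpi _)))))
  rcases h with ⟨h1, h2⟩ | ⟨K, q, q3, k, r⟩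
  · refine ⟨C.three (by_contra fun e => uM (C.L_le (by have := C.q3; omega) nM ne (C.T.mem_L R _)) h2) (idx.trans h1), fun _ => ?_⟩
    exact (uM ((normalIn_top.1 nM).eq_bot_or_eq_top.resolve_left ne ▸ mem_top _) h2).elim
  have kL := k.isL.map M.subtype_injective
  have kC : K.map M.subtype ≤ 𝐂₁ t := by rintro _ ⟨x, hx, rfl⟩; exact mem_cent1.2 ((cM x).1 (k.lK hx))
  have k1 : ∀ x ∈ LF Q t, x * x = 1 → x ∈ K.map M.subtype ∨ t * x ∈ K.map M.subtype := fun x hx e =>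
    (k.mem_or ((cM ⟨x, iM x e⟩).2 (J.lc R hx))).imp (fun h => ⟨_, h, rfl⟩) fun h => ⟨_, h, rfl⟩
  have le : K.map M.subtype ≤ LF Q t := inf_eq_left.1 (((kL.ns k.oq q3).eq_or _ (normalIn_inf_left (kC.trans (J.nL R)))).resolve_left (by
    obtain ⟨v, hv, w, hw, _, -, c⟩ := C.isL.a4 C.oq
    rcases k1 v hv c.fp.l.sq with h1 | h1
    · exact ne_bot_of_mem ⟨h1, hv⟩ c.fp.l.ne_one
    rcases k1 w hw c.fp.r.sq with h2 | h2
    · exact ne_bot_of_mem ⟨h2, hw⟩ c.fp.r.ne_one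
    refine ne_bot_of_mem ⟨?_, mul_mem hv hw⟩ c.fp.iv.ne_one
    have := mul_mem h1 h2
    rwa [← J.lc R hv, mul_assoc, ← mul_assoc t, C.iv.sq, one_mul] at this))
  have c1 := kL.card k.oq
  have c2 := C.isL.card C.oq
  have l1 : q ≤ Fintype.card F := cube_le Fintype.card_pos (by rw [← c1, ← c2]; exact Nat.mul_le_mul_left 2 (card_le le))
  have lM := C.L_le (by omega) nM ne
  have ge : LF Q t ≤ K.map M.subtype := LL_le_iff.2 fun γ hγ x hx hs =>
    have m := mem_LL hγ hx hs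
    ⟨⟨x, lM m⟩, k.mem_E ((cM _).2 (J.lc R m)) (by rw [orderOf_mk]; exact R.odd_elt hx), rfl⟩
  obtain rfl : q = Fintype.card F :=
    l1.antisymm (cube_le (by omega) (by rw [← c1, ← c2]; exact Nat.mul_le_mul_left 2 (card_le ge)))
  have r := r C.q3
  obtain rfl : M = ⊤ := by
    rw [eq_top_iff, ← C.sup_Q nM ne (pt 1 0), sup_le_iff]
    refine ⟨le_rfl, fun x hx => ?_⟩
    obtain ⟨y, hy, c, z, hz, rfl⟩ := Suz.exists_cent_mul_inv C.iv.sq (R.odd _) (fun x => R.conj_fix C.T.ma) hx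
    exact mul_mem (lM (mem_LL C.T.ma hy (cent_St c.symm))) (C.real nM ne hz.2)
  have h1 := C.cnt
  rw [idx, r.idx] at h1
  obtain ⟨c, m⟩ := ree_num (card_odd C.T.two) h1 (by
    rw [R.card_Q C.T.ab.symm, Nat.add_sub_cancel, ← C.T.card_U R]; exact card_dvd inf_le_left) C.lt C.even
  refine ⟨C.tr_of c m fun h hh => ⟨_, ?_, congrArg Subtype.val (pow_card_eq_one' (x := (⟨h, hh⟩ : D2 G _ _)))⟩, fun _ => ?_⟩
  · have h2 := (D2 G (pt 1 0) (pt 0 1)).card_mul_index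
    rw [C.t2.index C.T.ab, c, ← card_top' (G := G), r.card, Nat.add_sub_cancel, mul_comm, mul_comm (_ + 1)] at h2
    rw [Nat.eq_of_mul_eq_mul_left (by positivity) h2]
    exact (Nat.coprime_self_sub_left (by omega)).2 (by simp)
  · obtain ⟨K, _, _, m, m1, c, ⟨e⟩⟩ := Ree.isoRee r n q3
    exact ⟨K, _, _, m, m1, c, ⟨topEquiv.symm.trans e⟩⟩

end B2

theorem CB.b2 (C : CB Q) (T : TLd Q (FE Ω t) pt π) (z : π (-1) = 1) (i : Iv t)
    (uq : ∀ y ∈ D2 G (pt 1 0) (pt 0 1), Iv y → y * t = t * y → y = t) : CR Q := B2.main ⟨C, T, z, i, uq⟩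

end CF.Hk
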