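import Cfsg.Agent.Perm.SymOrd

/-! Abelian subgroups of largest order in symmetric and alternating groups. -/

set_option autoImplicit false

namespace CF.Perm

open Equiv Equiv.Perm Subgroup MulAction

/-- largest product of positive numbers with sum `n` -/
def abS : ℕ → ℕ
  | 0 => 1 | 1 => 1 | 2 => 2 | 3 => 3 | 4 => 4
  | n + 5 => 3 * abS (n + 2)

/-- largest product of positive numbers different from `2` with sum `n` -/
def abA : ℕ → ℕ
  | 0 => 1 | 1 => 1 | 2 => 1 | 3 => 3 | 4 => 4 | 5 => 5 | 6 => 9 | 7 => 12 | 8 => 16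
  | n + 9 => 3 * abA (n + 6)

theorem abS_add_three {n : ℕ} (h : 2 ≤ n) : abS (n + 3) = 3 * abS n := by
  obtain ⟨k, rfl⟩ := Nat.exists_eq_add_of_le' h; rfl

theorem abA_add_three {n : ℕ} (h : 6 ≤ n) : abA (n + 3) = 3 * abA n := by
  obtain ⟨k, rfl⟩ := Nat.exists_eq_add_of_le' h; rfl

theorem supermul_of_step {f : ℕ → ℕ} {c : ℕ} (hf : ∀ n, c ≤ n → f (n + 3) = 3 * f n)
    (h0 : ∀ a < c + 3, ∀ b < c + 3, f a * f b ≤ f (a + b)) (a b : ℕ) : f a * f b ≤ f (a + b) := by
  induction' hn : a + b using Nat.strong_induction_on with n ih generalizing a b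
  subst hn
  by_cases ha : a < c + 3
  · by_cases hb : b < c + 3
    · exact h0 a ha b hb
    · obtain ⟨b, rfl⟩ : ∃ k, b = k + 3 := ⟨b - 3, by omega⟩
      have := ih _ (by omega) a b rfl
      rw [← add_assoc, hf b (by omega), hf _ (by omega)]
      nlinarith
  · obtain ⟨a, rfl⟩ : ∃ k, a = k + 3 := ⟨a - 3, by omega⟩
    have := ih _ (by omega) a b rfl
    rw [add_right_comm, hf a (by omega), hf _ (by omega)]
    nlinarith

theorem abS_mul_le (a b : ℕ) : abS a * abS b ≤ abS (a + b) :=
  supermul_of_step (c := 2) (fun _ => abS_add_three) (by decide) a b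

theorem abA_mul_le (a b : ℕ) : abA a * abA b ≤ abA (a + b) :=
  supermul_of_step (c := 6) (fun _ => abA_add_three) (by decide) a b

theorem le_abS (a : ℕ) : a ≤ abS a := by
  induction a using abS.induct <;> simp only [abS] <;> omega

theorem lt_abA {a : ℕ} (h : 6 ≤ a) : a < abA a := by
  induction a using abA.induct <;> simp only [abA] <;> omega

theorem le_abA {a : ℕ} (h : a ≠ 2) : a ≤ abA a := by
  by_cases h6 : 6 ≤ a
  · exact (lt_abA h6).le
  · interval_cases a <;> simp_all [abA]

theorem abA_pos (a : ℕ) : 0 < abA a := by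
  induction a using abA.induct <;> simp only [abA] <;> omega

theorem step_three {P : ℕ → Prop} {c : ℕ} (h0 : ∀ n < c + 3, P n) (h : ∀ n, c ≤ n → P n → P (n + 3))
    (n : ℕ) : P n := by
  induction' n using Nat.strong_induction_on with n ih
  by_cases hn : n < c + 3
  · exact h0 n hn
  · obtain ⟨a, rfl⟩ : ∃ k, n = k + 3 := ⟨n - 3, by omega⟩
    exact h a (by omega) (ih a (by omega))

theorem abS_lt (n : ℕ) : n ≠ 2 → abS n < 2 * abA n := by
  refine step_three (c := 6) (P := fun n => n ≠ 2 → abS n < 2 * abA n) (by decide) (fun n h ih _ => ?_) n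
  rw [abS_add_three (by omega), abA_add_three h]
  have := ih (by omega)
  omega

theorem abA_lt_succ (n : ℕ) : 2 ≤ n → abA n < abA (1 + n) := by
  refine step_three (c := 6) (P := fun n => 2 ≤ n → abA n < abA (1 + n)) (by decide) (fun n h ih _ => ?_) n
  rw [← add_assoc, abA_add_three (by omega), abA_add_three (by omega)]
  have := ih (by omega)
  omega

theorem abA_five (n : ℕ) : n ≠ 0 → 5 * abA n < abA (5 + n) := by
  refine step_three (c := 6) (P := fun n => n ≠ 0 → 5 * abA n < abA (5 + n)) (by decide)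
    (fun n h ih _ => ?_) n
  rw [← add_assoc, abA_add_three (by omega), abA_add_three (by omega)]
  have := ih (by omega)
  omega

theorem prod_le_abS (m : Multiset ℕ) : m.prod ≤ abS m.sum := by
  induction m using Multiset.induction_on with
  | empty => simp [abS]
  | cons a m ih =>
    rw [Multiset.prod_cons, Multiset.sum_cons]
    exact (Nat.mul_le_mul (le_abS a) ih).trans (abS_mul_le _ _)

theorem prod_le_abA {m : Multiset ℕ} (h : 2 ∉ m) : m.prod ≤ abA m.sum := by
  induction m using Multiset.induction_on with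
  | empty => simp [abA]
  | cons a m ih =>
    rw [Multiset.prod_cons, Multiset.sum_cons]
    simp only [Multiset.mem_cons, not_or] at h
    exact (Nat.mul_le_mul (le_abA (Ne.symm h.1)) (ih h.2)).trans (abA_mul_le _ _)

theorem parts_of_abA_le {m : Multiset ℕ} (h : 2 ∉ m) (h3 : 3 ≤ m.sum) (h5 : m.sum ≠ 5)
    (he : abA m.sum ≤ m.prod) : (∀ a ∈ m, a = 3 ∨ a = 4) ∧ m.count 4 ≤ 2 := by
  constructor
  · intro a ha
    obtain ⟨m, rfl⟩ := Multiset.exists_cons_of_mem ha
    simp only [Multiset.mem_cons, not_or, Multiset.sum_cons, Multiset.prod_cons] at h h3 h5 he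
    replace he := he.trans (Nat.mul_le_mul_left a (prod_le_abA h.2))
    by_cases h6 : 6 ≤ a
    · have := abA_mul_le a m.sum
      have := lt_abA h6
      have := abA_pos m.sum
      nlinarith
    have := abA_pos (0 + m.sum)
    have := abA_lt_succ m.sum
    have := abA_five m.sum
    interval_cases a <;> omega
  · by_contra! h4
    obtain ⟨m, rfl⟩ := Multiset.le_iff_exists_add.1 (Multiset.le_count_iff_replicate_le.1 h4)
    simp only [Multiset.mem_add, not_or, Multiset.sum_add, Multiset.prod_add] at h he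
    have := prod_le_abA h.2
    have := abA_mul_le 12 m.sum
    have := abA_pos m.sum
    simp only [show abA 12 = 81 from rfl] at *
    simp at he
    omega

theorem eq_of_parts {m m' : Multiset ℕ} (h : ∀ a ∈ m, a = 3 ∨ a = 4) (h' : ∀ a ∈ m', a = 3 ∨ a = 4)
    (h1 : m.count 4 ≤ 2) (h1' : m'.count 4 ≤ 2) (e : m.sum = m'.sum) : m = m' := by
  have key : ∀ m : Multiset ℕ, (∀ a ∈ m, a = 3 ∨ a = 4) → m.sum = 3 * m.count 3 + 4 * m.count 4 := by
    intro m h
    induction m using Multiset.induction_on with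
    | empty => simp
    | cons a m ih =>
      have := ih fun b hb => h b (by simp [hb])
      rcases h a (by simp) with rfl | rfl <;> simp [this] <;> ring
  have h2 := key m h
  have h3 := key m' h'
  ext a
  by_cases e3 : a = 3
  · subst e3; omega
  by_cases e4 : a = 4
  · subst e4; omega
  rw [Multiset.count_eq_zero.2 fun ha => (h a ha).elim e3 e4,
    Multiset.count_eq_zero.2 fun ha => (h' a ha).elim e3 e4]

section Orbits

variable {G Ω : Type*} [Group G] [MulAction G Ω]

/-- the multiset of the orbit lengths -/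
noncomputable def orbLens (G Ω : Type*) [Group G] [MulAction G Ω] [Finite Ω] : Multiset ℕ :=
  (@Finset.univ _ (Fintype.ofFinite _)).val.map fun ω : orbitRel.Quotient G Ω => ω.orbit.ncard

theorem sum_orbLens [Finite Ω] : (orbLens G Ω).sum = Nat.card Ω := by
  let _ := Fintype.ofFinite (orbitRel.Quotient G Ω)
  rw [Nat.card_congr (selfEquivSigmaOrbits' G Ω), Nat.card_sigma]
  rfl

theorem prod_orbLens [Finite Ω] :
    (orbLens G Ω).prod = Nat.card (∀ ω : orbitRel.Quotient G Ω, ω.orbit) := by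
  let _ := Fintype.ofFinite (orbitRel.Quotient G Ω)
  rw [Nat.card_pi]
  rfl

theorem mem_orbLens [Finite Ω] {k : ℕ} : k ∈ orbLens G Ω ↔ ∃ x : Ω, (orbit G x).ncard = k := by
  simp only [orbLens, Multiset.mem_map, Finset.mem_val, Finset.mem_univ, true_and]
  exact ⟨fun ⟨ω, h⟩ => ⟨ω.out, by rw [← h, orbitRel.Quotient.orbit_eq_orbit_out ω Quotient.out_eq']⟩,
    fun ⟨x, h⟩ => ⟨Quotient.mk'' x, h⟩⟩

theorem count_orbLens [Finite Ω] (k : ℕ) :
    (orbLens G Ω).count k = Nat.card {ω : orbitRel.Quotient G Ω // ω.orbit.ncard = k} := by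
  let _ := Fintype.ofFinite (orbitRel.Quotient G Ω)
  rw [Nat.card_eq_fintype_card, Fintype.card_subtype, orbLens, Multiset.count_map]
  simp only [eq_comm]
  rfl

/-- the images of the orbit representatives -/
noncomputable def orbEv (g : G) (ω : orbitRel.Quotient G Ω) : ω.orbit :=
  ⟨g • ω.out, by rw [orbitRel.Quotient.orbit_eq_orbit_out ω Quotient.out_eq']; exact mem_orbit _ _⟩

theorem smul_eq_of_comm [IsMulCommutative G] {a b : G} {x y : Ω} (h : a • x = b • x)
    (hy : y ∈ orbit G x) : a • y = b • y := by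
  obtain ⟨c, rfl⟩ := hy
  simp only [smul_smul, mul_comm' _ c]
  rw [mul_smul, mul_smul, h]

theorem mem_orbit_out (x : Ω) : x ∈ orbit G (Quotient.mk'' x : orbitRel.Quotient G Ω).out :=
  (orbitRel G Ω).symm (Quotient.exact (Quotient.out_eq' _))

theorem orbEv_injective [IsMulCommutative G] [FaithfulSMul G Ω] :
    Function.Injective (orbEv : G → ∀ ω : orbitRel.Quotient G Ω, ω.orbit) := fun _ _ h =>
  eq_of_smul_eq_smul fun x : Ω =>
    smul_eq_of_comm (congrArg Subtype.val (congrFun h (Quotient.mk'' x))) (mem_orbit_out x)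

theorem card_le_prod_orbLens [Finite Ω] [IsMulCommutative G] [FaithfulSMul G Ω] :
    Nat.card G ≤ (orbLens G Ω).prod :=
  prod_orbLens (G := G) (Ω := Ω) ▸ Nat.card_le_card_of_injective _ orbEv_injective

theorem card_le_abS [Finite Ω] [IsMulCommutative G] [FaithfulSMul G Ω] :
    Nat.card G ≤ abS (Nat.card Ω) :=
  card_le_prod_orbLens.trans (sum_orbLens (G := G) (Ω := Ω) ▸ prod_le_abS _)

theorem exists_smul_of_prod_le [Finite Ω] [IsMulCommutative G] [FaithfulSMul G Ω]
    (h : (orbLens G Ω).prod ≤ Nat.card G) (f : Ω → G) :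
    ∃ g : G, ∀ x : Ω, g • x = f (Quotient.mk'' x : orbitRel.Quotient G Ω).out • x := by
  obtain ⟨g, hg⟩ := (Nat.bijective_iff_injective_and_card _).2 ⟨orbEv_injective,
    le_antisymm (prod_orbLens (G := G) (Ω := Ω) ▸ card_le_prod_orbLens)
      (prod_orbLens (G := G) (Ω := Ω) ▸ h)⟩ |>.2 fun ω => orbEv (f ω.out) ω
  exact ⟨g, fun x => smul_eq_of_comm (congrArg Subtype.val (congrFun hg (Quotient.mk'' x)))
    (mem_orbit_out x)⟩

theorem exists_perm_of_orbLens_eq [Finite Ω] {H : Type*} [Group H] [MulAction H Ω]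
    (h : orbLens G Ω = orbLens H Ω) : ∃ σ : Perm Ω, ∀ x y, σ x ∈ orbit H (σ y) ↔ x ∈ orbit G y := by
  have e1 : ∀ k, {ω : orbitRel.Quotient G Ω // ω.orbit.ncard = k} ≃
      {ω : orbitRel.Quotient H Ω // ω.orbit.ncard = k} := fun k =>
    (Finite.card_eq.1 (by rw [← count_orbLens, h, count_orbLens])).some
  let φ := Equiv.ofFiberEquiv e1
  have e2 : ∀ ω : orbitRel.Quotient H Ω, {x : Ω // φ (Quotient.mk'' x) = ω} ≃
      {x : Ω // (Quotient.mk'' x : orbitRel.Quotient H Ω) = ω} := fun ω => by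
    refine (Finite.card_eq.1 ?_).some
    obtain ⟨ω, rfl⟩ := φ.surjective ω
    simp only [EmbeddingLike.apply_eq_iff_eq, ← orbitRel.Quotient.mem_orbit]
    exact (Equiv.ofFiberEquiv_map e1 ω).symm
  refine ⟨Equiv.ofFiberEquiv e2, fun x y => ?_⟩
  rw [← orbitRel_apply, ← orbitRel_apply, ← Quotient.eq'', ← Quotient.eq'',
    Equiv.ofFiberEquiv_map e2, Equiv.ofFiberEquiv_map e2, EmbeddingLike.apply_eq_iff_eq]

end Orbits

variable {Ω : Type*} [Fintype Ω] [DecidableEq Ω]

theorem two_mul_card_le_abS {A : Subgroup (Perm Ω)} [IsMulCommutative A]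
    (hA : A ≤ alternatingGroup Ω) (h : 2 ∈ orbLens A Ω) : 2 * Nat.card A ≤ abS (Nat.card Ω) := by
  obtain ⟨x, hx⟩ := mem_orbLens.1 h
  obtain ⟨a, b, hab, e⟩ := Set.ncard_eq_two.1 hx
  have h1 : ∀ g ∈ A, Commute g (swap a b) := fun g hg => by
    have h2 : ∀ y ∈ ({a, b} : Set Ω), g y ∈ ({a, b} : Set Ω) := fun y hy =>
      e ▸ mapsTo_smul_orbit (⟨g, hg⟩ : A) x (e ▸ hy)
    rw [Commute, SemiconjBy, mul_swap_eq_swap_mul]
    rcases h2 a (by simp) with h3 | h3 <;> rcases h2 b (by simp) with h4 | h4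
    · exact absurd (g.injective (h3.trans h4.symm)) hab
    · rw [h3, h4]
    · rw [h3, h4, swap_comm]
    · exact absurd (g.injective (h3.trans h4.symm)) hab
  let f : A × zpowers (swap a b) →* Perm Ω := A.subtype.noncommCoprod (zpowers _).subtype
    fun g ⟨_, i, rfl⟩ => (h1 g g.2).zpow_right i
  have hf : Function.Injective f := (injective_iff_map_eq_one _).2 fun ⟨g, k, hk⟩ e => by
    have h2 : (g : Perm Ω) * k = 1 := e
    have h3 : k = 1 := by
      rcases (mem_zpowers_iff_mem_range_orderOf.1 hk) with h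
      rw [IsSwap.orderOf ⟨a, b, hab, rfl⟩] at h
      simp only [Finset.mem_image, Finset.mem_range] at h
      obtain ⟨i, hi, rfl⟩ := h
      have := congrArg sign h2
      interval_cases i
      · simp
      · simp [mem_alternatingGroup.1 (hA g.2), hab] at this
    subst h3
    exact Prod.ext (Subtype.ext (by simpa using h2)) rfl
  let _ := MulAction.compHom Ω f
  have : FaithfulSMul (A × zpowers (swap a b)) Ω := ⟨fun h => hf (Equiv.ext h)⟩
  have := card_le_abS (G := A × zpowers (swap a b)) (Ω := Ω)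
  rwa [Nat.card_prod, Nat.card_zpowers, IsSwap.orderOf ⟨a, b, hab, rfl⟩, mul_comm] at this

theorem card_le_abA {A : Subgroup (Perm Ω)} [IsMulCommutative A] (hA : A ≤ alternatingGroup Ω) :
    Nat.card A ≤ abA (Nat.card Ω) := by
  by_cases h : 2 ∈ orbLens A Ω
  · have := two_mul_card_le_abS hA h
    have := abS_lt (Nat.card Ω)
    by_cases e : Nat.card Ω = 2
    · simp only [e, abS, abA] at *; omega
    · omega
  · exact card_le_prod_orbLens.trans (sum_orbLens (G := A) (Ω := Ω) ▸ prod_le_abA h)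

/-- `S_n` (or `A_n` when `e` holds) has an abelian subgroup of order `c` -/
def HasAb (e : Prop) (n c : ℕ) : Prop := ∃ A : Subgroup (Perm (Fin n)),
  IsMulCommutative A ∧ Nat.card A = c ∧ (e → A ≤ alternatingGroup (Fin n))

theorem HasAb.add {e : Prop} {n c m d : ℕ} (h : HasAb e n c) (h' : HasAb e m d) :
    HasAb e (n + m) (c * d) := by
  obtain ⟨A, h1, rfl, h2⟩ := h
  obtain ⟨B, h3, rfl, h4⟩ := h'
  let f := (finSumFinEquiv (m := n) (n := m)).permCongrHom.toMonoidHom.comp (sumCongrHom _ _)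
  have hf : Function.Injective f := finSumFinEquiv.permCongrHom.injective.comp sumCongrHom_injective
  refine ⟨(A.prod B).map f, ?_, ?_, ?_⟩
  · have : IsMulCommutative (A.prod B) := ⟨⟨fun a b => (A.prodEquiv B).injective (by
      rw [map_mul, map_mul, mul_comm'])⟩⟩
    infer_instance
  · rw [card_map_of_injective hf, Nat.card_congr (A.prodEquiv B).toEquiv, Nat.card_prod]
  · rintro he _ ⟨⟨a, b⟩, ⟨ha, hb⟩, rfl⟩
    simp [f, permCongrHom, mem_alternatingGroup.1 (h2 he ha), mem_alternatingGroup.1 (h4 he hb)]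

theorem hasAb_one (e : Prop) (n : ℕ) : HasAb e n 1 := ⟨⊥, inferInstance, by simp, fun _ => bot_le⟩

theorem hasAb_cycle {e : Prop} {n : ℕ} (h : 2 ≤ n) (he : e → Odd n) : HasAb e n n := by
  obtain ⟨x, hx⟩ := (exists_with_cycleType_iff (Fin n) (m := {n})).2 ⟨by simp, by simpa⟩
  refine ⟨zpowers x, inferInstance, by rw [Nat.card_zpowers, ← lcm_cycleType, hx]; simp, fun h => ?_⟩
  rw [zpowers_le, mem_alt_iff_even, hx]
  simpa using (he h).add_one

theorem hasAb_four (e : Prop) : HasAb e 4 4 := by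
  have := alternatingGroup.kleinFour_isKleinFour (α := Fin 4) (by simp)
  have : IsMulCommutative (alternatingGroup.kleinFour (Fin 4)) := IsKleinFour.isMulCommutative
  exact ⟨(alternatingGroup.kleinFour (Fin 4)).map (alternatingGroup _).subtype, inferInstance,
    by rw [card_map_of_injective (alternatingGroup _).subtype_injective]; simp,
    fun _ => map_subtype_le _⟩

theorem hasAb_abS (n : ℕ) : HasAb False n (abS n) := by
  induction n using abS.induct with
  | case1 => exact hasAb_one _ _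
  | case2 => exact hasAb_one _ _
  | case3 => exact hasAb_cycle le_rfl nofun
  | case4 => exact hasAb_cycle (by simp) nofun
  | case5 => exact hasAb_four _
  | case6 n ih => rw [abS, mul_comm]; exact ih.add (hasAb_cycle (n := 3) (by simp) nofun)

theorem hasAb_abA (n : ℕ) : HasAb True n (abA n) := by
  have h3 : HasAb True 3 3 := hasAb_cycle (by simp) fun _ => by decide
  induction n using abA.induct with
  | case1 => exact hasAb_one _ _
  | case2 => exact hasAb_one _ _
  | case3 => exact hasAb_one _ _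
  | case4 => exact h3
  | case5 => exact hasAb_four _
  | case6 => exact hasAb_cycle (by simp) fun _ => by decide
  | case7 => exact h3.add h3
  | case8 => exact h3.add (hasAb_four _)
  | case9 => exact (hasAb_four _).add (hasAb_four _)
  | case10 n ih => rw [abA, mul_comm]; exact ih.add h3

theorem isGreatest_abS (n : ℕ) : IsGreatest
    {c : ℕ | ∃ A : Subgroup (Perm (Fin n)), IsMulCommutative A ∧ Nat.card A = c} (abS n) := by
  obtain ⟨A, h1, h2, -⟩ := hasAb_abS n
  refine ⟨⟨A, h1, h2⟩, ?_⟩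
  rintro _ ⟨A, h1, rfl⟩
  simpa using card_le_abS (G := A) (Ω := Fin n)

theorem isGreatest_abA (n : ℕ) : IsGreatest
    {c : ℕ | ∃ A : Subgroup (alternatingGroup (Fin n)), IsMulCommutative A ∧ Nat.card A = c}
    (abA n) := by
  obtain ⟨A, h1, h2, h3⟩ := hasAb_abA n
  refine ⟨⟨A.subgroupOf _, inferInstance,
    (Nat.card_congr (subgroupOfEquivOfLe (h3 trivial)).toEquiv).trans h2⟩, ?_⟩
  rintro _ ⟨A, h1, rfl⟩
  have := card_le_abA (map_subtype_le A)
  rwa [card_map_of_injective (alternatingGroup _).subtype_injective, Nat.card_fin] at this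

end CF.Perm
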