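import Cfsg.Agent.PG.Basic
import Cfsg.Agent.SolvStr.Centric
import Cfsg.Agent.Fgs3.SL2Even

/-!
# Chains of subgroups
-/

set_option autoImplicit false
set_option linter.unusedSectionVars false

namespace CF.Perm.Chn
open Subgroup Cfsg CF.BG CF.Bender CF.PG
open scoped ArithmeticFunction.Omega commutatorElement

variable {G : Type*} [Group G] {G' : Type*} [Group G']
variable {A B C H K L M N P S : Subgroup G} {m n : ℕ}

/-- a strictly increasing chain of `n` steps between `A` and `B` -/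
inductive Ch (A : Subgroup G) : Subgroup G → ℕ → Prop
  | base {B : Subgroup G} : A ≤ B → Ch A B 0
  | step {B C : Subgroup G} {n : ℕ} : Ch A B n → B < C → Ch A C (n + 1)

namespace Ch

theorem le (h : Ch A B n) : A ≤ B := by
  induction h with
  | base h => exact h
  | step _ h ih => exact ih.trans h.le

theorem right (h : Ch A B n) (k : B ≤ C) : Ch A C n := by
  cases h with
  | base h => exact base (h.trans k)
  | step h l => exact step h (l.trans_le k)

theorem trans (h : Ch A B m) (k : Ch B C n) : Ch A C (m + n) := by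
  induction k with
  | base k => exact h.right k
  | step _ l ih => exact step ih l

theorem left (h : Ch B C n) (k : A ≤ B) : Ch A C n := by simpa using (base k).trans h

theorem pred (h : Ch A B (n + 1)) : Ch A B n := by
  cases h with
  | step h l => exact h.right l.le

theorem anti (h : Ch A B n) (k : m ≤ n) : Ch A B m := by
  induction k with
  | refl => exact h
  | step _ ih => exact ih h.pred

theorem one (h : A < B) : Ch A B 1 := step (base le_rfl) h

theorem map (h : Ch A B n) {f : G →* G'} (hf : Function.Injective f) :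
    Ch (A.map f) (B.map f) n := by
  induction h with
  | base h => exact base (map_mono h)
  | step _ l ih => exact step ih ((map_lt_map_iff_of_injective hf).2 l)

theorem qp {X Y : Subgroup (Quo K)} (h : Ch X Y n) : Ch (qp K X) (qp K Y) n := by
  induction h with
  | base h => exact base (qp_mono h)
  | step _ l ih =>
    refine step ih ?_
    rw [← qt_lt_qt (normal_qp _) (normal_qp _)]
    simpa using l

theorem of_qt (k : K ⊴ H) (h : Ch ⊥ (qt K H) n) : Ch K H n := by
  have := h.qp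
  rwa [qp_qt_of_normal k, qp_eq_self.2 rfl] at this

theorem coe {H : Subgroup G} (h : Ch ⊥ (⊤ : Subgroup H) n) : Ch ⊥ H n := by
  have := h.map H.subtype_injective
  rwa [map_top_subtype, Subgroup.map_bot] at this

theorem congr (h : Ch ⊥ (⊤ : Subgroup G) n) (e : G ≃* G') : Ch ⊥ (⊤ : Subgroup G') n := by
  have := h.map (f := e.toMonoidHom) e.injective
  rw [Subgroup.map_bot] at this
  exact this.right le_top

theorem strict (h : Ch A B n) : ∃ c : Fin (n + 1) → Subgroup G, StrictAnti c ∧ c 0 ≤ B := by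
  induction h with
  | base h => exact ⟨fun _ => _, fun i j l => absurd l (by omega), le_rfl⟩
  | @step B C n _ l ih =>
    obtain ⟨c, h1, h2⟩ := ih
    refine ⟨Fin.cons C c, Fin.strictAnti_iff_succ_lt.2 fun i => ?_, le_rfl⟩
    refine Fin.cases ?_ (fun j => ?_) i
    · exact h2.trans_lt l
    · exact h1 (Fin.castSucc_lt_succ)

end Ch

variable [Finite G]

theorem ch_sol (s : Sol H) : Ch ⊥ H (Ω (♯H)) := by
  induction H using card_induction with
  | _ H ih =>
  by_cases h1 : H = ⊥
  · subst h1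
    simpa using Ch.base le_rfl
  obtain ⟨M, -, ⟨h2, h3⟩, h4⟩ := exists_maximal (P := fun M => ⁅H, H⁆ ≤ M ∧ M < H)
    ⟨le_rfl, s.der_lt h1⟩
  have n := normalIn_of_der_le h3.le h2
  have := n.normal
  have c : IsCoatom (M.subgroupOf H) := by
    refine ⟨fun e => h3.not_ge (subgroupOf_eq_top.1 e), fun X hX => ?_⟩
    by_contra hn
    have l : M ≤ X.map H.subtype := by
      rw [← map_subgroupOf h3.le]; exact map_mono hX.le
    have := h4 (X.map H.subtype) ⟨h2.trans l, lt_of_le_of_ne (map_subtype_le _) fun e => hn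
      (map_injective H.subtype_injective (e.trans (map_top_subtype H).symm))⟩ l
    exact hX.ne (map_injective H.subtype_injective (by rw [map_subgroupOf h3.le, this]))
  have p : (M.relIndex H).Prime := CF.Solv.index_prime_of_isCoatom_of_normal c
  rw [← card_mul_relIndex h3.le, ArithmeticFunction.cardFactors_mul (card_ne_zero' M) p.ne_zero,
    ArithmeticFunction.cardFactors_apply_prime p]
  exact (ih M (card_lt h3) (s.mono h3.le)).step h3

theorem om_le {a b : ℕ} (h : a ∣ b) (hb : b ≠ 0) : Ω a ≤ Ω b := by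
  obtain ⟨c, rfl⟩ := h
  rw [ArithmeticFunction.cardFactors_mul (left_ne_zero_of_mul hb) (right_ne_zero_of_mul hb)]
  omega

theorem om_two (a : ℕ) : Ω (2 ^ a) = a := ArithmeticFunction.cardFactors_apply_prime_pow Nat.prime_two

theorem om_pos {a : ℕ} (h : 1 < a) : 1 ≤ Ω a := ArithmeticFunction.cardFactors_pos_iff_one_lt.2 h

theorem om_mul {a b : ℕ} (ha : a ≠ 0) (hb : b ≠ 0) : Ω (a * b) = Ω a + Ω b :=
  ArithmeticFunction.cardFactors_mul ha hb

theorem ch_dvd (s : Sol H) {d : ℕ} (h : d ∣ ♯H) (k : n ≤ Ω d) : Ch ⊥ H n :=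
  (ch_sol s).anti (k.trans (om_le h (card_ne_zero' H)))

theorem ch_two (s : Sol H) (h : 2 ^ n ∣ ♯H) : Ch ⊥ H n := ch_dvd s h (om_two n).ge

/-- `2 ^ a * c` with `c > 1` -/
theorem ch_two_mul (s : Sol H) {c : ℕ} (h : 2 ^ n * c ∣ ♯H) (hc : 1 < c) : Ch ⊥ H (n + 1) :=
  ch_dvd s h (by rw [om_mul (by positivity) (by omega), om_two]; have := om_pos hc; omega)

theorem ch_qt (k : K ⊴ H) (s : Sol (qt K H)) {d : ℕ} (h : d ∣ K.relIndex H) (l : n ≤ Ω d) :
    Ch K H n := Ch.of_qt k (ch_dvd s (by rwa [card_qt k.norm]) l)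

theorem abel_of_card_le (p : PiGrp {2} P) (h : ♯P ≤ 4) : Abel P := by
  have := Fact.mk Nat.prime_two
  obtain ⟨j, hj⟩ := p.card_pow
  have : j ≤ 2 := by
    by_contra h1
    have : 2 ^ 3 ≤ 2 ^ j := Nat.pow_le_pow_right two_pos (by omega)
    omega
  interval_cases j
  · rw [card_eq_one'.1 hj]; exact abel_bot
  · exact (cyc_of_prime (hj ▸ Nat.prime_two)).abel
  · exact .of_comm (IsPGroup.isMulCommutative_of_card_eq_prime_sq hj)

theorem der_le_cent (p : PiGrp {2} P) (h : ♯P ≤ 8) : ⁅P, P⁆ ≤ 𝐂 P := by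
  by_cases h1 : P = ⊥
  · simp [h1]
  have h2 := card_mul_relIndex (center_normal P).le
  have h3 := one_lt_card.2 (p.center_ne_bot h1)
  refine ((abel_qt_iff (center_normal P).norm).1 (abel_of_card_le (p.qt _) ?_)).trans inf_le_right
  rw [card_qt (center_normal P).norm]
  nlinarith

/-- a class two subgroup of a nonsolvable group is not maximal -/
theorem exists_between (hP : P ≤ H) (c : ⁅P, P⁆ ≤ 𝐂 P) (ns : ¬ Sol H) : ∃ M, P < M ∧ M < H := by
  have n := nil_of_der_le_cent c
  have h1 : P < H := lt_of_le_of_ne hP fun e => ns (e ▸ n.sol)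
  by_contra! h2
  refine ns (CF.SolvStr.isSolvable_of_coatom_class_two (M := P.subgroupOf H)
    ⟨fun e => h1.not_ge (subgroupOf_eq_top.1 e), fun X hX => ?_⟩
    ((nil_map_iff H.subtype_injective).1 (by rwa [map_subgroupOf hP])) ?_)
  · by_contra hn
    refine h2 (X.map H.subtype) ?_ (lt_of_le_of_ne (map_subtype_le _) fun e => hn
      (map_injective H.subtype_injective (e.trans (map_top_subtype H).symm)))
    rw [← map_subgroupOf hP]
    exact (map_lt_map_iff_of_injective H.subtype_injective).2 hX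
  · rw [commutator_def, commutator_le]
    intro x _ y _
    rw [mem_center_iff]
    intro z
    exact Subtype.ext (Subtype.ext (mem_cent.1 (c (commutator_mem_commutator x.2 y.2)) _ z.2))

theorem ch_syl (hP : Syl 2 P H) (ns : ¬ Sol H) (h : 2 ^ n ∣ ♯P) : Ch ⊥ H (n + 1) :=
  (ch_two hP.pi.sol h).step (lt_of_le_of_ne hP.le fun e => ns (e ▸ hP.pi.sol))

theorem ch_syl2 (hP : Syl 2 P H) (ns : ¬ Sol H) (h : 2 ^ n ∣ ♯P) (c : ⁅P, P⁆ ≤ 𝐂 P) :
    Ch ⊥ H (n + 2) := by
  obtain ⟨M, h1, h2⟩ := exists_between hP.le c ns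
  exact ((ch_two hP.pi.sol h).step h1).step h2

theorem four_dvd (hP : Syl 2 P H) (ns : ¬ Sol H) : 2 ^ 2 ∣ ♯P := by
  obtain ⟨j, hj⟩ := hP.pi.card_pow
  rw [hj]
  refine pow_dvd_pow 2 ?_
  by_contra h
  refine ns (CF.Fgs3.sol_of_cyc_syl hP ?_)
  have : j ≤ 1 := by omega
  interval_cases j
  · rw [card_eq_one'.1 hj]; exact cyc_bot
  · exact cyc_of_prime (hj ▸ Nat.prime_two)

theorem ch_ns (ns : ¬ Sol H) : Ch ⊥ H 4 := by
  obtain ⟨P, hP⟩ := exists_syl 2 H
  by_cases h : ♯P ≤ 8
  · exact ch_syl2 hP ns (four_dvd hP ns) (der_le_cent hP.pi h)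
  obtain ⟨j, hj⟩ := hP.pi.card_pow
  refine ch_syl hP ns (hj ▸ pow_dvd_pow 2 ?_)
  by_contra h1
  have : 2 ^ j ≤ 2 ^ 3 := Nat.pow_le_pow_right two_pos (by omega)
  omega

theorem ch_ns_qt (k : K ⊴ H) (s : Sol K) (ns : ¬ Sol H) : Ch K H 4 :=
  .of_qt k (ch_ns fun e => ns (s.of_qt k.norm e))

end CF.Perm.Chn
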