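import Cfsg.Agent.Perm.Sims2

/-! Sims' theorem on primitive groups with a suborbit of length three. -/

namespace CF.Perm

open Subgroup MulAction
open scoped Pointwise

variable {G : Type*} [Group G] [Finite G]

theorem le_normalizer_odd {A P : Subgroup G} (h : P ≤ A) (h3 : P.relIndex A = 3) :
    A ≤ normalizer (closure {y | y ∈ P ∧ Odd (orderOf y)} : Set G) := by
  refine le_normalizer_of_conj fun g hg y hy => (closure_le ((Subgroup.closure _).comap
    (MulAut.conj g).toMonoidHom)).2 (fun y hy => ?_) hy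
  refine Subgroup.subset_closure ⟨?_, ((MulAut.conj g).orderOf_eq y).symm ▸ hy.2⟩
  have h1 := card_subgroup_dvd_card (toPermHom A (A ⧸ P.subgroupOf A)).range
  rw [← index_ker, ← normalCore_eq_ker, Nat.card_perm, ← index_eq_card,
    ← relIndex_mul_index (normalCore_le _), show index _ = 3 from h3] at h1
  have h2 := pow_index_mem (H := (P.subgroupOf A).normalCore.subgroupOf (P.subgroupOf A))
    ⟨⟨y, h hy.1⟩, hy.1⟩
  have h4 : Nat.Coprime 2 (orderOf (⟨y, h hy.1⟩ : A)) := Nat.coprime_two_left.2 (by simpa using hy.2)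
  obtain ⟨m, hm⟩ := exists_pow_eq_self_of_coprime (h4.coprime_dvd_left
    (Nat.dvd_of_mul_dvd_mul_right three_pos (n := 2) h1))
  have h5 : (⟨y, h hy.1⟩ : A) ∈ (P.subgroupOf A).normalCore := by rw [← hm]; exact pow_mem h2 m
  exact h5 ⟨g, hg⟩

theorem suborbit_three {Ω : Type*} [MulAction G Ω] [FaithfulSMul G Ω] [IsPreprimitive G Ω] {a b : Ω}
    (h3 : Nat.card (orbit (stabilizer G a) b) = 3) :
    Nonempty (stabilizer G a ≃* Multiplicative (ZMod 3)) ∨ Nonempty (stabilizer G a ≃* DihedralGroup 3) ∨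
      Nonempty (stabilizer G a ≃* DihedralGroup 6) ∨ Nonempty (stabilizer G a ≃* Equiv.Perm (Fin 4)) ∨
      Nonempty (stabilizer G a ≃* Equiv.Perm (Fin 4) × Multiplicative (ZMod 2)) := by
  have : Nontrivial Ω := by
    have := Nat.finite_of_card_ne_zero (h3.trans_ne three_ne_zero)
    have := Finite.one_lt_card_iff_nontrivial.1 (h3.ge.trans_lt' (by norm_num))
    exact Subtype.val_injective.nontrivial (α := orbit (stabilizer G a) b)
  have hA := maxCF_stabilizer (G := G) a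
  have h1 : (stabilizer G a ⊓ stabilizer G b).relIndex (stabilizer G a) = 3 :=
    (inf_relIndex_left _ _).trans ((index_stabilizer (stabilizer G a) b).trans h3)
  obtain ⟨g, hg⟩ := exists_smul_eq G b a
  have h2 : ∀ h ∈ stabilizer G a, MulAut.conj (h * g) • stabilizer G b = stabilizer G a := fun h hh =>
    (stabilizer_smul_eq_stabilizer_map_conj _ b).symm.trans (by rw [mul_smul, hg, hh])
  generalize stabilizer G a = A, stabilizer G b = B at *
  have h4 : (A ⊓ B).relIndex B = 3 := Nat.eq_of_mul_eq_mul_left Nat.card_pos (by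
    rw [CF.Fgs1.card_mul_relIndex inf_le_right, ← h1, CF.Fgs1.card_mul_relIndex inf_le_left,
      ← h2 1 (one_mem _), card_smul])
  have h5 : ∀ R ≤ A, A ≤ normalizer (R : Set G) → B ≤ normalizer (R : Set G) → R = ⊥ :=
    fun R r1 r2 r3 => by_contra fun e => by
      rw [hA.normalizer_eq r2 r1 e] at r3
      simp [inf_eq_right.2 r3] at h4
  have h6 := h5 _ (((closure_le _).2 fun _ h => h.1).trans inf_le_left)
    (le_normalizer_odd inf_le_left h1) (le_normalizer_odd inf_le_right h4)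
  have h7 : ∀ y ∈ A ⊓ B, Odd (orderOf y) → y = 1 := fun y h h' => h6.le (Subgroup.subset_closure ⟨h, h'⟩)
  have hP : IsPGroup 2 (A ⊓ B :) := fun g => ⟨(orderOf (g : G)).factorization 2,
    Subtype.ext (h7 _ (pow_mem g.2 _) (by
      rw [coe_pow, orderOf_pow_of_dvd (pow_pos two_pos _).ne' (Nat.ordProj_dvd _ _)]
      exact Nat.coprime_two_left.1 (Nat.coprime_ordCompl Nat.prime_two (orderOf_pos _).ne')))⟩
  have hc := CF.Fgs1.card_mul_relIndex (inf_le_left (a := A) (b := B))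
  rw [h1] at hc
  by_cases e : ∀ h ∈ A, MulAut.conj (h * g) • (A ⊓ B) = A ⊓ B
  · have h8 : MulAut.conj g • (A ⊓ B) = A ⊓ B := by simpa using e 1 (one_mem _)
    have h9 : A ≤ normalizer ((A ⊓ B :) : Set G) := fun h hh =>
      CF.Sig.map_conj_eq_iff_mem_normalizer.1 (by
        have := e h hh; rwa [map_mul, mul_smul, h8] at this)
    rw [h5 _ inf_le_left h9 (by
      have := smul_le_normalizer (σ := (MulAut.conj g)⁻¹) h9
      rwa [inv_smul_eq_iff.2 h8.symm, inv_smul_eq_iff.2 (by simpa using (h2 1 (one_mem _)).symm)] at this),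
      card_bot] at hc
    exact .inl ⟨mulEquivOfPrimeCardEq (p := 3) hc.symm (by simp)⟩
  obtain ⟨h, hh, e⟩ := by simpa only [not_forall, exists_prop] using e
  replace h2 := h2 h hh
  generalize MulAut.conj (h * g) = σ at e h2
  have h8 : σ • (A ⊓ B) ≤ A := h2 ▸ pointwise_smul_le_pointwise_smul_iff.2 inf_le_right
  have h9 : ¬ σ • (A ⊓ B) ≤ A ⊓ B := fun e' => e (eq_of_le_of_card_ge e' (card_smul _).ge)
  obtain ⟨w, w1, w2⟩ := SetLike.not_le_iff_exists.1 h9
  have h10 : ∀ S, A ⊓ B ≤ S → σ • (A ⊓ B) ≤ S → A ≤ S := fun S s1 s2 =>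
    le_of_relIndex_prime (h1 ▸ Nat.prime_three) s1 (s2 w1) (h8 w1) w2
  obtain ⟨t, x, ht, h, hx⟩ := exists_sq (σ := σ) (P := A ⊓ B) (p := 2) (by
    rw [inf_relIndex_right]
    have h11 := relIndex_le_of_le_right (H := A ⊓ B) h8 (by omega)
    obtain ⟨k, hk⟩ : ∃ k, (A ⊓ B).relIndex (σ • (A ⊓ B)) = 2 ^ k :=
      (hP.map σ.toMonoidHom).index ((A ⊓ B).subgroupOf ((A ⊓ B).map σ.toMonoidHom))
    rcases k with _ | _ | k
    · exact (h9 (relIndex_eq_one.1 hk)).elim
    · exact hk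
    · rw [h1, hk, pow_succ, pow_succ] at h11; have := Nat.two_pow_pos k; omega)
    (by
      rintro _ ⟨y, hy, rfl⟩ h
      rw [h7 y hy (Nat.coprime_two_right.1 (σ.orderOf_eq y ▸ h))]; simp)
    fun R r1 r2 r3 => by
      have := h10 _ r2 (r3 ▸ smul_le_normalizer r2)
      refine h5 R (r1.trans inf_le_left) this ?_
      have := smul_le_normalizer (σ := σ⁻¹) this
      rwa [inv_smul_eq_iff.2 r3.symm, inv_smul_eq_iff.2 h2.symm] at this
  rw [hx, smul_seg h.shift] at h8 h10
  have h11 : seg x 1 (t + 1) = A := le_antisymm (seg_le.2 fun i _ _ => by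
    by_cases e : i = 1
    exacts [(hx.ge (mem_seg (by omega) (by omega))).1, h8 (mem_seg (by omega) (by omega))])
    (h10 _ (seg_mono le_rfl (by omega)) (seg_mono (by omega) le_rfl))
  have h12 : B = seg x 0 t := (smul_left_cancel_iff σ).1 (by rw [h2, smul_seg h.shift, zero_add, h11])
  have h13 := h.pow_mem_seg ht
  have h14 := h.two ht (fun R r1 r2 => h5 R (r1.trans (hx.ge.trans inf_le_left)) (h11.ge.trans
    ((seg_mono (by omega) le_rfl).trans r2)) (h12.le.trans ((seg_mono le_rfl (by omega)).trans r2)))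
    (by rw [h11, ← hx, h1]; decide)
  rw [h11, ← hx, h1] at h13
  rw [hx, h.card t le_rfl] at hc
  have m : ∀ i : ℤ, 1 ≤ i → i ≤ t + 1 → x i ∈ A := fun i h h' => h11.le (mem_seg h h')
  have h15 : x 1 * x (t + 1) ∉ seg x 2 t := fun e => by
    have : seg x 1 t = A := le_antisymm (hx.ge.trans inf_le_left) (h11.ge.trans (seg_le.2 fun i _ _ => by
      by_cases e' : i = t + 1
      · exact e' ▸ (mul_mem_cancel_left (mem_seg le_rfl (by omega))).1 (seg_mono (by omega) le_rfl e)
      · exact mem_seg (by omega) (by omega)))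
    simp [hx, this] at h1
  have d : ∀ {n : ℕ} {r : G}, r ∈ A → orderOf r = n → Nat.card A = 2 * n → x 1 * r * (x 1)⁻¹ = r⁻¹ →
      x 1 ∉ zpowers r → Nonempty (A ≃* DihedralGroup n) := fun hr h1 h2 h3 h4 => by
    obtain ⟨f⟩ := CF.Invol.nonempty_closure_equiv_dihedral h1 (h.mul_self ht 1) h3 h4
    exact ⟨(MulEquiv.subgroupCongr (eq_of_le_of_card_ge ((closure_le _).2 (by
      rintro _ (rfl | rfl); exacts [m _ le_rfl (by omega), hr])) (by
        rw [Nat.card_congr f.toEquiv, DihedralGroup.nat_card, h2])).symm).trans f⟩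
  have i1 : x 1 * (x 1 * x (t + 1)) * (x 1)⁻¹ = (x 1 * x (t + 1))⁻¹ := by
    rw [← mul_assoc, h.mul_self ht, one_mul, mul_inv_rev, inv_eq_of_mul_eq_one_right (h.mul_self ht (t + 1))]
  have hr := mul_mem (m 1 le_rfl (by omega)) (m (t + 1) (by omega) le_rfl)
  have sh : ∀ c, (hc : c ∈ A) → Sh A (x 1) (x 2) c (x t) (x (t + 1)) → c ∈ seg x 2 t →
      seg x 2 t ≤ closure {x 2, c, x t} → (c = 1 → Nonempty (A ≃* Equiv.Perm (Fin 4))) ∧
      (c ≠ 1 → Nonempty (A ≃* Equiv.Perm (Fin 4) × Multiplicative (ZMod 2))) := fun c hc s _ s2 => by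
    simpa using (Sh.of_map A.subtype A.subtype_injective (H := ⊤) (a := ⟨_, m 1 le_rfl (by omega)⟩)
      (b := ⟨_, m 2 (by omega) (by omega)⟩) (c := ⟨c, hc⟩) (d := ⟨_, m t (by omega) (by omega)⟩)
      (e := ⟨_, m (t + 1) (by omega) le_rfl⟩) (by simpa [← MonoidHom.range_eq_map] using s)).equiv
      (Subtype.ext ((pow_add _ 3 3).trans (s.sq1 (s2 h13))))
  rcases h14 with rfl | ⟨rfl, h14⟩ | ⟨rfl, h14⟩ | ⟨rfl, h14⟩
  · have h16 : orderOf (x 1 * x ((1 : ℕ) + 1)) = 3 := orderOf_eq_prime (by simpa [seg] using h13)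
      (by simpa [seg] using h15)
    exact .inr (.inl (d hr h16 hc.symm i1 fun e => by
      have := orderOf_dvd_of_mem_zpowers e
      rw [h16, h.orderOf_eq ht] at this; omega))
  · have h16 : Commute (x 1 * x ((2 : ℕ) + 1)) (x 2) := h14.mul_left (h.commute_iff _ _ 1 h14).symm
    have h17 : orderOf ((x 1 * x ((2 : ℕ) + 1)) ^ 4) = 3 := orderOf_eq_prime (by
      rw [← pow_mul, mul_comm, pow_mul]
      by_cases e : (x 1 * x ((2 : ℕ) + 1)) ^ 3 = 1
      · rw [e, one_pow]
      · rw [h.eq_of_mem ht h13 e, show 4 = 2 * 2 from rfl, pow_mul, sq (x 2), h.mul_self ht, one_pow])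
      fun e => h15 ((mul_mem_cancel_left h13).1 (by rw [← pow_succ, e]; exact one_mem _))
    have h18 := (h16.pow_left 4).orderOf_mul_eq_mul_orderOf_of_coprime (by
      rw [h17, h.orderOf_eq ht]; decide)
    rw [h17, h.orderOf_eq ht] at h18
    have h19 : x 1 * ((x 1 * x ((2 : ℕ) + 1)) ^ 4 * x 2) * (x 1)⁻¹ = ((x 1 * x ((2 : ℕ) + 1)) ^ 4 * x 2)⁻¹ := by
      rw [← conj_mul, ← conj_pow, i1, h14.mul_inv_cancel, (h16.pow_left 4).eq, inv_pow,
        mul_inv_rev (x 2), inv_eq_of_mul_eq_one_right (h.mul_self ht 2)]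
    refine .inr (.inr (.inl (d (mul_mem (pow_mem hr 4) (m 2 (by omega) (by omega))) h18 hc.symm h19
      fun ⟨k, hk⟩ => ?_)))
    rw [(show Commute (x 1) _ from (congrArg (Commute · _) hk).mp (Commute.zpow_self _ k)).mul_inv_cancel,
      eq_inv_iff_mul_eq_one, ← sq,
      ← orderOf_dvd_iff_pow_eq_one, h18] at h19
    omega
  · exact .inr (.inr (.inr (.inl ((sh 1 (one_mem _) (h11 ▸ h14) (one_mem _) (seg_le.2 fun i _ hi =>
      Subgroup.subset_closure (by norm_num at hi; interval_cases i <;> simp))).1 rfl))))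
  · exact .inr (.inr (.inr (.inr ((sh _ (m 3 (by omega) (by omega)) (h11 ▸ h14) (mem_seg (by omega)
      (by omega)) (seg_le.2 fun i _ hi => Subgroup.subset_closure (by
        norm_num at hi; interval_cases i <;> simp))).2 (h.ne_one ht 3)))))

end CF.Perm
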