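import Cfsg.Agent.Recog.TW

/-! Complements to the Thompson–Wielandt theorem. -/

namespace CF.Perm

open MulAction Subgroup Cfsg CF.BG CF.Sig CF.Recog

variable {G Ω : Type*} [Group G] [MulAction G Ω] {r : Ω → Ω → Prop} {x y : Ω}

theorem faithful_quot {M : Subgroup G} (h : M.normalCore = ⊥) : FaithfulSMul G (G ⧸ M) :=
  ⟨fun e => (MonoidHom.ker_eq_bot_iff _).1 ((normalCore_eq_ker M).symm.trans h) (Equiv.ext e)⟩

theorem prim_quot {M : Subgroup G} (h : IsCoatom M) : IsPreprimitive G (G ⧸ M) := by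
  have := QuotientGroup.nontrivial_iff.2 h.1
  exact (isCoatom_stabilizer_iff_preprimitive G ((1 : G) : G ⧸ M)).1 (by rwa [stabilizer_quotient])

theorem core_eq {X M N : Subgroup G} (h1 : N ⊴ M) (h2 : N ≤ X) (h3 : ∀ K, K ⊴ M → K ≤ X → K ≤ N) :
    (X.subgroupOf M).normalCore.map M.subtype = N := by
  refine le_antisymm (h3 _ ⟨map_subtype_le _, ?_⟩ ((map_mono (normalCore_le _)).trans
    (by rw [subgroupOf_map_subtype]; exact inf_le_left))) fun n hn => ?_
  · simpa [← MonoidHom.range_eq_map, normalizer_eq_top] using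
      le_normalizer_map (H := (X.subgroupOf M).normalCore) M.subtype
  · exact ⟨⟨n, h1.le hn⟩, fun g => h2 (h1.conj_mem g.2 hn), rfl⟩

theorem core_Kr (h : Orb G r) (hxy : r x y) : ((stabilizer G x ⊓ stabilizer G y).subgroupOf
    (stabilizer G x)).normalCore.map (stabilizer G x).subtype = Kr G r x :=
  core_eq (h.Kr_normal x) (le_inf Kr_le (Kr_le' hxy)) fun _ h1 h2 =>
    h.le_Kr h1 hxy (h2.trans inf_le_right)

theorem le_Pr (h : Orb G r) (hxy : r x y) {K : Subgroup G} (h1 : K ⊴ stabilizer G x)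
    (h2 : K ≤ Kr G (flip r) y) : K ≤ Pr G r x := fun k hk =>
  mem_Pr.2 ⟨h.le_Kr h1 hxy (h2.trans Kr_le) hk, fun z x' hz hx' => by
    obtain ⟨g, e, rfl⟩ := h.trans hxy hz
    exact (mem_Kr.1 (h.flip.cj_Kr g y ▸ mem_cj.2 (h2 (h1.conj_mem' e hk)))).2 x' hx'⟩

theorem core_Pr (h : Orb G r) (hxy : r x y) : ((Kr G r x ⊓ Kr G (flip r) y).subgroupOf
    (stabilizer G x)).normalCore.map (stabilizer G x).subtype = Pr G r x :=
  core_eq (h.Pr_normal x) (le_inf Pr_le (Pr_le' hxy)) fun _ h1 h2 =>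
    le_Pr h hxy h1 (h2.trans inf_le_right)

/-- the second kernel is a `q`-group whenever `O_q` of the stabilizer is non-trivial -/
theorem pi_Pr [Finite G] [FaithfulSMul G Ω] (hprim : IsPreprimitive G Ω) (h : Orb G r) {q : ℕ}
    (hq : q.Prime) (hc : 𝐎 {q} (stabilizer G x) ≠ ⊥) : PiGrp {q} (Pr G r x) := by
  have := Fact.mk hq
  refine piGrp_of_isPGroup hq (CF.Loc.isPGroup_of_pResidualOf_eq_bot (by_contra fun hP => hc ?_))
  obtain ⟨y, hxy⟩ := h.out x
  have hKx : Kr G (flip r) y ≤ stabilizer G x := Kr_le' (r := flip r) hxy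
  have h0 := h.O_le hprim hq hP hxy
  have n := (O_normal {q} (stabilizer G x)).norm
  have h2 : 𝐎 {q} (stabilizer G x) ⊓ Kr G (flip r) y ≤ 𝐎 {q} (stabilizer G y) :=
    (le_O (normalIn_inf_right (hKx.trans n)) (O_pi _ _).inf_left).trans
      (O_le_O_of_normal (h.flip.Kr_normal y) _)
  have h3 : 𝐎 {q} (stabilizer G x) ⊓ stabilizer G y ≤ Kr G (flip r) y := fun g hg =>
    mem_Kr.2 ⟨hg.2, fun a hay => by
      have hP' := h.res_ne_bot hP a
      have hYn : pResidualOf q (Pr G r a) ⊴ stabilizer G a := (h.Pr_normal a).char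
        (CF.Loc.pResidualOf_le _ _) (CF.Loc.normalizer_le_normalizer_pResidualOf _ _)
      have hYK : pResidualOf q (Pr G r a) ≤ Kr G (flip r) y :=
        (CF.Loc.pResidualOf_le _ _).trans (Pr_le' hay)
      have h4 := (norm_of_comm_le (K := 𝐎 {q} (stabilizer G x) ⊓ stabilizer G y) (comm_sup_le
        ((le_inf ((commutator_mono (hYK.trans hKx) inf_le_left).trans (comm_le_right n))
          ((commutator_mono hYK inf_le_right).trans (comm_le_left (h.flip.Kr_normal y).norm))).trans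
          (h2.trans le_sup_right))
        ((comm_le_left (inf_le_right.trans (O_normal _ _).norm)).trans le_sup_right)
        (norm_of_le le_sup_left) (norm_of_le le_sup_right))).trans
        (CF.Loc.normalizer_le_normalizer_pResidualOf q _)
      rw [CF.Loc.pResidualOf_sup_eq (O_pi _ _).isPGroup (h0.trans
        ((Kr_le' (r := flip r) hay).trans hYn.norm)), CF.Loc.pResidualOf_pResidualOf] at h4
      exact norm_le_stab hprim hP' hYn (h4 hg)⟩
  have h5 := (h0.trans hKx).trans n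
  by_cases e : 𝐎 {q} (stabilizer G y) = ⊥
  · obtain ⟨g, rfl⟩ := h.exists_smul x y
    rwa [← cj_stab, ← cj_O, cj_eq_bot] at e
  refine O_eq_bot_of_le hprim (h.ne hxy) (le_sup_right.trans
    (((O_pi _ _).sup (O_pi _ _) (.inl h5)).nil.eq_of_inf_norm_le le_sup_left ?_).ge)
  refine (inf_le_inf_left _ (norm_le_stab hprim e (O_normal _ _))).trans ?_
  rw [sup_inf_left (O_le _ _) (.inl h5)]
  exact sup_le le_rfl ((le_inf inf_le_left h3).trans h2)

end CF.Perm
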