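import Cfsg.Agent.Perm.Ch1
import Cfsg.Agent.Perm.Sims3
import Cfsg.Agent.Perm.TW2
import Cfsg.Agent.Loc.Xfer
import Cfsg.Agent.Fgs2.AutP

/-!
# Simple groups with short chains of subgroups: the setting
-/

set_option autoImplicit false
set_option linter.unusedSectionVars false

namespace CF.Perm.Chn
open Subgroup Cfsg CF.BG CF.Bender CF.PG CF.ZD
open scoped ArithmeticFunction.Omega commutatorElement

variable {G : Type*} [Group G] [Finite G]
variable {A B C E H K L M N P S T V Y : Subgroup G} {k m n : ℕ} {g h v x y z : G}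

theorem sol_top' : Sol (⊤ : Subgroup G) ↔ Group.IsSolvable G :=
  ⟨fun _ => Group.isSolvable_of_surjective (f := (⊤ : Subgroup G).subtype) fun x => ⟨⟨x, trivial⟩, rfl⟩,
    fun _ => inferInstance⟩

theorem sol_of_dvd {p q a b : ℕ} (hp : p.Prime) (hq : q.Prime) (h : ♯H ∣ p ^ a * q ^ b) : Sol H :=
  CF.Char.isSolvable_of_card_dvd hp hq _ h

theorem core_sol (i : A.relIndex H ≤ 4) : ∃ C, C ⊴ H ∧ C ≤ A ∧ Sol (qt C H) := by
  have n : (A.subgroupOf H).normalCore.map H.subtype ⊴ H := normal_iff_map_subtype.1 inferInstance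
  refine ⟨_, n, (map_mono (normalCore_le _)).trans ((subgroupOf_map_subtype _ _).le.trans inf_le_left),
    sol_of_dvd (a := 3) (b := 1) Nat.prime_two Nat.prime_three ?_⟩
  rw [card_qt n.norm, relIndex, ← comap_subtype, comap_map_eq_self_of_injective H.subtype_injective]
  exact (CF.Invol.index_normalCore_dvd_factorial _).trans (Nat.factorial_dvd_factorial i)

theorem sol_of_idx (s : Sol (H ⊓ A)) (i : A.relIndex H ≤ 4) : Sol H := by
  obtain ⟨C, h1, h2, h3⟩ := core_sol i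
  exact (s.mono (le_inf h1.le h2)).of_qt h1.norm h3

theorem perf_le (p : ⁅K, K⁆ = K) (n : K ≤ 𝐍 C) (s : Sol (qt C K)) : K ≤ C :=
  (qt_eq_bot n).1 (s.eq_bot_of_le_der (by rw [← qt_comm n n, p]))

theorem le_of_perf (p : ⁅K, K⁆ = K) (i : A.relIndex K ≤ 4) : K ≤ A := by
  obtain ⟨C, h1, h2, h3⟩ := core_sol i
  exact (perf_le p h1.norm h3).trans h2

theorem noTwo_of_perf (p : ⁅K, K⁆ = K) : NoTwo K := fun X e => by
  have := relIndex_eq_one.2 (le_of_perf (A := X) p (by omega))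
  omega

/-- the extremal transfer lemma inside a subgroup -/
theorem xt (hS : Syl 2 S Y) (hc : ⁅S, S⁆ ≤ M) (x2 : x * x = 1) (hx : x ∈ ⁅Y, Y⁆) (xS : x ∈ S)
    (hT : T ≤ Y) (k : PiGrp {2} T) (xT : x ∈ T) (c : T ≤ 𝐂₁ x)
    (h : ∀ g ∈ Y, cj g T ≤ S → x⁻¹ * (g * x * g⁻¹) ∈ M) : x ∈ M := by
  refine CF.Loc.extremal_transfer_ab (G := Y) (S := S.subgroupOf Y) (M := M.subgroupOf Y)
    (T := T.subgroupOf Y) (x := ⟨x, hS.le xS⟩) (hS.not_dvd Nat.prime_two)
    (commutator_le.2 fun a ha b hb => hc (commutator_mem_commutator ha hb)) (Subtype.ext x2) ?_ xS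
    (k.isPGroup.of_equiv (subgroupOfEquivOfLe hT).symm) xT
    (fun t ht => mem_cent1.2 (Subtype.ext (mem_cent1.1 (c ht)))) fun g hg => ?_
  · rw [← map_subtype_commutator] at hx
    obtain ⟨y, hy, e⟩ := hx
    exact (Subtype.ext e : y = ⟨x, hS.le xS⟩) ▸ hy
  · have := h g⁻¹ (inv_mem g.2) fun y hy => by
      obtain ⟨t, ht, rfl⟩ := mem_cj_iff.1 hy
      exact hg (mem_map_of_mem _ (show (⟨t, hT ht⟩ : Y) ∈ T.subgroupOf Y from ht))
    rwa [inv_inv] at this

theorem three_dvd (k : IsKleinFour V) (n : L ≤ 𝐍 V) (h : ∀ x ∈ V, x ≠ 1 → ¬ L ≤ 𝐂₁ x) :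
    3 ∣ ♯L := by
  obtain ⟨g, hg, o, nc⟩ := exists_odd_mv k n h
  have h1 : (𝐂 V).relIndex (zpowers g) ∣ 6 :=
    (relIndex_dvd_of_norm (zpowers_le.2 (n hg)) (norm_le_norm_cent V)).trans
      (CF.Invol.klein_relIndex_dvd_six k)
  have h2 := relIndex_dvd_card (𝐂 V) (zpowers g)
  have h3 := (odd_zpowers o).of_dvd_nat h2
  have h4 : (𝐂 V).relIndex (zpowers g) ≠ 1 := fun e => nc (relIndex_eq_one.1 e (mem_zpowers g))
  refine Dvd.dvd.trans ?_ (h2.trans (card_dvd (zpowers_le.2 hg)))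
  have := Nat.le_of_dvd (by norm_num) h1
  generalize (𝐂 V).relIndex (zpowers g) = r at *
  interval_cases r <;> simp_all (config := {decide := true})

theorem three_dvd' (k : IsKleinFour V) (hg : g ∈ L) (n : g ∈ 𝐍 V) (o : Odd (orderOf g))
    (nc : g ∉ 𝐂 V) : 3 ∣ ♯L :=
  (three_dvd k (zpowers_le.2 n) fun _ hx x1 l => nc (klein_odd k hx x1 n (l (mem_zpowers g)) o)).trans
    (card_dvd (zpowers_le.2 hg))

theorem sol_84 (h : ♯H = 84) : Sol H := by
  have : Fact (Nat.Prime 7) := ⟨by norm_num⟩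
  let P : Sylow 7 H := default
  have h1 := card_sylow_modEq_one 7 H
  have h2 := P.card_dvd_index
  have h3 : Nat.card P = 7 := by
    rw [P.card_eq_multiplicity, h, show 84 = 7 * 12 from rfl,
      Nat.factorization_mul (by norm_num) (by norm_num)]
    simp [Nat.Prime.factorization this.out, Nat.factorization_eq_zero_of_not_dvd]
  have h4 : P.index = 12 := by
    have := P.1.card_mul_index
    rw [h3, h] at this
    omega
  rw [h4] at h2
  have h5 : Nat.card (Sylow 7 H) = 1 := by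
    have := Nat.le_of_dvd (by norm_num) h2
    generalize Nat.card (Sylow 7 H) = r at *
    interval_cases r <;> simp_all (config := {decide := true})
  have := (Nat.card_eq_one_iff_unique.1 h5).1
  have := P.normal_of_subsingleton
  have s1 : Group.IsSolvable P := CF.Char.isSolvable_of_card_dvd (a := 0) (b := 1) Nat.prime_two
    ‹Fact (Nat.Prime 7)›.out _ (by rw [h3]; norm_num)
  have s2 : Group.IsSolvable (H ⧸ P.1) := CF.Char.isSolvable_of_card_dvd (a := 2) (b := 1)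
    Nat.prime_two Nat.prime_three _ (by rw [← index_eq_card, h4]; norm_num)
  exact Group.isSolvable_of_ker_le_range P.1.subtype (QuotientGroup.mk' P.1) (by simp)

/-- a simple group with short chains of subgroups -/
structure Sh (G : Type*) [Group G] (k : ℕ) : Prop where
  simple : IsSimpleGroup G
  ns : ¬ Sol (⊤ : Subgroup G)
  nc : ¬ Ch (⊥ : Subgroup G) ⊤ (k + 1)
  k8 : k ≤ 8
  big : k = 8 → 128 ∣ Nat.card G

namespace Sh
variable (s : Sh G k)
include s

theorem not_ch (h : H ≠ ⊤) : ¬ Ch ⊥ H k := fun c => s.nc (c.step h.lt_top)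

theorem not_ch8 (h : H ≠ ⊤) : ¬ Ch ⊥ H 8 := fun c => s.not_ch h (c.anti s.k8)

theorem ne_top (h : Sol H) : H ≠ ⊤ := fun e => s.ns (e ▸ h)

theorem norm_ne (h : Sol E) (h1 : E ≠ ⊥) : 𝐍 E ≠ ⊤ := fun e => by
  have := s.simple
  rcases (normalizer_eq_top_iff.1 e).eq_bot_or_eq_top with h2 | h2
  exacts [h1 h2, s.ne_top h h2]

theorem cent_ne (h : z ≠ 1) : 𝐂₁ z ≠ ⊤ := fun e => s.norm_ne (abel_zpowers z).sol
  (zpowers_ne_bot.2 h) (top_le_iff.1 (by rw [← e, ← cent_zpowers]; exact cent_le_norm _))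

theorem perf : ⁅(⊤ : Subgroup G), ⊤⁆ = (⊤ : Subgroup G) := by
  have := s.simple
  rcases (commutator_normal (⊤ : Subgroup G) ⊤).eq_bot_or_eq_top with h | h
  exacts [(s.ns (der_eq_bot.1 h).sol).elim, h]

theorem om_lt (h : Sol H) {d : ℕ} (hd : d ∣ ♯H) : Ω d < k :=
  not_le.1 fun l => s.not_ch (s.ne_top h) (ch_dvd h hd l)

theorem sol_norm (h : Sol E) (h1 : 16 ∣ ♯E) : Sol (𝐍 E) := by
  by_contra ns
  refine s.not_ch8 (s.norm_ne h ?_) ((ch_two (n := 4) h h1).trans (ch_ns_qt (normalIn_norm E) h ns))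
  rintro rfl
  simp at h1

theorem f2 (h : Sol L) : ¬ 192 ∣ ♯L := fun d => by
  have := s.simple
  have o : Ω 192 = 7 := by
    rw [show 192 = 2 ^ 6 * 3 from rfl, om_mul (by norm_num) (by norm_num), om_two,
      ArithmeticFunction.cardFactors_apply_prime Nat.prime_three]
  have k8 : k = 8 := by have := s.om_lt h d; have := s.k8; omega
  have c : ♯L = 192 := by
    obtain ⟨c, hc⟩ := d
    have c0 : c ≠ 0 := by rintro rfl; exact card_ne_zero' L hc
    by_contra hn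
    have h1 : 1 < c := by rcases c with _ | _ | c <;> omega
    have := s.om_lt h (dvd_refl _)
    rw [hc, om_mul (by norm_num) c0, o] at this
    have := om_pos h1
    omega
  have m : IsCoatom L := ⟨s.ne_top h, fun M hM => by
    by_contra hn
    exact s.not_ch8 hn ((ch_dvd h d o.ge).step hM)⟩
  obtain ⟨T, hT⟩ := exists_syl 2 L
  obtain ⟨S, hS, l⟩ := exists_syl_le (le_top (a := T)) hT.pi
  have cT : ♯T = 64 := by
    have h1 : 2 ^ 6 ∣ ♯T := hT.dvd_card (by rw [c]; norm_num) (piNat_pow_self Nat.prime_two 6)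
    have h2 := hT.card_mul
    have h3 := hT.not_dvd Nat.prime_two
    obtain ⟨j, hj⟩ := h1
    rw [c, hj] at h2
    have h4 : j * T.relIndex L = 3 := by linarith
    have h5 := hT.pi
    rw [PiGrp, hj] at h5
    rcases (Nat.dvd_prime Nat.prime_three).1 (Dvd.intro _ h4) with rfl | rfl
    · exact hj
    · exact absurd (h5 3 Nat.prime_three (by norm_num)) (by norm_num)
  have lt : T < S := lt_of_le_of_ne l fun e => by
    have : 2 ^ 7 ∣ ♯S := hS.dvd_card (by rw [card_top']; exact s.big k8)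
      (piNat_pow_self Nat.prime_two 7)
    rw [← e, cT] at this
    norm_num at this
  obtain ⟨y, yS, yn, yT, -⟩ := exists_step hS.pi lt
  have yL : y ∉ L := fun e => yT (hT.mem_of_norm e yn (hS.pi.elt yS))
  have := faithful_quot (M := L) ((normalCore_normal L).eq_bot_or_eq_top.resolve_right fun e =>
    m.1 (top_le_iff.1 (e ▸ normalCore_le L)))
  have := prim_quot m
  have e1 : MulAction.stabilizer G ((1 : G) : G ⧸ L) = L := MulAction.stabilizer_quotient L
  have e2 : MulAction.stabilizer G ((y : G) : G ⧸ L) = cj y L := by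
    rw [show ((y : G) : G ⧸ L) = y • ((1 : G) : G ⧸ L) by simp,
      MulAction.stabilizer_smul_eq_stabilizer_map_conj, e1]; rfl
  have r : (cj y L).relIndex L = 3 := by
    have h1 : (cj y L).relIndex L ∣ T.relIndex L :=
      relIndex_dvd_left L (cj_of_norm yn ▸ cj_mono y hT.le)
    have h2 := hT.card_mul
    rw [cT, c] at h2
    rw [show T.relIndex L = 3 by omega] at h1
    refine ((Nat.dvd_prime Nat.prime_three).1 h1).resolve_left fun e => yL ?_
    have h3 : y ∈ 𝐍 L := cj_eq_self.1 (eq_of_card_eq (relIndex_eq_one.1 e) (by simp)).symm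
    by_contra h4
    exact s.norm_ne h (by rintro rfl; simp at c) (m.2 _ (lt_of_le_of_ne (le_norm_self L)
      fun e => h4 (e ▸ h3)))
  have h3 : Nat.card (MulAction.orbit (MulAction.stabilizer G ((1 : G) : G ⧸ L)) ((y : G) : G ⧸ L))
      = 3 := (MulAction.index_stabilizer _ _).symm.trans (by
    change (MulAction.stabilizer G ((y : G) : G ⧸ L)).relIndex _ = 3
    rw [e1, e2, r])
  have h4 := suborbit_three h3
  rw [e1] at h4
  rcases h4 with ⟨⟨e⟩⟩ | ⟨⟨e⟩⟩ | ⟨⟨e⟩⟩ | ⟨⟨e⟩⟩ | ⟨⟨e⟩⟩ <;>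
    have := Nat.card_congr e.toEquiv <;>
    simp [c, DihedralGroup.card, Fintype.card_perm, Nat.factorial] at this

theorem f2' (h : Sol L) (hP : P ≤ L) (h1 : 64 ∣ ♯P) (h2 : 3 ∣ ♯L) : False :=
  s.f2 h (Nat.Coprime.mul_dvd_of_dvd_of_dvd (m := 64) (n := 3) (by norm_num)
    (h1.trans (card_dvd hP)) h2)

theorem exists_ns (h : IsTwoLocal N) (ns : ¬ Sol N) : ∃ z : G, Iv z ∧ ¬ Sol (𝐂₁ z) := by
  obtain ⟨E, p, h1, rfl⟩ := h
  have p := piGrp_of_isPGroup Nat.prime_two p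
  by_contra! h2
  have a := p.abelem_Om_center
  have v1 := (p.le (center_normal E).le).Om_ne_bot (p.center_ne_bot h1)
  have n : 𝐍 E ≤ 𝐍 (𝛀 2 (𝐙 E)) := le_norm_Om 2 (norm_center E)
  have l : 𝛀 2 (𝐙 E) ≤ 𝐍 E := (Om_le _ _).trans (inf_le_left.trans (le_norm_self E))
  have nt := s.norm_ne p.sol h1
  generalize 𝛀 2 (𝐙 E) = V, 𝐍 E = H at *
  obtain ⟨v, hv, v1⟩ := exists_mem_ne_one v1
  have sv := h2 v ⟨v1, by simpa [pow_two] using a.pow v hv⟩
  have nC := normalIn_inf_cent n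
  have sC : Sol (H ⊓ 𝐂 V) := sv.mono (inf_le_right.trans (cent_le_cent1 hv))
  have c4 := ch_ns_qt nC sC ns
  have dv := card_dvd (le_inf l a.abel)
  obtain ⟨j, hj⟩ := a.pi.card_pow
  have j3 : j ≤ 3 := not_lt.1 fun e => s.not_ch8 nt
    ((ch_two (n := 4) sC ((pow_dvd_pow 2 e).trans (hj ▸ dv))).trans c4)
  have o : (𝐂₁ v).relIndex H ≤ ♯V :=
    relIndex_le_cj (S := V) fun g hg => conj_mem_of_norm (n hg) hv
  have o5 : 4 < (𝐂₁ v).relIndex H := not_le.1 fun e => ns (sol_of_idx (sv.mono inf_le_right) e)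
  obtain rfl : j = 3 := by interval_cases j <;> omega
  have := Fact.mk Nat.prime_two
  have := a.abel.comm
  have d := relIndex_cent_dvd_card_aut n
  rw [CF.Fgs2.card_mulAut_of_pow_eq_one (p := 2) (r := 3) (fun x => Subtype.ext (a.pow x x.2)) hj,
    ← inf_relIndex_left, ← card_qt nC.norm] at d
  have nq : ¬ Sol (qt (H ⊓ 𝐂 V) H) := fun e => ns (sC.of_qt nC.norm e)
  obtain ⟨P, hP⟩ := exists_syl 2 (qt (H ⊓ 𝐂 V) H)
  have d4 := (four_dvd hP nq).trans (card_dvd hP.le)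
  by_cases d8 : 2 ^ 3 ∣ ♯(qt (H ⊓ 𝐂 V) H)
  · have h3 := hP.dvd_card d8 (piNat_pow_self Nat.prime_two 3)
    refine s.not_ch8 nt ((ch_two (n := 3) sC (hj ▸ dv)).trans (.of_qt nC (ch_syl2 hP nq h3
      (der_le_cent hP.pi ?_))))
    obtain ⟨i, hi⟩ := hP.pi.card_pow
    have h4 := (card_dvd hP.le).trans d
    rw [hi] at h4 ⊢
    by_contra h5
    have : 4 ≤ i := by
      by_contra h6
      exact h5 (Nat.pow_le_pow_right two_pos (show i ≤ 3 by omega))
    exact absurd ((pow_dvd_pow 2 this).trans h4) (by decide)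
  · refine nq ?_
    have h3 : ♯(qt (H ⊓ 𝐂 V) H) ∈ Nat.divisors 168 := Nat.mem_divisors.2 ⟨d, by norm_num⟩
    have h4 : ∀ r ∈ Nat.divisors 168, 2 ^ 2 ∣ r → ¬ 2 ^ 3 ∣ r →
        r ∣ 2 ^ 2 * 3 ^ 1 ∨ r ∣ 2 ^ 2 * 7 ^ 1 ∨ r = 84 := by decide
    rcases h4 _ h3 d4 d8 with h | h | h
    exacts [sol_of_dvd Nat.prime_two Nat.prime_three h,
      sol_of_dvd Nat.prime_two (by norm_num) h, sol_84 h]

end Sh

end CF.Perm.Chn
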