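import Cfsg.Agent.Perm.Ch2
import Cfsg.Agent.Ab2.Z

/-!
# Short chains: the configuration of a nonsolvable involution centralizer
-/

set_option autoImplicit false
set_option linter.unusedSectionVars false

namespace CF.Perm.Chn
open Subgroup Cfsg CF.BG CF.Bender CF.PG CF.ZD
open scoped ArithmeticFunction.Omega commutatorElement

universe u
variable {G : Type u} [Group G] [Finite G]
variable {A B C D E H K L M N P Q R S T V Y : Subgroup G} {k m n : ℕ} {g h v x y z : G}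

/-- dihedral or elementary of order eight -/
def Ty {G : Type*} [Group G] (D : Subgroup G) : Prop :=
  (∃ m, 2 ≤ m ∧ Nonempty (D ≃* DihedralGroup m)) ∨ (♯D = 8 ∧ ∀ x ∈ D, x * x = 1)

theorem Ty.congr {G G' : Type*} [Group G] [Group G'] {D : Subgroup G} {D' : Subgroup G'} (h : Ty D)
    (e : Nonempty (D ≃* D')) : Ty D' := by
  obtain ⟨e⟩ := e
  refine h.imp (fun ⟨m, h1, ⟨f⟩⟩ => ⟨m, h1, ⟨e.symm.trans f⟩⟩) fun ⟨h1, h2⟩ =>
    ⟨(Nat.card_congr e.toEquiv).symm.trans h1, fun x hx => ?_⟩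
  have := congrArg (fun y => (e y : G')) (Subtype.ext (h2 _ (e.symm ⟨x, hx⟩).2) :
    e.symm ⟨x, hx⟩ * e.symm ⟨x, hx⟩ = 1)
  simpa using this

/-- the induction hypothesis -/
def IH (G : Type u) [Group G] : Prop :=
  ∀ (X : Type u) [Group X] [Finite X], Nat.card X < Nat.card G → Sh X 6 →
    ∀ P : Subgroup X, Syl 2 P ⊤ → Ty P

/-- the configuration -/
structure Cf (k : ℕ) (z : G) (T Q K D : Subgroup G) : Prop where
  sh : Sh G k
  iz : Iv z
  sT : Syl 2 T (𝐂₁ z)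
  mx : ∀ y : G, Iv y → ∀ P : Subgroup G, P ≤ 𝐂₁ y → PiGrp {2} P → ♯T < ♯P → Sol (𝐂₁ y)
  zQ : z ∈ Q
  nQ : Q ⊴ T
  nK : T ≤ 𝐍 K
  cQ : K ≤ 𝐂 Q
  pf : ⁅K, K⁆ = K
  ns : ¬ Sol K
  hD : T ⊓ K = D
  sD : Syl 2 D K
  ty : Ty (qt Q D)
  b1 : 4 * ♯T ≤ 2 ^ k
  b2 : Q.relIndex D ≤ 8 → 8 * ♯T ≤ 2 ^ k
  ab : ⁅D, D⁆ ≤ Q → T ⊓ 𝐂 D ≤ Q ⊔ D

theorem simple_qt (n : K ≤ 𝐍 R) (h1 : ¬ K ≤ R) (h : ∀ Y, Y ⊴ K → Y ≠ K → Y ≤ R) :
    IsSimpleGroup (qt R K) := by
  have : Nontrivial (qt R K) := (nontrivial_iff_ne_bot _).2 fun e => h1 ((qt_eq_bot n).1 e)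
  refine ⟨fun W hW => ?_⟩
  have h2 := normal_iff_map_subtype.1 hW
  have h3 : qt R (K ⊓ qp R (W.map (qt R K).subtype)) = W.map (qt R K).subtype := by
    rw [qt_inf_qp, inf_eq_right.2 h2.le]
  by_cases e : K ⊓ qp R (W.map (qt R K).subtype) = K
  · rw [e] at h3
    exact .inr (map_injective (qt R K).subtype_injective (h3.symm.trans (map_top_subtype _).symm))
  · rw [qt_of_le (h _ (normalIn_inf_left (norm_qp n h2.norm)) e)] at h3
    exact .inl ((map_eq_bot_iff_of_injective _ (qt R K).subtype_injective).1 h3.symm)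

theorem Sh.exists_cf (s : Sh G k) (ih : IH G) (iz : Iv z) (ns : ¬ Sol (𝐂₁ z)) :
    ∃ (z : G) (T Q K D : Subgroup G), Cf k z T Q K D := by
  obtain ⟨T, hT⟩ := exists_syl 2 (𝐂₁ z)
  obtain ⟨T, ⟨z, iz, ns, hT⟩, mx⟩ := exists_max_card
    (P := fun T => ∃ z : G, Iv z ∧ ¬ Sol (𝐂₁ z) ∧ Syl 2 T (𝐂₁ z)) ⟨z, iz, ns, hT⟩
  have nt := s.cent_ne iz.ne
  have mx' : ∀ y : G, Iv y → ∀ P : Subgroup G, P ≤ 𝐂₁ y → PiGrp {2} P → ♯T < ♯P →
      Sol (𝐂₁ y) := by
    intro y iy P l p c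
    by_contra ns
    obtain ⟨U, hU, l⟩ := exists_syl_le l p
    exact (c.trans_le (card_le l)).not_ge (mx U ⟨y, iy, ns, hU⟩)
  have zc : zpowers z ≤ 𝐂 (𝐂₁ z) := cent_symm (cent_zpowers z).ge
  have zn : zpowers z ⊴ 𝐂₁ z := ⟨zpowers_le.2 (self_mem_cent1 z), norm_of_cent' zc⟩
  generalize hC : 𝐂₁ z = C at *
  obtain ⟨R, zR, ⟨nR, sR⟩, mR⟩ := exists_maximal (P := fun R => R ⊴ C ∧ Sol R)
    ⟨zn, (abel_zpowers z).sol⟩
  replace mR : ∀ A, A ⊴ C → Sol A → A ≤ R := fun A a b =>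
    le_sup_left.trans (mR (A ⊔ R) ⟨a.sup nR, b.sup sR (a.le.trans nR.norm)⟩ le_sup_right).le
  have sQ := hT.inf_normal nR
  have fr := sQ.syl_frattini_sup nR
  have nQ : T ⊓ R ⊴ T := nR.inf_left hT.le
  have TN : T ≤ C ⊓ 𝐍 (T ⊓ R) := le_inf hT.le nQ.norm
  have zQ : zpowers z ≤ T ⊓ R := le_inf (hT.le_of_normal zn (iv_pi iz)) zR
  have cR : Ch R C 4 := ch_ns_qt nR sR ns
  have nsN : ¬ Sol (C ⊓ 𝐍 (T ⊓ R)) := fun e => ns (fr ▸ sR.sup' e (inf_le_left.trans nR.norm))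
  have NQ : C ⊓ 𝐍 (T ⊓ R) ≤ 𝐍 (T ⊓ R) := inf_le_right
  have NC : C ⊓ 𝐍 (T ⊓ R) ≤ C := inf_le_left
  generalize C ⊓ 𝐍 (T ⊓ R) = N at *
  generalize hQ : T ⊓ R = Q at *
  obtain ⟨K, -, ⟨nK, nsK⟩, mK⟩ := exists_minimal (P := fun K => K ⊴ N ∧ ¬ Sol K) ⟨.refl N, nsN⟩
  have pf : ⁅K, K⁆ = K := mK _ ⟨nK.der, fun e => nsK (e.of_qt (der_normal K).norm
    (abel_qt_der K).sol)⟩ (der_le K)
  have KC := nK.le.trans NC
  have KR := KC.trans nR.norm
  have prop : ∀ Y, Y ⊴ K → Y ≠ K → Sol Y := fun Y a b => by_contra fun c =>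
    s.not_ch8 nt (((ch_ns c).trans (.of_qt a (ch_ns fun e =>
      b (le_antisymm a.le (perf_le pf a.norm e))))).right KC)
  have up : ∀ Y, Y ⊴ N → R ⊔ Y ⊴ C := fun Y a => ⟨sup_le nR.le (a.le.trans NC), fr ▸ sup_le
    (norm_of_le le_sup_left) (norm_sup (NC.trans nR.norm) a.norm)⟩
  have inR : ∀ Y, Y ⊴ K → Y ≠ K → Y ≤ R := fun Y a b => by
    obtain ⟨Y, l, ⟨a, b⟩, m⟩ := exists_maximal (P := fun Y => Y ⊴ K ∧ Y ≠ K) ⟨a, b⟩
    have c : Y ⊴ N := ⟨a.le.trans nK.le, le_norm_of_cj_le fun g hg => by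
      have a' : cj g Y ⊴ K := cj_of_norm (nK.norm hg) ▸ a.cj g
      refine le_sup_right.trans (m _ ⟨a.sup a', fun e => nsK (e ▸ (prop Y a b).sup'
        (sol_cj.2 (prop Y a b)) (a'.le.trans a.norm))⟩ le_sup_left).le⟩
    exact l.trans (le_sup_right.trans (mR _ (up Y c) (sR.sup' (prop Y a b)
      (c.le.trans (NC.trans nR.norm)))))
  have nKR : ¬ K ≤ R := fun e => nsK (sR.mono e)
  have sim := simple_qt KR nKR inR
  have nsX : ¬ Sol (qt R K) := fun e => nsK (((sR.of_qt (sup_le (le_norm_self R) KR)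
    (by rwa [qt_sup_left KR]))).mono le_sup_right)
  obtain ⟨a, ha⟩ := sQ.pi.card_pow
  have cA : Ch ⊥ R a := ch_two sR (ha ▸ card_dvd sQ.le)
  have a3 : a ≤ 3 := not_lt.1 fun e => s.not_ch8 nt ((cA.anti e).trans cR)
  have z2 := iz.card
  have a1 : 1 ≤ a := by
    have := card_le zQ
    rcases a with _ | a <;> simp_all
  have cQ : K ≤ 𝐂 Q := by
    have n1 := KC.trans zn.norm
    have n2 := (nQ.le.trans hT.le).trans zn.norm
    have h1 : ⁅K, Q⁆ ≤ zpowers z := (qt_cent_iff n1 n2).1 (cent_symm fun q hq => le_cent1_iff.1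
      (le_of_perf (by rw [← qt_comm n1 n1, pf]) ((relIndex_le_cj (S := qt (zpowers z) Q)
        fun g hg => conj_mem_of_norm (qt_norm _ (nK.le.trans NQ) hg) hq).trans (by
          have := card_mul_relIndex zQ
          have h3 : 2 ^ a ≤ 2 ^ 3 := Nat.pow_le_pow_right two_pos a3
          rw [ncard_coe, card_qt n2]
          rw [z2, ha] at this
          omega))))
    refine cent_symm fun q hq => le_cent1_iff.1 (le_of_perf pf
      ((relIndex_le_cj (S := {y | q⁻¹ * y ∈ zpowers z}) fun g hg => ?_).trans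
        (by rw [ncard_coset]; omega)))
    have h2 := h1 (commutator_mem_commutator hg hq)
    have h3 := conj_mem_of_norm' (n2 hq) h2
    rw [commutatorElement_def] at h3
    simpa [mul_assoc] using h3
  have sD := (hT.of_le TN NC).inf_normal nK
  have nRK := up K nK
  have DR : T ⊓ K ≤ 𝐍 R := inf_le_right.trans KR
  have RD : R ⊓ (T ⊓ K) = Q ⊓ (T ⊓ K) := by rw [← hQ]; ext; simp; tauto
  have T0 : T ⊓ (R ⊔ K) = Q ⊔ T ⊓ K := by
    have h1 := (hT.inf_normal nRK).qt (nRK.le.trans nR.norm)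
    rw [qt_sup_left KR] at h1
    have h2 := (sD.qt KR).eq_of_le' h1 (qt_mono R (inf_le_inf_left T le_sup_right))
    have h3 := (qt_le_qt_iff (inf_le_left.trans (hT.le.trans nR.norm)) DR).1 h2.ge
    refine le_antisymm ((le_inf inf_le_left h3).trans ?_) (sup_le (hQ ▸ inf_le_inf_left T le_sup_left)
      (inf_le_inf_left T le_sup_right))
    rw [inf_sup_right inf_le_left (.inr DR), hQ]
  have sX := sD.qt KR
  have cX : ♯(qt R (T ⊓ K)) = Q.relIndex (T ⊓ K) := by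
    rw [card_qt DR, ← inf_relIndex_right, RD, inf_relIndex_right]
  obtain ⟨d, hd⟩ := sX.pi.card_pow
  obtain ⟨e, he⟩ := (hT.pi.relIndex (R ⊔ K)).exists_pow (relIndex_ne_zero' _ _)
  have cT : ♯T = 2 ^ (a + d + e) := by
    have h1 := card_inf_mul_relIndex (R ⊔ K) T
    rw [inf_comm, T0, ← card_mul_relIndex (le_sup_left (a := Q)),
      relIndex_sup_norm' (.inl (inf_le_left.trans nQ.norm)), ← cX, ha, hd, he] at h1
    rw [← h1, pow_add, pow_add]
  have cE : Ch (R ⊔ K) C e := (ch_qt (normalIn_sup_left (hT.le.trans nRK.norm))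
    (by rw [qt_sup_left (hT.le.trans nRK.norm)]; exact (hT.pi.qt _).sol)
    (by rw [relIndex_sup_norm' (.inl (hT.le.trans nRK.norm)), he]) (om_two e).ge).right
    (sup_le nRK.le hT.le)
  have bd : ∀ l, Ch ⊥ (qt R K) l → a + l + e < k := fun l c => not_le.1 fun h => s.not_ch nt
    (((cA.trans (.of_qt (normalIn_sup_left KR) (by rwa [qt_sup_left KR]))).trans cE).anti h)
  refine ⟨z, T, Q, K, T ⊓ K, s, iz, hC ▸ hT, mx', zQ (mem_zpowers z), nQ, TN.trans nK.norm, cQ, pf,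
    nsK, rfl, sD, ?_, ?_, fun h => ?_, fun h u hu => ?_⟩
  · have h1 := hall_subgroupOf sX le_rfl
    rw [subgroupOf_self] at h1
    refine ((ih (qt R K) ?_ ⟨sim, fun e => nsX (sol_top'.1 e), fun c => ?_, by norm_num,
      by norm_num⟩ _ h1).congr ⟨subgroupOfEquivOfLe sX.le⟩).congr
      (qt_iso DR (inf_le_left.trans nQ.norm) RD)
    · refine (Nat.le_of_dvd Nat.card_pos (card_qt_dvd R K)).trans_lt ?_
      exact (card_lt (KC.trans_lt nt.lt_top)).trans_eq card_top'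
    · have := bd _ c.coe
      have := s.k8
      omega
  · have := bd _ (ch_syl sX nsX (dvd_of_eq hd.symm))
    rw [cT, show 4 = 2 ^ 2 from rfl, ← pow_add]
    exact Nat.pow_le_pow_right two_pos (by omega)
  · have := bd _ (ch_syl2 sX nsX (dvd_of_eq hd.symm) (der_le_cent sX.pi (cX ▸ h)))
    rw [cT, show 8 = 2 ^ 3 from rfl, ← pow_add]
    exact Nat.pow_le_pow_right two_pos (by omega)
  · have uR := nR.norm (hT.le hu.1)
    have h0 : 𝐎 {2}ᶜ (qt R K) = ⊥ := by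
      rcases (O_normal {2}ᶜ (qt R K)).normal.eq_bot_or_eq_top with e | e
      · rw [← map_subgroupOf (O_le {2}ᶜ (qt R K)), e, Subgroup.map_bot]
      · exact (nsX ((sol_of_odd (odd_of_pi (O_pi _ _))).mono (subgroupOf_eq_top.1 e))).elim
    have h1 := CF.Ab2.inner_abel h0 sX ((abel_qt_iff DR).2 (h.trans (hQ ▸ inf_le_right)))
      (t := qe R u) (qt_norm R (TN.trans nK.norm) (qe_mem_qt hu.1 uR)) ((hT.pi.elt hu.1).qe uR)
      (qt_cent R le_rfl (qe_mem_qt hu.2 uR))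
    obtain ⟨_, hx, c, hc, e⟩ := (mem_sup_norm' (cent_le_norm _)).1 h1
    obtain ⟨x, xK, xR, rfl⟩ := mem_qt.1 hx
    have nW : C ⊓ centMod (R ⊔ K) R ⊴ C := normalIn_inf_left (norm_centMod nRK.norm nR.norm)
    have sW : Sol (C ⊓ centMod (R ⊔ K) R) := by_contra fun c => s.not_ch8 nt
      (((ch_ns c).trans (.of_qt (normalIn_sup_left (KC.trans nW.norm)) (ch_ns fun e => by
        rw [qt_sup_left (KC.trans nW.norm)] at e
        have := (le_centMod.1 ((perf_le pf (KC.trans nW.norm) e).trans inf_le_right)).2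
        exact nKR (pf.ge.trans ((commutator_mono le_rfl le_sup_right).trans this))))).right
        (sup_le nW.le KC))
    have h2 : x⁻¹ * u ∈ R := by
      refine mR _ nW sW (mem_inf.2 ⟨mul_mem (inv_mem (KC xK)) (hT.le hu.1), ?_⟩)
      rw [← qp_cent_eq (nRK.le.trans nR.norm), mem_qp, qt_sup_left KR, qe_mul (inv_mem xR) uR,
        qe_inv xR, ← e, inv_mul_cancel_left]
      exact ⟨mul_mem (inv_mem xR) uR, hc⟩
    rw [← T0]
    exact ⟨hu.1, by simpa using mul_mem (mem_sup_right xK) (mem_sup_left (T := K) h2)⟩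

end CF.Perm.Chn
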