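import Cfsg.Agent.Perm.Ch3

/-!
# Short chains: dihedral and elementary Sylow subgroups of a perfect group
-/

set_option autoImplicit false
set_option linter.unusedSectionVars false

namespace CF.Perm.Chn
open Subgroup Cfsg CF.BG CF.Bender CF.PG CF.ZD
open scoped ArithmeticFunction.Omega commutatorElement

variable {G : Type*} [Group G] [Finite G]
variable {A B C D E H K L M N P Q R S T V Y : Subgroup G} {k m n : ℕ} {a b c d g v w x y z : G}

theorem u1_cyc (c : Cyc A) (p : PiGrp {2} A) (h : A ≠ ⊥) : ∃ c, U1 A c := by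
  obtain ⟨x, hx, o⟩ := exists_mem_orderOf_eq Nat.prime_two (p.dvd_card h)
  refine ⟨x, p, iv_iff.2 o, hx, fun {s} hs e => ?_⟩
  by_cases s1 : s = 1
  exacts [.inl s1, .inr (CF.Invol.eq_of_invol_of_isCyclic c hs hx (iv_iff.1 ⟨s1, e⟩) o)]

theorem exists_iv (p : PiGrp {2} A) (h : A ≠ ⊥) : ∃ x ∈ A, Iv x := by
  obtain ⟨x, hx, o⟩ := exists_mem_orderOf_eq Nat.prime_two (p.dvd_card h)
  exact ⟨x, hx, iv_iff.2 o⟩

theorem klein_mk (hx : Iv x) (hy : Iv y) (c : x * y = y * x) (n : x ≠ y) :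
    IsKleinFour ↥(zpowers x ⊔ zpowers y) := by
  have := CF.Invol.isKleinFour_closure hx.orderOf hy.orderOf c n
  rwa [show ({x, y} : Set G) = {x} ∪ {y} from rfl, Subgroup.closure_union, ← zpowers_eq_closure,
    ← zpowers_eq_closure] at this

theorem two_mul' (h : A.relIndex B ∣ 2) (hx : x ∈ B) (hy : y ∈ B) (x1 : x ∉ A) (y1 : y ∉ A) :
    x * y ∈ A := by
  rcases (Nat.dvd_prime Nat.prime_two).1 h with e | e
  exacts [(x1 (relIndex_eq_one.1 e hx)).elim, mul_mem_of_relIndex_two e hx hy x1 y1]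

/-- a dihedral `2`-group -/
structure Dh (D : Subgroup G) (a c : G) : Prop where
  pi : PiGrp {2} D
  mem : a ∈ D
  idx : (zpowers a).relIndex D = 2
  u : U1 (zpowers a) c
  sq : ∀ d ∈ D, d ∉ zpowers a → d * d = 1

theorem dh_of_iso (p : PiGrp {2} D) (hm : 2 ≤ m) (e : D ≃* DihedralGroup m) : ∃ a c, Dh D a c := by
  have o : orderOf ((e.symm (.r 1) : D) : G) = m := by
    rw [Subgroup.orderOf_coe, MulEquiv.orderOf_eq, DihedralGroup.orderOf_r_one]
  have cD : ♯D = 2 * m := by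
    have : NeZero m := ⟨by omega⟩
    rw [Nat.card_congr e.toEquiv, Nat.card_eq_fintype_card, DihedralGroup.card]
  have l := zpowers_le.2 (e.symm (.r 1)).2
  obtain ⟨c, hc⟩ := u1_cyc (cyc_zpowers _) (p.le l) (by rw [← one_lt_card, Nat.card_zpowers, o]; omega)
  refine ⟨_, c, p, (e.symm (.r 1)).2, ?_, hc, fun d hd n => ?_⟩
  · have := card_mul_relIndex l
    rw [Nat.card_zpowers, o, cD, mul_comm] at this
    exact Nat.eq_of_mul_eq_mul_right (by omega) this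
  · rcases h : e ⟨d, hd⟩ with i | i
    · refine (n ?_).elim
      have : NeZero m := ⟨by omega⟩
      have : (⟨d, hd⟩ : D) = e.symm (.r 1) ^ i.val := by
        rw [← map_pow, DihedralGroup.r_one_pow, ZMod.natCast_zmod_val, ← h, e.symm_apply_apply]
      exact (show d = _ from congrArg Subtype.val this) ▸ pow_mem (mem_zpowers _) _
    · have : (⟨d, hd⟩ : D) * ⟨d, hd⟩ = 1 := e.injective (by rw [map_mul, h]; simp)
      exact congrArg Subtype.val this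

namespace Dh
variable (h : Dh D a c)
include h

theorem le : zpowers a ≤ D := zpowers_le.2 h.mem

theorem cD : c ∈ D := h.le h.u.mem

theorem mul (hx : x ∈ D) (hy : y ∈ D) (x1 : x ∉ zpowers a) (y1 : y ∉ zpowers a) :
    x * y ∈ zpowers a := mul_mem_of_relIndex_two h.idx hx hy x1 y1

theorem inv (hd : d ∈ D) (n : d ∉ zpowers a) (hx : x ∈ zpowers a) : d * x * d⁻¹ = x⁻¹ := by
  have h1 := h.sq _ (mul_mem hd (h.le hx)) fun e => n (by simpa using mul_mem e (inv_mem hx))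
  rw [inv_eq_of_mul_eq_one_right (h.sq d hd n), ← mul_eq_one_iff_eq_inv, mul_assoc, h1]

theorem norm : D ≤ 𝐍 (zpowers a) := le_norm_iff.2 fun d hd x hx => by
  by_cases n : d ∈ zpowers a
  · exact mul_mem (mul_mem n hx) (inv_mem n)
  · rw [h.inv hd n hx]; exact inv_mem hx

theorem cent : D ≤ 𝐂₁ c := fun _ hd => mem_cent1.2 (h.u.cent (h.norm hd))

theorem ex : ∃ b ∈ D, b ∉ zpowers a := by
  by_contra! e
  have := relIndex_eq_one.2 e
  rw [h.idx] at this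
  omega

theorem iv (hd : d ∈ D) (n : d ∉ zpowers a) : Iv d := ⟨fun e => n (e ▸ one_mem _), h.sq d hd n⟩

theorem card : 4 ≤ ♯D := by
  have := card_mul_relIndex h.le
  have := card_le (zpowers_le.2 h.u.mem)
  rw [h.u.iv.card] at this
  rw [h.idx] at *
  omega

theorem cj (g : G) : Dh (cj g D) (g * a * g⁻¹) (g * c * g⁻¹) := by
  refine ⟨h.pi.cj g, conj_mem_cj.2 h.mem, by rw [← cj_zpowers, relIndex_cj, h.idx],
    ⟨cj_zpowers g a ▸ h.u.pi.cj g, h.u.iv.conj g, cj_zpowers g a ▸ conj_mem_cj.2 h.u.mem,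
      fun {s} hs e => ?_⟩, fun d hd n => ?_⟩
  · rw [← cj_zpowers] at hs
    obtain ⟨s, hs', rfl⟩ := mem_cj_iff.1 hs
    refine (h.u.uniq hs' (by simpa [conj_mul] using e)).imp ?_ ?_ <;> rintro rfl <;> simp
  · obtain ⟨d, hd', rfl⟩ := mem_cj_iff.1 hd
    rw [← cj_zpowers, conj_mem_cj] at n
    rw [conj_mul, h.sq d hd' n, mul_one, mul_inv_cancel]

/-- the elements commuting with an element outside the cyclic subgroup -/
theorem comm (hd : d ∈ D) (n : d ∉ zpowers a) (hx : x ∈ D) (e : x ∈ 𝐂₁ d) :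
    x = 1 ∨ x = c ∨ x = d ∨ x = c * d := by
  have k : ∀ x ∈ zpowers a, x ∈ 𝐂₁ d → x = 1 ∨ x = c := fun x hx e => h.u.uniq hx (by
    have := h.inv hd n hx
    rwa [← mem_cent1.1 e, mul_inv_cancel_right, ← mul_eq_one_iff_eq_inv] at this)
  by_cases x1 : x ∈ zpowers a
  · exact (k x x1 e).elim .inl fun e => .inr (.inl e)
  · refine .inr (.inr ((k _ (h.mul hx hd x1 n) (mul_mem e (self_mem_cent1 d))).imp (fun e => ?_)
      fun e => ?_))
    · rw [eq_inv_of_mul_eq_one_left e, (h.iv hd n).inv]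
    · rw [← e, mul_assoc, h.sq d hd n, mul_one]

theorem klein (k : IsKleinFour V) (l : V ≤ D) :
    c ∈ V ∧ (∃ v ∈ V, v ∉ zpowers a) ∧ D ⊓ 𝐂 V ≤ V := by
  obtain ⟨v, hv, n⟩ : ∃ v ∈ V, v ∉ zpowers a := by
    by_contra! e
    exact CF.Invol.klein_not_isCyclic k ((cyc_zpowers a).mono e)
  have hc : c ∈ V := by
    obtain ⟨y, hy, y1, yv⟩ := CF.Invol.klein_exists_ne k v
    rcases h.comm (l hv) n (l hy) (mem_cent1.2 (klein_comm k hy hv)) with e | e | e | e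
    exacts [(y1 e).elim, e ▸ hy, (yv e).elim, by simpa [e] using mul_mem hy (inv_mem hv)]
  refine ⟨hc, ⟨v, hv, n⟩, fun x hx => ?_⟩
  rcases h.comm (l hv) n hx.1 (cent_le_cent1 hv hx.2) with rfl | rfl | rfl | rfl
  exacts [one_mem _, hc, hv, mul_mem hc hv]

theorem exk : ∃ V ≤ D, IsKleinFour V := by
  obtain ⟨b, hb, n⟩ := h.ex
  exact ⟨_, sup_le (zpowers_le.2 h.cD) (zpowers_le.2 hb), klein_mk h.u.iv (h.iv hb n)
    (mem_cent1.1 (h.cent hb)).symm fun e => n (e ▸ h.u.mem)⟩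

theorem abel (e : ♯D = 4) : IsKleinFour D := by
  obtain ⟨V, l, k⟩ := h.exk
  rwa [← eq_of_card_eq l (by rw [e, klein_card k])]

theorem center (e : ♯D ≠ 4) (hx : x ∈ D) (cx : x ∈ 𝐂 D) : x = 1 ∨ x = c := by
  obtain ⟨b, hb, n⟩ := h.ex
  by_cases x1 : x ∈ zpowers a
  · rcases h.comm hb n hx (cent_le_cent1 hb cx) with e | e | e | e
    exacts [.inl e, .inr e, (n (e ▸ x1)).elim,
      (n (by simpa [e] using mul_mem (inv_mem h.u.mem) x1)).elim]
  refine (e (le_antisymm ?_ h.card)).elim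
  have k := klein_mk h.u.iv (h.iv hx x1) (mem_cent1.1 (h.cent hx)).symm fun e => x1 (e ▸ h.u.mem)
  refine (card_le fun y hy => ?_).trans (klein_card k).le
  have h1 := mem_sup_left (T := zpowers x) (mem_zpowers c)
  have h2 := mem_sup_right (S := zpowers c) (mem_zpowers x)
  rcases h.comm hx x1 hy (le_cent1_iff.2 cx hy) with rfl | rfl | rfl | rfl
  exacts [one_mem _, h1, h2, mul_mem h1 h2]

/-- an index two subgroup without four-groups -/
theorem regen (i : A.relIndex D = 2) (k : ∀ V ≤ D, IsKleinFour V → ¬ V ≤ A) :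
    ∃ a c, Dh D a c ∧ D ⊓ A = zpowers a := by
  have two : ∀ {x}, zpowers x ≤ D → (zpowers x).relIndex D = 2 → D ⊓ A ≤ zpowers x →
      D ⊓ A = zpowers x := fun l e l' => eq_of_card_eq l' (by
    have h1 := card_inf_mul_relIndex A D
    have h2 := card_mul_relIndex l
    rw [inf_comm, i] at h1
    rw [e] at h2
    omega)
  by_cases l : D ⊓ A ≤ zpowers a
  · exact ⟨a, c, h, two h.le h.idx l⟩
  obtain ⟨b, hb, n⟩ := SetLike.not_le_iff_exists.1 l
  have ib := h.iv hb.1 n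
  have cA : c ∉ A := fun e => k _ (sup_le (zpowers_le.2 h.cD) (zpowers_le.2 hb.1))
    (klein_mk h.u.iv ib (mem_cent1.1 (h.cent hb.1)).symm fun e => n (e ▸ h.u.mem))
    (sup_le (zpowers_le.2 e) (zpowers_le.2 hb.2))
  have e4 : ♯D = 4 := by
    have h1 : A ⊓ zpowers a = ⊥ := by
      by_contra h1
      obtain ⟨y, hy, iy⟩ := exists_iv h.u.pi.inf_right h1
      exact cA (h.u.eq hy.2 iy ▸ hy.1)
    have h2 := relIndex_le_of_le_right h.le (relIndex_ne_zero' A D)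
    have h3 := card_mul_relIndex h.le
    have := h.card
    rw [relIndex_of_inf_bot h1, i] at h2
    rw [h.idx] at h3
    omega
  have l := zpowers_le.2 hb.1
  have i2 : (zpowers b).relIndex D = 2 := by
    have := card_mul_relIndex l
    rw [ib.card, e4] at this
    omega
  refine ⟨b, b, ⟨h.pi, hb.1, i2, ⟨iv_pi ib, ib, mem_zpowers b, fun hs _ => iv_zpowers ib hs⟩,
    fun d hd _ => klein_sq (h.abel e4) hd⟩, (eq_of_card_eq (le_inf l (zpowers_le.2 hb.2)) ?_).symm⟩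
  have h1 := card_inf_mul_relIndex A D
  rw [inf_comm, i, e4] at h1
  rw [ib.card]
  omega

variable (nt : NoTwo K) (s : Syl 2 D K)
include nt s

theorem fus (hx : x ∈ K) (i : Iv x) : ∃ g ∈ K, g * x * g⁻¹ = c := by
  obtain ⟨g, hg, e⟩ := nt.thompson s h.idx.dvd i hx
  exact ⟨g, hg, h.u.eq e (i.conj g)⟩

theorem self_cent (k : IsKleinFour V) (l : V ≤ P) (lP : P ≤ K ⊓ 𝐂 V) (p : PiGrp {2} P) : P ≤ V := by
  obtain ⟨g, hg, e⟩ := s.syl_le_cj (lP.trans inf_le_left) p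
  exact (le_inf e (lP.trans inf_le_right)).trans ((h.cj g).klein k (l.trans e)).2.2

theorem mv (k : IsKleinFour V) (l : V ≤ K) (hv : v ∈ V) (v1 : v ≠ 1) : ¬ K ⊓ 𝐍 V ≤ 𝐂₁ v := by
  intro e
  obtain ⟨y, hy, y1, yv⟩ := CF.Invol.klein_exists_ne k v
  obtain ⟨g, hg, e1⟩ := h.fus nt s (l hy) (iv_of_klein k hy y1)
  have sc : Syl 2 D (K ⊓ 𝐂₁ c) := s.of_le (le_inf s.le h.cent) inf_le_left
  obtain ⟨g, hg, e1, e2⟩ := extremal hg e1 (le_inf l fun x hx => mem_cent1.2 (klein_comm k hx hy))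
    (klein_pi k) sc
  have k' : IsKleinFour (BG.cj g V) := CF.Invol.klein_cj k g
  have v' := (conj_mem_cj (g := g)).2 hv
  have vc : g * v * g⁻¹ ≠ c := fun e => yv (by simpa using e1.trans e.symm)
  have e' : K ⊓ 𝐍 (BG.cj g V) ≤ 𝐂₁ (g * v * g⁻¹) := by
    rw [← cj_cent1, ← cj_norm, ← cj_of_mem hg, ← cj_inf]; exact cj_mono g e
  have v1' := conj_ne_one v1 g
  generalize BG.cj g V = W, g * v * g⁻¹ = u at *
  have hc := (h.klein k' e2).1
  rcases e2.eq_or_lt with rfl | lt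
  · obtain ⟨j, hj, e3⟩ := h.fus nt s (s.le v') (iv_of_klein k' v' v1')
    obtain ⟨j, hj, n, e3⟩ := burnside_fus s (klein_abel k' v') (klein_abel k' hc) hj e3
    exact vc (by rw [← e3, mem_cent1.1 (e' ⟨hj, n⟩), mul_inv_cancel_right])
  · obtain ⟨x, hx, n, nx, -⟩ := exists_step h.pi lt
    exact nx ((h.klein k' e2).2.2 ⟨hx, klein_cent k' v' hc v1' h.u.iv.ne vc (e' ⟨s.le hx, n⟩)
      (h.cent hx)⟩)

theorem tr (k : IsKleinFour V) (l : V ≤ K) (hx : x ∈ V) (x1 : x ≠ 1) (hy : y ∈ V) (y1 : y ≠ 1) :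
    ∃ g ∈ K ⊓ 𝐍 V, g * x * g⁻¹ = y := by
  obtain ⟨g, hg, o, n⟩ := exists_odd_mv k inf_le_right fun _ => h.mv nt s k l
  obtain ⟨j, hj, e⟩ := klein_tr k hg.2 o n hx x1 hy y1
  exact ⟨j, zpowers_le.2 hg hj, e⟩

theorem three (k : IsKleinFour V) (l : V ≤ K) : 3 ∣ ♯(K ⊓ 𝐍 V) :=
  three_dvd k inf_le_right fun _ => h.mv nt s k l

end Dh

theorem abel_of_sq (h : ∀ x ∈ D, x * x = 1) : Abel D :=
  abel_of_forall fun _ hx _ hy => CF.Invol.commute_of_forall_mul_self h hx hy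

theorem aut8 (e : ♯D = 8) (h : ∀ x ∈ D, x * x = 1) (n : N ≤ 𝐍 D) : (𝐂 D).relIndex N ∣ 168 := by
  have := Fact.mk Nat.prime_two
  have := (abel_of_sq h).comm
  have d := relIndex_cent_dvd_card_aut n
  rwa [CF.Fgs2.card_mulAut_of_pow_eq_one (p := 2) (r := 3)
    (fun x => Subtype.ext (by simpa [pow_two] using h x x.2)) e] at d

theorem e8_orb (p : ⁅K, K⁆ = K) (s : Syl 2 D K) (e : ♯D = 8) (h : ∀ x ∈ D, x * x = 1) (hx : x ∈ D)
    (x1 : x ≠ 1) : (𝐂₁ x).relIndex (K ⊓ 𝐍 D) = 7 ∧ ∀ y ∈ D, y ≠ 1 → ∃ g ∈ K ⊓ 𝐍 D, g * x * g⁻¹ = y := by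
  have a := abel_of_sq h
  have c7 : ((D : Set G) \ {1}).ncard = 7 := by
    rw [Set.ncard_sdiff_singleton_of_mem D.one_mem, ncard_coe, e]
  have inv : ∀ g ∈ K ⊓ 𝐍 D, ∀ x ∈ (D : Set G) \ {1}, g * x * g⁻¹ ∈ (D : Set G) \ {1} :=
    fun g hg x hx => ⟨conj_mem_of_norm hg.2 hx.1, conj_ne_one hx.2 g⟩
  have k : ∀ x ∈ (D : Set G) \ {1}, (𝐂₁ x).relIndex (K ⊓ 𝐍 D) = 3 ∨
      (𝐂₁ x).relIndex (K ⊓ 𝐍 D) = 7 := by
    intro x hx
    have h1 := (relIndex_dvd_left _ (cent_le_cent1 hx.1)).trans (aut8 e h (inf_le_right (a := K)))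
    have h2 := relIndex_le_cj fun g hg => inv g hg x hx
    have h3 : ¬ 2 ∣ (𝐂₁ x).relIndex (K ⊓ 𝐍 D) := fun e => s.norm_self.not_dvd Nat.prime_two
      (e.trans (relIndex_dvd_left _ (le_cent1_iff.2 (a hx.1))))
    have h4 : (𝐂₁ x).relIndex (K ⊓ 𝐍 D) ≠ 1 := fun e => hx.2 (xt (M := ⊥) s (der_eq_bot.2 a).le
      (h x hx.1) (p.ge (s.le hx.1)) hx.1 s.le s.pi hx.1 (le_cent1_iff.2 (a hx.1)) fun g hg l => by
        rw [mem_cent1.1 (relIndex_eq_one.1 e ⟨hg, mem_norm_of_cj_le l⟩)]; simp)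
    rw [c7] at h2
    generalize (𝐂₁ x).relIndex (K ⊓ 𝐍 D) = r at *
    interval_cases r <;> simp_all (config := {decide := true})
  obtain ⟨y, hy, e7⟩ : ∃ y ∈ (D : Set G) \ {1}, (𝐂₁ y).relIndex (K ⊓ 𝐍 D) = 7 := by
    by_contra! n
    have := dvd_ncard_cj inv (n := 3) fun x hx => dvd_of_eq ((k x hx).resolve_right (n x hx)).symm
    rw [c7] at this
    omega
  obtain ⟨g, hg, rfl⟩ := trans_of_card_cj (fun g hg => inv g hg y hy) (by omega) ⟨hx, x1⟩
  have e7' : (𝐂₁ (g * y * g⁻¹)).relIndex (K ⊓ 𝐍 D) = 7 := by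
    rw [← cj_cent1, ← cj_of_mem hg, relIndex_cj, e7]
  exact ⟨e7', fun z hz z1 => trans_of_card_cj (fun g hg => inv g hg _ ⟨hx, x1⟩) (by omega) ⟨hz, z1⟩⟩

end CF.Perm.Chn
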