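import Cfsg.Agent.Perm.Ch4

/-!
# Short chains: central extensions
-/

set_option autoImplicit false
set_option linter.unusedSectionVars false

namespace CF.Perm.Chn
open Subgroup Cfsg CF.BG CF.Bender CF.PG CF.ZD
open scoped ArithmeticFunction.Omega commutatorElement

variable {G : Type*} [Group G] [Finite G]
variable {A B C D E H K L M N P Q R S T V Y Z : Subgroup G} {k m n : ℕ} {a b c d g v w x y z : G}

theorem der_le_zp (cZ : Z ≤ 𝐂₁ a) (cZ' : Z ≤ 𝐂₁ b) (aA : Abel (zpowers a ⊔ Z))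
    (h1 : b * a * b⁻¹ ∈ zpowers a ⊔ Z) (h2 : b * b ∈ 𝐂₁ a) (l : D ≤ zpowers a ⊔ Z ⊔ zpowers b) :
    ⁅D, D⁆ ≤ zpowers (a⁻¹ * (b * a * b⁻¹)) := by
  have nA := aA.le_norm (zpowers_le.2 (mul_mem (inv_mem (mem_sup_left (mem_zpowers a))) h1))
  have nb : b ∈ 𝐍 (zpowers (a⁻¹ * (b * a * b⁻¹))) := by
    rw [← cj_eq_self, cj_zpowers, ← zpowers_inv]
    congr 1
    calc (b * (a⁻¹ * (b * a * b⁻¹)) * b⁻¹)⁻¹ = (b * b * a * (b * b)⁻¹)⁻¹ * (b * a * b⁻¹) := by group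
      _ = _ := by rw [mem_cent1.1 h2, mul_inv_cancel_right]
  have na := nA (mem_sup_left (mem_zpowers a))
  refine (der_mono l).trans ((abel_qt_iff (sup_le nA (zpowers_le.2 nb))).1 ?_)
  rw [qt_sup nA (zpowers_le.2 nb), qt_zpowers nb]
  refine Abel.sup (qt_cent _ aA) (abel_zpowers _) ?_
  rw [cent_zpowers, qt_sup (zpowers_le.2 na) (le_sup_right.trans nA), qt_zpowers na]
  refine sup_le (zpowers_le.2 (mem_cent1.2 ?_)) (CF.GW.qt_le_cent1 nb cZ')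
  rw [← qe_mul na nb, ← qe_mul nb na, qe_eq_iff (mul_mem na nb) (mul_mem nb na)]
  simpa [mul_assoc] using conj_mem_of_norm' nb (mem_zpowers (a⁻¹ * (b * a * b⁻¹)))

variable (pf : ⁅K, K⁆ = K) (s : Syl 2 D K) (cQ : K ≤ 𝐂 Q) (pQ : PiGrp {2} Q)

include pf s in
theorem cent_le_der (hx : x ∈ D) (c : K ≤ 𝐂₁ x) : x ∈ ⁅D, D⁆ := by
  have := CF.Transfer.mem_commutator_of_center_of_coprime (H := D.subgroupOf K) (x := ⟨x, s.le hx⟩)
    (by rw [card_subgroupOf' s.le]; exact s.coprime.symm) hx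
    (mem_center_iff.2 fun g => Subtype.ext (mem_cent1.1 (c g.2)))
    (by rw [commutator_def, ← subgroupOf_self, ← subgroupOf_comm le_rfl le_rfl, pf]; exact s.le hx)
  rwa [← subgroupOf_comm s.le s.le] at this

include s cQ pQ in
theorem lift (hx : x ∈ K) (hy : y ∈ K) {g : Quo Q} (hg : g ∈ qt Q K)
    (e : g * qe Q x * g⁻¹ = qe Q y) : ∃ g ∈ K, ∃ q ∈ Q ⊓ D, g * x * g⁻¹ = y * q := by
  have n := norm_of_cent cQ
  replace hg := mem_qt.1 hg
  obtain ⟨g, hg, -, rfl⟩ := hg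
  have h1 := mul_mem (mul_mem hg hx) (inv_mem hg)
  rw [← qe_conj (n hg) (n hx), eq_comm, qe_eq_iff (n hy) (n h1)] at e
  exact ⟨g, hg, _, ⟨e, s.le_of_normal (normalIn_inf_right n) pQ.inf_left
    ⟨e, K.mul_mem (inv_mem hy) h1⟩⟩, by group⟩

include pf s cQ pQ

theorem e8_split (e : ♯(qt Q D) = 8) (h : ∀ x ∈ qt Q D, x * x = 1) : Q ⊓ D = ⊥ := by
  by_contra h1
  have n := norm_of_cent cQ
  have nD := s.le.trans n
  have cm : ∀ {q k}, q ∈ Q → k ∈ K → q * k = k * q := fun hq hk => mem_cent.1 (cQ hk) _ hq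
  have sq : ∀ {d}, d ∈ D → d * d ∈ Q := fun hd => by
    rw [← qe_eq_one (nD (mul_mem hd hd)), qe_mul (nD hd) (nD hd)]
    exact h _ (qe_mem_qt hd (nD hd))
  have key : ∀ {x y}, x ∈ D → y ∈ D → x ∉ Q → y ∉ Q → (y * y)⁻¹ * (x * x) ∈ 𝚽 (Q ⊓ D) := by
    intro x y hx hy x1 y1
    obtain ⟨g, hg, e⟩ := (e8_orb (by rw [← qt_comm n n, pf]) (s.qt n) e h (qe_mem_qt hx (nD hx))
      (mt (qe_eq_one (nD hx)).1 x1)).2 _ (qe_mem_qt hy (nD hy)) (mt (qe_eq_one (nD hy)).1 y1)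
    obtain ⟨g, hg, q, hq, e⟩ := lift s cQ pQ (s.le hx) (s.le hy) hg.1 e
    have : x * x = y * y * q ^ 2 := by
      rw [← mul_inv_cancel_right (x * x) g, cm (sq hx) hg, ← conj_mul, e, pow_two, mul_assoc,
        ← mul_assoc q, cm hq.1 (s.le hy)]
      group
    rw [this, inv_mul_cancel_left]
    exact pQ.inf_left.pow_mem_Phi hq
  have dQ := (abel_qt_iff nD).1 (abel_of_sq h)
  have k1 : ∀ {a b}, a ∈ D → b ∈ D → a ∉ Q → b ∉ Q → a * b ∉ Q →
      (a * a)⁻¹ * ⁅a, b⁆ ∈ 𝚽 (Q ⊓ D) := by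
    intro a b ha hb a1 b1 ab
    have c := dQ (commutator_mem_commutator ha hb)
    have hab := mul_mem ha hb
    convert key hb hab b1 ab using 1
    rw [eq_inv_mul_iff_mul_eq, ← cm (mul_mem (inv_mem (sq ha)) c) (s.le (mul_mem hab hab))]
    calc (a * a)⁻¹ * ⁅a, b⁆ * (a * b * (a * b)) = (a * a)⁻¹ * (⁅a, b⁆ * a) * (b * a * b) := by group
      _ = b * b := by rw [cm c (s.le ha), commutatorElement_def]; group
  refine (Phi_lt h1).not_ge fun q hq => ?_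
  refine commutator_le.2 (fun a ha b hb => ?_) (cent_le_der pf s hq.2 (le_cent1_iff.2 (cent_symm cQ hq.1)))
  by_cases c : a * b = b * a
  · rw [commutatorElement_eq_one_iff_mul_comm.2 c]; exact one_mem _
  have a1 : a ∉ Q := fun e => c (cm e (s.le hb))
  obtain ⟨u, hu, nu⟩ := Set.exists_mem_notMem_of_ncard_lt_ncard (t := (qt Q D : Set (Quo Q)))
    (s := {qe Q 1, qe Q a, qe Q b, qe Q (a * b)}) (by
      rw [ncard_coe, e]; exact (Set.ncard_insert_le _ _).trans_lt (by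
        have := Set.ncard_insert_le (qe Q a) {qe Q b, qe Q (a * b)}
        have := Set.ncard_insert_le (qe Q b) {qe Q (a * b)}
        rw [Set.ncard_singleton] at this
        omega))
  replace hu := mem_qt.1 hu
  obtain ⟨u, hu, -, rfl⟩ := hu
  have ne : ∀ {x}, x ∈ D → qe Q u ≠ qe Q x → x * u ∉ Q := fun {x} hx e l => e (by
    rw [eq_comm, qe_eq_iff (nD hx) (nD hu)]
    simpa [mul_assoc] using mul_mem (inv_mem (sq hx)) l)
  simp only [Set.mem_insert_iff, Set.mem_singleton_iff, not_or] at nu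
  have h2 := k1 ha (mul_mem hb hu) a1 (ne hb nu.2.2.1) (mul_assoc a b u ▸ ne (mul_mem ha hb) nu.2.2.2)
  have h3 := k1 ha hu a1 (by simpa using ne (one_mem D) nu.1) (ne ha nu.2.1)
  have c1 := dQ (commutator_mem_commutator ha hu)
  have e1 : ⁅a, b * u⁆ = ⁅a, b⁆ * ⁅a, u⁆ := by
    rw [← mul_inv_cancel_right ⁅a, u⁆ b, cm c1 (s.le hb)]
    simp only [commutatorElement_def]
    group
  have := mul_mem h2 (inv_mem h3)
  rw [e1, show (a * a)⁻¹ * (⁅a, b⁆ * ⁅a, u⁆) * ((a * a)⁻¹ * ⁅a, u⁆)⁻¹ = (a * a)⁻¹ * (⁅a, b⁆ * (a * a))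
    by simp only [mul_assoc, mul_inv_rev, inv_inv, mul_inv_cancel_left], ← cm (sq ha) (s.le (der_le D (commutator_mem_commutator ha hb))),
    inv_mul_cancel_left] at this
  exact this

theorem dh_u1 {a c : Quo Q} (h : Dh (qt Q D) a c) (h1 : Q ⊓ D ≠ ⊥) :
    ∃ z ∈ Q, U1 D z ∧ 8 ≤ ♯D := by
  have n := norm_of_cent cQ
  have nD := s.le.trans n
  have cm : ∀ {q k}, q ∈ Q → k ∈ K → q * k = k * q := fun hq hk => mem_cent.1 (cQ hk) _ hq
  have cZ : ∀ {k}, k ∈ D → Q ⊓ D ≤ 𝐂₁ k := fun hk _ hq => mem_cent1.2 (cm hq.1 (s.le hk))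
  have mA : ∀ {x d}, x ∈ D → qe Q x = a → d ∈ D → qe Q d ∈ zpowers a → d ∈ zpowers x ⊔ Q ⊓ D := by
    intro x d hx e hd l
    rw [← e, ← qt_zpowers (nD hx)] at l
    obtain ⟨y, hy, ny, e⟩ := mem_qt.1 l
    simpa using mul_mem (mem_sup_left hy) (mem_sup_right (S := zpowers x) (T := Q ⊓ D)
      ⟨(qe_eq_iff ny (nD hd)).1 e, mul_mem (D.inv_mem (zpowers_le.2 hx hy)) hd⟩)
  have k : ∀ {x y}, x ∈ D → qe Q x = a → y ∈ D → qe Q y ∉ zpowers a →
      Q ⊓ D ≤ zpowers (x⁻¹ * (y * x * y⁻¹)) := by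
    intro x y hx e hy ny q hq
    have y' := qe_mem_qt hy (nD hy)
    refine der_le_zp (cZ hx) (cZ hy) ((abel_zpowers x).sup (inf_le_left.trans
      (cent_symm (inf_le_right.trans (s.le.trans cQ)))) (cent_symm (cent_zpowers x ▸ cZ hx)))
      (mA hx e (mul_mem (mul_mem hy hx) (inv_mem hy)) ?_) (mem_cent1.2 (cm ?_ (s.le hx)))
      (fun d hd => ?_) (cent_le_der pf s hq.2 (le_cent1_iff.2 (cent_symm cQ hq.1)))
    · rw [qe_conj (nD hy) (nD hx), e]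
      exact conj_mem_of_norm (h.norm y') (mem_zpowers a)
    · rw [← qe_eq_one (nD (mul_mem hy hy)), qe_mul (nD hy) (nD hy)]
      exact h.sq _ y' ny
    · by_cases l : qe Q d ∈ zpowers a
      · exact mem_sup_left (mA hx e hd l)
      · simpa using mul_mem (mem_sup_left (mA hx e (mul_mem hd hy) (by
          rw [qe_mul (nD hd) (nD hy)]; exact h.mul (qe_mem_qt hd (nD hd)) y' l ny)))
          (inv_mem (mem_sup_right (mem_zpowers y)))
  obtain ⟨x, hx, -, ex⟩ := mem_qt.1 h.mem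
  obtain ⟨_, hy, ny⟩ := h.ex
  replace hy := mem_qt.1 hy
  obtain ⟨y, hy, -, rfl⟩ := hy
  obtain ⟨z, u⟩ := u1_cyc ((cyc_zpowers _).mono (k hx ex hy ny)) pQ.inf_left h1
  refine ⟨z, u.mem.1, ⟨s.pi, u.iv, u.mem.2, fun {v} hv v2 => ?_⟩, ?_⟩
  · by_cases vQ : v ∈ Q
    · exact u.uniq ⟨vQ, hv⟩ v2
    have nt := noTwo_of_perf (show ⁅qt Q K, qt Q K⁆ = qt Q K by rw [← qt_comm n n, pf])
    have lf : ∀ {w}, w ∈ D → Iv (qe Q w) → ∃ q ∈ Q ⊓ D, w * q * (w * q) = 1 := fun {w} hw i => by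
      obtain ⟨g, hg, e⟩ := h.fus nt (s.qt n) (qe_mem_qt (s.le hv) (nD hv))
        ⟨mt (qe_eq_one (nD hv)).1 vQ, by rw [← qe_mul (nD hv) (nD hv), v2, qe_of_mem (one_mem _)]⟩
      obtain ⟨g', hg', e'⟩ := h.fus nt (s.qt n) (qe_mem_qt (s.le hw) (nD hw)) i
      obtain ⟨g, -, q, hq, e⟩ := lift s cQ pQ (s.le hv) (s.le hw) (mul_mem (inv_mem hg') hg)
        (by rw [← mul_left_cancel_iff (a := g'), ← mul_right_cancel_iff (a := g'⁻¹), e', ← e]; group)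
      exact ⟨q, hq, by rw [← e, conj_mul, v2, mul_one, mul_inv_cancel]⟩
    have qq : ∀ {w q}, w ∈ D → q ∈ Q ⊓ D → qe Q (w * q) = qe Q w := fun hw hq => by
      rw [qe_mul (nD hw) (nD hq.2), qe_of_mem hq.1, mul_one]
    obtain ⟨q, hq, y2⟩ := lf hy (h.iv (qe_mem_qt hy (nD hy)) ny)
    rw [← qq hy hq] at ny
    replace hy := mul_mem hy hq.2
    generalize y * q = y at *
    obtain ⟨q, hq, x2⟩ := lf (mul_mem hx hy) (h.iv (qe_mem_qt (mul_mem hx hy) (nD (mul_mem hx hy)))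
      fun l => ny (by
        rw [qe_mul (nD hx) (nD hy), ex] at l
        simpa using mul_mem (inv_mem (mem_zpowers a)) l))
    rw [mul_assoc x y, ← cm hq.1 (s.le hy), ← mul_assoc x q] at x2
    rw [← qq hx hq] at ex
    replace hx := mul_mem hx hq.2
    generalize x * q = x at *
    have l : Q ⊓ D ≤ zpowers x := (k hx ex hy ny).trans (zpowers_le.2 (by
      rw [inv_eq_of_mul_eq_one_right y2, eq_inv_of_mul_eq_one_right (show x * (y * x * y) = 1 by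
        rw [← x2]; group)]
      exact mul_mem (inv_mem (mem_zpowers x)) (inv_mem (mem_zpowers x))))
    obtain ⟨w, hw, -, rfl⟩ := mem_qt.1 h.cD
    obtain ⟨q, hq, w2⟩ := lf hw h.u.iv
    have w1 : w * q ∉ Q := fun e => h.u.iv.ne (by rw [← qq hw hq, qe_of_mem e])
    refine (w1 (CF.Invol.eq_of_invol_of_isCyclic (cyc_zpowers x) ?_ (l u.mem)
      (iv_iff.1 ⟨(ne_of_mem_of_not_mem (one_mem Q) w1).symm, w2⟩) u.iv.orderOf ▸ u.mem.1)).elim
    exact sup_le le_rfl l (mA hx ex (mul_mem hw hq.2) (qq hw hq ▸ h.u.mem))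
  · have h2 := card_inf_mul_relIndex Q D
    have h3 := h.card
    have h4 := one_lt_card.2 h1
    rw [card_qt nD] at h3
    nlinarith

end CF.Perm.Chn
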