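import Cfsg.Agent.Perm.Ch5

/-!
# Short chains: first consequences of the configuration
-/

set_option autoImplicit false
set_option linter.unusedSectionVars false

namespace CF.Perm.Chn
open Subgroup Cfsg CF.BG CF.Bender CF.PG CF.ZD
open scoped ArithmeticFunction.Omega commutatorElement

variable {G : Type*} [Group G] [Finite G]
variable {A B C D E H K L M N P Q R S T U V Y Z : Subgroup G} {k m n : ℕ}
  {a b c d g q t v w x y z : G}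

/-- a step upwards from a `2`-subgroup -/
structure St (T : Subgroup G) (x : G) : Prop where
  pi : PiGrp {2} T
  n : x ∈ 𝐍 T
  nm : x ∉ T
  sq : x * x ∈ T

namespace St
variable (h : St T x)
include h

theorem card : ♯(T ⊔ zpowers x) = 2 * ♯T := CF.Invol.card_sup_zpowers h.n h.sq h.nm

theorem pi1 : PiGrp {2} (T ⊔ zpowers x) :=
  h.pi.sup (two_elt_sq (h.pi.elt h.sq)).zpowers (.inr (zpowers_le.2 h.n))

theorem mem (hy : y ∈ T ⊔ zpowers x) : y ∈ T ∨ y * x⁻¹ ∈ T :=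
  (CF.Invol.mem_sup_zpowers_iff h.n h.sq).1 hy

theorem normal (n : A ⊴ T) : cj x A ⊴ T := cj_of_norm h.n ▸ n.cj x

theorem cj_cj (n : T ≤ 𝐍 A) : cj x (cj x A) = A := by rw [BG.cj_cj, cj_of_norm (n h.sq)]

theorem fix (n : A ⊴ T) (h1 : A ⊓ cj x A ≠ ⊥) : ∃ y ∈ A ⊓ cj x A, Iv y ∧ T ⊔ zpowers x ≤ 𝐂₁ y := by
  have n1 := n.inf (h.normal n)
  obtain ⟨y, hy, i⟩ := exists_iv (h.pi.le n1.le).inf_left (h.pi1.inf_cent_ne_bot (h.pi.le n1.le)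
    (sup_le n1.norm (zpowers_le.2 (cj_eq_self.1 (by rw [cj_inf, h.cj_cj n.norm, inf_comm])))) h1)
  exact ⟨y, hy.1, i, le_cent1_iff.2 hy.2⟩

end St

theorem exists_st (p : PiGrp {2} S) (h : T < S) : ∃ x ∈ S, St T x := by
  obtain ⟨x, h1, h2, h3, h4⟩ := exists_step p h
  exact ⟨x, h1, p.le h.le, h2, h3, h4⟩

theorem card_two_le (p : PiGrp {2} P) (h : 2 ^ n < ♯P) : 2 ^ (n + 1) ∣ ♯P := by
  obtain ⟨j, hj⟩ := p.card_pow
  rw [hj] at h ⊢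
  exact pow_dvd_pow 2 ((Nat.pow_lt_pow_iff_right one_lt_two).1 h)

theorem proj (nQ : Q ⊴ T) (nD : D ⊴ T) (i : Q ⊓ D = ⊥) (hq : q ∈ Q) (hd : d ∈ D) (ht : t ∈ T)
    (c : t ∈ 𝐂₁ (q * d)) : t ∈ 𝐂₁ q ∧ t ∈ 𝐂₁ d := by
  have e : q⁻¹ * (t * q * t⁻¹) = d * (t * d * t⁻¹)⁻¹ := by
    rw [inv_mul_eq_iff_eq_mul, ← mul_assoc q, ← mul_inv_cancel_right (q * d) t, ← mem_cent1.1 c]
    group
  have e1 := eq_one_of_mem_bot i (mem_inf.2 ⟨mul_mem (inv_mem hq) (nQ.conj_mem ht hq),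
    e ▸ mul_mem hd (inv_mem (nD.conj_mem ht hd))⟩)
  refine ⟨mem_cent1.2 ?_, mem_cent1.2 ?_⟩
  · rw [← mul_inv_eq_iff_eq_mul, ← inv_mul_eq_one.1 e1]
  · rw [e, mul_inv_eq_one] at e1
    rw [← mul_inv_eq_iff_eq_mul, ← e1]

theorem rank_two (hS : Syl 2 T ⊤) (u : U1 D z) (i : D.relIndex T ≤ 2) : PRankLE 2 2 G := by
  intro A _ e
  obtain ⟨g, -, l⟩ := hS.syl_cj_le (le_top (a := A))
    (piGrp_of_forall_elt fun x hx => piElt_of_pow_eq_one Nat.prime_two (e x hx))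
  have h1 := card_inf_mul_relIndex D (cj g A)
  have h2 := relIndex_le_of_le_right l (relIndex_ne_zero' D T)
  have h3 : D ⊓ cj g A ≤ zpowers z := fun x hx => (mem_zp u.iv).2 (u.uniq hx.1 (by
    obtain ⟨y, hy, rfl⟩ := mem_cj_iff.1 hx.2
    rw [conj_mul, ← pow_two, e y hy, mul_one, mul_inv_cancel]))
  have h4 := card_le h3
  rw [u.iv.card] at h4
  rw [card_cj] at h1
  nlinarith

namespace Cf
variable (h : Cf k z T Q K D)
include h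

theorem pT : PiGrp {2} T := h.sT.pi
theorem Tz : T ≤ 𝐂₁ z := h.sT.le
theorem QT : Q ≤ T := h.nQ.le
theorem pQ : PiGrp {2} Q := h.pT.le h.QT
theorem zT : z ∈ T := h.QT h.zQ
theorem DT : D ≤ T := h.hD ▸ inf_le_left
theorem DK : D ≤ K := h.sD.le
theorem nD : D ⊴ T := h.hD ▸ normalIn_inf_left h.nK
theorem Kc (hq : y ∈ Q) : K ≤ 𝐂₁ y := le_cent1_iff.2 (cent_symm h.cQ hq)
theorem nsQ (hq : y ∈ Q) : ¬ Sol (𝐂₁ y) := fun e => h.ns (e.mono (h.Kc hq))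
theorem nt : NoTwo K := noTwo_of_perf h.pf
theorem l0 : Q ⊔ D ≤ T := sup_le h.QT h.DT
theorem nQD : D ≤ 𝐍 Q := h.DT.trans h.nQ.norm

theorem nsz (g : G) : ¬ Sol (𝐂₁ (g * z * g⁻¹)) := by
  rw [← cj_cent1, sol_cj]; exact h.nsQ h.zQ

theorem small (i : Iv y) (ns : ¬ Sol (𝐂₁ y)) (l : P ≤ 𝐂₁ y) (p : PiGrp {2} P) : ♯P ≤ ♯T :=
  not_lt.1 fun e => ns (h.mx y i P l p e)

theorem c64 : ♯T ≤ 64 := by
  have := h.b1.trans (Nat.pow_le_pow_right two_pos h.sh.k8)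
  omega

theorem c32 (e : Q.relIndex D ≤ 8) : ♯T ≤ 32 := by
  have := (h.b2 e).trans (Nat.pow_le_pow_right two_pos h.sh.k8)
  omega

theorem sol1 (s : St T x) (i : Iv y) (l : T ⊔ zpowers x ≤ 𝐂₁ y) : Sol (𝐂₁ y) :=
  h.mx y i _ l s.pi1 (by have := card_pos' T; rw [s.card]; omega)

theorem QQ (s : St T x) : Q ⊓ cj x Q = ⊥ := by
  by_contra e
  obtain ⟨y, hy, i, l⟩ := s.fix h.nQ e
  exact h.nsQ hy.1 (h.sol1 s i l)

theorem k7 (hS : Syl 2 T ⊤) : k ≤ 7 := by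
  by_contra e
  have := h.sh.k8
  have h1 : 2 ^ 7 ∣ ♯T := hS.dvd_card (by rw [card_top']; exact h.sh.big (by omega))
    (piNat_pow_self Nat.prime_two 7)
  have := Nat.le_of_dvd (card_pos' T) h1
  have := h.c64
  omega

theorem zc (h1 : Q ⊓ D ≠ ⊥) : ∃ z ∈ Q, U1 D z ∧ 8 ≤ ♯D := by
  rcases h.ty with ⟨m, hm, ⟨e⟩⟩ | ⟨e, e'⟩
  · obtain ⟨a, c, d⟩ := dh_of_iso (h.sD.pi.qt Q) hm e
    exact dh_u1 h.pf h.sD h.cQ h.pQ d h1
  · exact (h1 (e8_split h.pf h.sD h.cQ h.pQ e e')).elim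

theorem zc_st (h1 : Q ⊓ D ≠ ⊥) (s : St T x) : False := by
  obtain ⟨w, hw, u, c⟩ := h.zc h1
  by_cases e : D ⊓ cj x D = ⊥
  · have h2 := card_le (sup_le h.DT (s.normal h.nD).le)
    rw [card_sup_of_inf_bot (.inl (h.DT.trans (s.normal h.nD).norm)) e, card_cj] at h2
    have h3 := h.c64
    have h4 := h.c32 ((Nat.le_of_dvd (card_pos' D) (relIndex_dvd_card Q D)).trans (by nlinarith))
    nlinarith
  · obtain ⟨y, hy, i, l⟩ := s.fix h.nD e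
    exact h.nsQ (u.eq hy.1 i ▸ hw) (h.sol1 s i l)

theorem zc_syl (h1 : Q ⊓ D ≠ ⊥) (hS : Syl 2 T ⊤) : PRankLE 2 2 G ∧ (k ≤ 6 → ∃ w, U1 T w) := by
  obtain ⟨w, hw, u, c⟩ := h.zc h1
  have c1 := card_mul_relIndex h.DT
  have c2 := card_inf_mul_relIndex Q D
  have c3 := one_lt_card.2 h1
  have c4 := h.b1.trans (Nat.pow_le_pow_right two_pos (h.k7 hS))
  have c5 := card_le h.DT
  refine ⟨rank_two hS u ?_, fun k6 => ⟨w, eq_of_card_le h.DT ?_ ▸ u⟩⟩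
  · by_cases e : Q.relIndex D ≤ 8
    · have := (h.b2 e).trans (Nat.pow_le_pow_right two_pos (h.k7 hS))
      nlinarith
    · nlinarith
  · have c4 := h.b1.trans (Nat.pow_le_pow_right two_pos k6)
    have := (h.b2 (by nlinarith)).trans (Nat.pow_le_pow_right two_pos k6)
    omega

variable (i : Q ⊓ D = ⊥)
include i

theorem tyD : (∃ a c, Dh D a c) ∨ (♯D = 8 ∧ ∀ x ∈ D, x * x = 1) := by
  obtain ⟨e⟩ := qt_iso_of_inf_bot h.nQD i
  exact (h.ty.congr ⟨e.symm⟩).imp_left fun ⟨_, hm, ⟨e⟩⟩ => dh_of_iso h.sD.pi hm e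

theorem c0 : ♯(Q ⊔ D) = ♯Q * ♯D := card_sup_of_inf_bot (.inr h.nQD) i

theorem b2' (e : ♯D ≤ 8) : 8 * ♯T ≤ 2 ^ k := h.b2 (by rwa [relIndex_of_inf_bot i])

theorem ab' (e : Abel D) : T ⊓ 𝐂 D ≤ Q ⊔ D := h.ab (by rw [der_eq_bot.2 e]; exact bot_le)

theorem zD : z ∉ D := fun e => h.iz.ne (eq_one_of_mem_bot i ⟨h.zQ, e⟩)

theorem Q2 : 2 ≤ ♯Q := h.iz.card ▸ card_le (zpowers_le.2 h.zQ)

theorem eqQ (e : ♯Q ≤ 2) : Q = zpowers z :=
  (eq_of_card_le (zpowers_le.2 h.zQ) (by rwa [h.iz.card])).symm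

/-- the central elements of `T` inside a dihedral `D` -/
theorem zw (d : Dh D a c) (nc : ¬ T ≤ 𝐂 D) :
    ∃ w ∈ D, Iv w ∧ w ∈ 𝐂 T ∧ ∀ y ∈ D, y ∈ 𝐂 T → y = 1 ∨ y = w := by
  obtain ⟨w, hw, iw⟩ := exists_iv h.sD.pi.inf_left (h.pT.inf_cent_ne_bot h.sD.pi h.nD.norm
    (ne_bot_of_mem d.cD d.u.iv.ne))
  refine ⟨w, hw.1, iw, hw.2, fun y hy c => ?_⟩
  by_cases e : ♯D = 4
  · by_contra! n
    exact nc fun t ht => klein_cent (d.abel e) hy hw.1 n.1 iw.ne n.2 (le_cent1_iff.2 c ht)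
      (le_cent1_iff.2 hw.2 ht)
  · rw [(d.center e hw.1 (cent_anti h.DT hw.2)).resolve_left iw.ne]
    exact d.center e hy (cent_anti h.DT c)

theorem der_le (e : ♯T ≤ 4 * ♯D) : ⁅T, T⁆ ≤ D := by
  refine (abel_qt_iff h.nD.norm).1 (abel_of_card_le (h.pT.qt D) ?_)
  have := card_mul_relIndex h.DT
  have := card_pos' D
  rw [card_qt h.nD.norm]
  nlinarith

theorem w_der (e : ♯T ≤ 4 * ♯D) (nc : ¬ T ≤ 𝐂 D) (u : ∀ y ∈ D, y ∈ 𝐂 T → y = 1 ∨ y = w) :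
    ∀ n ∈ 𝐍 T, n ∈ 𝐂₁ w := by
  intro n hn
  obtain ⟨y, hy, y1⟩ := exists_mem_ne_one (h.pT.nil.inf_cent_ne_bot (der_normal T)
    fun e => nc (cent_anti h.DT |>.trans' (der_eq_bot.1 e)))
  obtain rfl := (u y (h.der_le i e hy.1) hy.2).resolve_left y1
  exact mem_cent1.2 (mul_inv_eq_iff_eq_mul.1 ((u _ (h.der_le i e (conj_mem_of_norm (norm_der T hn)
    hy.1)) (conj_mem_of_norm (norm_le_norm_cent T hn) hy.2)).resolve_left (conj_ne_one y1 n)))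

/-- central elements of `⟨z⟩ D` -/
theorem cz (hQ : Q = zpowers z) (u : ∀ y ∈ D, y ∈ 𝐂 T → y = 1 ∨ y = w) (hy : y ∈ Q ⊔ D)
    (c : y ∈ 𝐂 T) : y = 1 ∨ y = w ∨ y = z ∨ y = z * w := by
  obtain ⟨q, hq, d, hd, rfl⟩ := (mem_sup_norm' h.nQD).1 hy
  have := u d hd (mem_cent.2 fun t ht =>
    mem_cent1.1 (proj h.nQ h.nD i hq hd ht (le_cent1_iff.2 c ht)).2)
  rcases iv_zpowers h.iz (hQ ▸ hq) with rfl | rfl <;> rcases this with rfl | rfl <;> simp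

theorem nz_syl (hS : Syl 2 T ⊤) : Abel T ∧ (k ≤ 6 → Ty T) := by
  have k7 := h.k7 hS
  have c0 := h.c0 i
  have c1 := card_le h.l0
  have Q2 := h.Q2 i
  have c2 := h.b1.trans (Nat.pow_le_pow_right two_pos k7)
  have c3 := fun e => (h.b2' i e).trans (Nat.pow_le_pow_right two_pos k7)
  have ab : Abel D → 4 ≤ ♯D → ♯D ≤ 8 → T ≤ Q ⊔ D → Abel T := fun a d4 d8 l =>
    ((abel_of_card_le h.pQ (by nlinarith [c3 d8])).sup a (cent_symm (h.DK.trans h.cQ))).mono l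
  rcases h.tyD i with ⟨a, c, d⟩ | ⟨e, e'⟩
  swap
  · refine ⟨ab (abel_of_sq e') (by omega) e.le (eq_of_card_le h.l0 (by nlinarith [c3 e.le])).ge,
      fun k6 => ?_⟩
    have := (h.b2' i e.le).trans (Nat.pow_le_pow_right two_pos k6)
    nlinarith
  have d4 := d.card
  by_cases nc : T ≤ 𝐂 D
  · have e : ♯D = 4 := by
      by_contra e
      obtain ⟨b, hb, n⟩ := d.ex
      exact (d.center e hb (cent_symm nc |>.trans (cent_anti h.DT) hb)).elim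
        (fun e => n (e ▸ one_mem _)) fun e => n (e ▸ d.u.mem)
    have l := (le_inf le_rfl nc).trans (h.ab' i (klein_abel (d.abel e)))
    refine ⟨ab (klein_abel (d.abel e)) d4 (by omega) l, fun k6 => ?_⟩
    have := (h.b2' i (by omega)).trans (Nat.pow_le_pow_right two_pos k6)
    refine .inr ⟨by nlinarith, fun x hx => ?_⟩
    obtain ⟨q, hq, y, hy, rfl⟩ := (mem_sup_norm' h.nQD).1 (l hx)
    rcases iv_zpowers h.iz (h.eqQ i (by nlinarith) ▸ hq) with rfl | rfl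
    · rw [one_mul, klein_sq (d.abel e) hy]
    · rw [mul_assoc, ← mul_assoc y, mem_cent1.1 (h.Tz (h.DT hy)), mul_assoc, klein_sq (d.abel e) hy,
        mul_one, h.iz.sq]
  exfalso
  obtain ⟨w, hw, iw, cw, u⟩ := h.zw i d nc
  have k : ♯Q ≤ 2 ∧ ♯T ≤ 4 * ♯D ∧ T ⊓ 𝐂 D ≤ Q ⊔ D := by
    by_cases e : ♯D = 4
    · refine ⟨?_, by omega, h.ab' i (klein_abel (d.abel e))⟩
      by_contra q2
      have := Nat.le_of_dvd (card_pos' Q) (card_two_le (n := 1) h.pQ (by omega))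
      have := c3 (by omega)
      exact nc ((eq_of_card_le h.l0 (by rw [c0, e]; omega)).ge.trans
        (sup_le (cent_symm (h.DK.trans h.cQ)) (klein_abel (d.abel e))))
    have d8 := Nat.le_of_dvd (card_pos' D) (card_two_le (n := 2) d.pi (by omega))
    have : ♯T ≤ 2 * ♯D := by
      by_cases e : ♯D ≤ 8
      · have := c3 e
        omega
      · have := Nat.le_of_dvd (card_pos' D) (card_two_le (n := 3) d.pi (by omega))
        omega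
    exact ⟨by nlinarith, by omega, inf_le_left.trans (eq_of_card_le h.l0 (by nlinarith)).ge⟩
  have fw := h.w_der i k.2.1 nc u
  have zc := le_cent1_iff.1 h.Tz
  refine h.zD i (xt hS (h.der_le i k.2.1) h.iz.sq (h.sh.perf.ge trivial) h.zT le_top h.pT h.zT h.Tz
    fun g _ l => ?_)
  have n := mem_norm_of_cj_le l
  have c' := conj_mem_of_norm (norm_le_norm_cent T n) zc
  rcases h.cz i (h.eqQ i k.1) u (k.2.2 ⟨conj_mem_of_norm n h.zT, cent_anti h.DT c'⟩) c' with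
    e | e | e | e
  · exact (conj_ne_one h.iz.ne g e).elim
  · rw [mul_inv_eq_iff_eq_mul, ← mem_cent1.1 (fw g n)] at e
    exact (h.zD i (mul_left_cancel e ▸ hw)).elim
  · rw [e, inv_mul_cancel]; exact one_mem _
  · rw [e, inv_mul_cancel_left]; exact hw

end Cf

end CF.Perm.Chn
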