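import Cfsg.Agent.Perm.Ch6

/-!
# Short chains: the elementary case and the case `|Q| = 4`
-/

set_option autoImplicit false
set_option linter.unusedSectionVars false

namespace CF.Perm.Chn
open Subgroup Cfsg CF.BG CF.Bender CF.PG CF.ZD
open scoped ArithmeticFunction.Omega commutatorElement

variable {G : Type*} [Group G] [Finite G]
variable {A B C D E H K L M N P Q R S T U V Y Z : Subgroup G} {k m n r : ℕ}
  {a b c d g q t v w x y z : G}

theorem quad (h : ∀ x ∈ D, x * x = 1) (n : t ∈ 𝐍 D) (c : t * t ∈ 𝐂 D) :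
    ♯D ≤ ♯(D ⊓ 𝐂₁ t) * ♯(D ⊓ 𝐂₁ t) := by
  have h1 := card_inf_mul_relIndex (𝐂₁ t) D
  rw [← h1, inf_comm]
  refine Nat.mul_le_mul_left _ ((relIndex_le_cj (S := {y | t⁻¹ * y ∈ D ⊓ 𝐂₁ t})
    fun d hd => ?_).trans (ncard_coset _ _).le)
  have h2 := conj_mem_of_norm' n hd
  refine ⟨by simpa [mul_assoc] using mul_mem h2 (inv_mem hd), mem_cent1.2 ?_⟩
  have h3 := mem_cent.1 c _ h2
  have h4 := (abel_of_sq h).mul_comm h2 hd
  rw [inv_eq_of_mul_eq_one_right (h d hd)]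
  calc t⁻¹ * (d * t * d) * t = t⁻¹ * d * t * d * t := by group
    _ = d * (t⁻¹ * d * t * (t * t)) * t⁻¹ := by rw [h4]; group
    _ = _ := by rw [h3]; group

theorem uniq_ab (a : Abel A) (b : Abel B) (lA : A ≤ P) (lB : B ≤ P) (n : P ≤ 𝐍 A)
    (c : ♯P = 2 * ♯A) (e : ♯B = ♯A) (ne : B ≠ A) : A ⊓ B ≤ 𝐂 P ∧ 2 * ♯(A ⊓ B) = ♯A := by
  have h1 : A ⊔ B = P := by
    have h2 : A < A ⊔ B := left_lt_sup.2 fun l => ne (eq_of_card_eq l e)
    obtain ⟨j, hj⟩ := card_dvd h2.le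
    have h3 := card_lt h2
    refine eq_of_card_le (sup_le lA lB) ?_
    rw [c, hj, mul_comm]
    exact Nat.mul_le_mul_left _ (by rw [hj] at h3; nlinarith)
  have h2 := card_sup_mul_card_inf (H := A) (.inr (lB.trans n))
  rw [h1, c, e, mul_comm 2, mul_assoc] at h2
  exact ⟨h1 ▸ le_cent_sup (inf_le_left.trans a) (inf_le_right.trans b),
    Nat.eq_of_mul_eq_mul_left (card_pos' A) h2⟩

theorem three_le (hx : x ∈ L) (hg : g ∈ L) (h1 : x * z * x⁻¹ ≠ z) (h2 : g * z * g⁻¹ ≠ z)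
    (h3 : x * z * x⁻¹ ≠ g * z * g⁻¹) : 3 ≤ (𝐂₁ z).relIndex L := by
  rw [← ncard_cl, ← Set.ncard_eq_three.2 ⟨z, _, _, h1.symm, h2.symm, h3, rfl⟩]
  refine Set.ncard_le_ncard ?_
  rintro _ (rfl | rfl | rfl)
  exacts [⟨1, one_mem _, by simp⟩, ⟨x, hx, rfl⟩, ⟨g, hg, rfl⟩]

namespace Cf
variable (h : Cf k z T Q K D) (s : St T x)
include h s

theorem xz : x ∉ 𝐂₁ z := fun e => h.nsQ h.zQ (h.sol1 s h.iz (sup_le h.Tz (zpowers_le.2 e)))

theorem tz : x * z * x⁻¹ ≠ z := fun e => h.xz s (mem_cent1.2 (mul_inv_eq_iff_eq_mul.1 e))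

theorem tT : x * z * x⁻¹ ∈ T := conj_mem_of_norm s.n h.zT

theorem tc : x * z * x⁻¹ ∈ 𝐂 T :=
  conj_mem_of_norm (norm_le_norm_cent T s.n) (le_cent1_iff.1 h.Tz)

theorem tQ : x * z * x⁻¹ ∉ Q := fun e =>
  (h.iz.conj x).ne (eq_one_of_mem_bot (h.QQ s) ⟨e, conj_mem_cj.2 h.zQ⟩)

theorem QQ' : ♯Q * ♯Q ≤ ♯T := by
  have := card_le (sup_le h.QT (s.normal h.nQ).le)
  rwa [card_sup_of_inf_bot (.inl (h.QT.trans (s.normal h.nQ).norm)) (h.QQ s), card_cj] at this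

theorem orb (l : T ⊔ zpowers x ≤ L) : 2 ∣ (𝐂₁ z).relIndex L := by
  by_contra e
  have := ((h.sT.of_le (le_inf h.Tz (le_sup_left.trans l)) inf_le_left).trans_idx inf_le_right
    ((piNat_compl_single Nat.prime_two).2 (by rwa [inf_relIndex_right]))).eq_of_le le_sup_left l s.pi1
  exact s.nm (this.ge (mem_sup_right (mem_zpowers x)))

omit s in
theorem om_orb (sL : Sol L) (l : T ≤ L) (o : Odd r) (d : r ∣ ♯(𝐂₁ z ⊓ L)) :
    Ω (♯T) + Ω r + Ω ((𝐂₁ z).relIndex L) < k := by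
  obtain ⟨j, hj⟩ := h.pT.card_pow
  rw [← om_mul (card_ne_zero' T) o.pos.ne', ← om_mul (mul_ne_zero (card_ne_zero' T) o.pos.ne')
    (relIndex_ne_zero' _ _)]
  refine h.sh.om_lt sL ?_
  rw [← card_inf_mul_relIndex (𝐂₁ z) L]
  exact Nat.mul_dvd_mul_right (Nat.Coprime.mul_dvd_of_dvd_of_dvd
    (hj ▸ (Nat.coprime_two_left.2 o).pow_left j) (card_dvd (le_inf h.Tz l)) d) _

theorem om2 (l : T ⊔ zpowers x ≤ L) (hg : g ∈ 𝐂₁ z ⊓ L) (n : g ∉ 𝐂₁ (x * z * x⁻¹)) :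
    2 ≤ Ω ((𝐂₁ z).relIndex L) := by
  have hx := l (mem_sup_right (mem_zpowers x))
  have h1 := three_le hx (mul_mem hg.2 hx) (h.tz s) (fun e => h.xz s (by
    simpa using mul_mem ((𝐂₁ z).inv_mem hg.1) (mem_cent1.2 (mul_inv_eq_iff_eq_mul.1 e))))
    fun e => n (mem_cent1.2 (by rw [← mul_inv_eq_iff_eq_mul]; nth_rw 2 [e]; group))
  obtain ⟨j, hj⟩ := h.orb s l
  rw [hj, om_mul two_ne_zero (by omega), ArithmeticFunction.cardFactors_apply_prime Nat.prime_two]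
  have := om_pos (show 1 < j by omega)
  omega

variable (i : Q ⊓ D = ⊥)
include i

omit s in
/-- an element of `K` moving the `D`-component moves the element -/
theorem mvK (hy : y ∈ Q ⊔ D) (n : y ∉ Q) : ∃ d ∈ D, d ≠ 1 ∧ ∀ g ∈ K, g ∈ 𝐂₁ y ↔ g ∈ 𝐂₁ d := by
  obtain ⟨q, hq, d, hd, rfl⟩ := (mem_sup_norm' h.nQD).1 hy
  refine ⟨d, hd, by rintro rfl; exact n (by simpa using hq), fun g hg => ?_⟩
  rw [mem_cent1, mem_cent1, ← mul_assoc, mem_cent1.1 (h.Kc hq hg), mul_assoc, mul_assoc,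
    mul_left_cancel_iff]

omit s in
theorem nK0 : K ⊓ 𝐍 D ≤ 𝐂₁ z ⊓ 𝐍 (Q ⊔ D) := le_inf (inf_le_left.trans (h.Kc h.zQ))
  (norm_sup (inf_le_left.trans (norm_of_cent h.cQ)) inf_le_right)

theorem e8 (e : ♯D = 8) (e' : ∀ x ∈ D, x * x = 1) : False := by
  have c0 := h.c0 i
  have Q2 := h.Q2 i
  have c1 := h.c32 (by rw [relIndex_of_inf_bot i, e])
  have c2 := card_le h.l0
  have aD := abel_of_sq e'
  have aQ := abel_of_card_le h.pQ (by nlinarith)
  have cD : Q ⊔ D ≤ 𝐂 D := sup_le (cent_symm (h.DK.trans h.cQ)) aD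
  have sL := h.sh.sol_norm (h.pT.le h.l0).sol (card_two_le (n := 3) (h.pT.le h.l0) (by nlinarith))
  have nT := (h.nQ.sup h.nD).norm
  have o7 := fun {d} => e8_orb (x := d) h.pf h.sD e e'
  obtain ⟨d0, hd0, d01⟩ := exists_mem_ne_one (one_lt_card.1 (show 1 < ♯D by omega))
  have d7 : 7 ∣ ♯(𝐂₁ z ⊓ 𝐍 (Q ⊔ D)) :=
    ((o7 hd0 d01).1 ▸ relIndex_dvd_card _ _).trans (card_dvd (h.nK0 i))
  have cT : T ≤ 𝐂 D := by
    intro t ht
    by_contra nt
    have lt : Q ⊔ D < T := lt_of_le_of_ne h.l0 fun e => nt (cD (e.ge ht))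
    have c3 : ♯T = 32 := le_antisymm c1 (Nat.le_of_dvd (card_pos' T) (card_two_le (n := 4) h.pT
      (by have := card_lt lt; nlinarith)))
    have r7 : (𝐂 D).relIndex (K ⊓ 𝐍 D) = 7 := by
      have h1 := aut8 e e' (inf_le_right (a := K))
      have h2 := relIndex_dvd_left (K ⊓ 𝐍 D) (cent_le_cent1 hd0)
      have h3 : ¬ 2 ∣ (𝐂 D).relIndex (K ⊓ 𝐍 D) := fun e => h.sD.norm_self.not_dvd Nat.prime_two
        (e.trans (relIndex_dvd_left _ aD))
      have h4 : ¬ 3 ∣ (𝐂 D).relIndex (K ⊓ 𝐍 D) := fun e3 => h.sh.not_ch8 (h.sh.cent_ne h.iz.ne)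
        ((ch_dvd (n := 7) (d := 2 ^ 5 * (3 * 7)) (sL.mono inf_le_right)
          (Nat.Coprime.mul_dvd_of_dvd_of_dvd (by norm_num) (c3 ▸ card_dvd (le_inf h.Tz nT))
            (Nat.Coprime.mul_dvd_of_dvd_of_dvd (by norm_num)
              ((e3.trans (relIndex_dvd_card _ _)).trans (card_dvd (h.nK0 i))) d7))
          (by
            rw [om_mul (by norm_num) (by norm_num), om_two, om_mul (by norm_num) (by norm_num)]
            have := om_pos (show 1 < 3 by norm_num)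
            have := om_pos (show 1 < 7 by norm_num)
            omega)).step (lt_of_le_of_ne inf_le_left fun e => h.nsQ h.zQ
              (e ▸ sL.mono inf_le_right)))
      rw [(o7 hd0 d01).1] at h2
      have h5 := Nat.mem_divisors.2 ⟨h1, by norm_num⟩
      exact (by decide : ∀ r ∈ Nat.divisors 168, 7 ∣ r → ¬ 2 ∣ r → ¬ 3 ∣ r → r = 7) _ h5 h2 h3 h4
    have q := quad e' (h.nD.norm ht) (cD (mul_self_mem_of_index_two
      (H := (Q ⊔ D).subgroupOf T) (by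
        have := card_mul_relIndex h.l0
        have := card_lt lt
        change (Q ⊔ D).relIndex T = 2
        nlinarith) ⟨t, ht⟩))
    obtain ⟨d1, hd1, d11⟩ := exists_mem_ne_one (one_lt_card.1 (show 1 < ♯(D ⊓ 𝐂₁ t) by nlinarith))
    obtain ⟨d2, hd2, n2⟩ : ∃ d2 ∈ D ⊓ 𝐂₁ t, d2 ∉ zpowers d1 := by
      by_contra! n
      have := card_le n
      rw [Iv.card ⟨d11, e' _ hd1.1⟩] at this
      nlinarith
    have d21 : d2 ≠ 1 := fun e => n2 (e ▸ one_mem _)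
    obtain ⟨g, hg, e2⟩ := (o7 hd1.1 d11).2 d2 hd2.1 d21
    have hc : t * g * t⁻¹ * g⁻¹ ∈ 𝐂 D := by
      have h1 := relIndex_mul_relIndex (𝐂 D ⊓ (K ⊓ 𝐍 D)) (𝐂₁ d2 ⊓ (K ⊓ 𝐍 D)) (K ⊓ 𝐍 D)
        (inf_le_inf_right _ (cent_le_cent1 hd2.1)) inf_le_right
      rw [inf_relIndex_right, inf_relIndex_right, r7, (o7 hd2.1 d21).1] at h1
      refine (relIndex_eq_one.1 (Nat.eq_of_mul_eq_mul_right (by norm_num) (h1.trans (one_mul 7).symm))
        (mem_inf.2 ⟨mem_cent1.2 ?_, mul_mem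
        (conj_mem_of_norm (norm_inf h.nK (h.nD.norm.trans (norm_le_norm_norm D)) ht) hg)
        (inv_mem hg)⟩)).1
      calc t * g * t⁻¹ * g⁻¹ * d2 = t * g * t⁻¹ * (d1 * t) * (g * t)⁻¹ := by rw [← e2]; group
        _ = t * d2 * g * t⁻¹ * g⁻¹ := by rw [mem_cent1.1 hd1.2, ← e2]; group
        _ = _ := by rw [← mem_cent1.1 hd2.2]; group
    have h1 := relIndex_mul_relIndex (𝐂 D ⊓ (K ⊓ 𝐍 D)) (𝐍 (D ⊓ 𝐂₁ t) ⊓ (K ⊓ 𝐍 D)) (K ⊓ 𝐍 D)
      (inf_le_inf_right _ ((cent_anti inf_le_left).trans (cent_le_norm _))) inf_le_right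
    rw [inf_relIndex_right, inf_relIndex_right, r7] at h1
    rcases (Nat.dvd_prime (by norm_num)).1 (Dvd.intro_left _ h1) with h2 | h2
    · refine nt (mem_cent.2 fun d hd => ?_)
      by_cases d1' : d = 1
      · simp [d1']
      obtain ⟨j, hj, rfl⟩ := (o7 hd1.1 d11).2 d hd d1'
      exact mem_cent1.1 (conj_mem_of_norm (relIndex_eq_one.1 h2 hj) hd1).2
    · rw [h2] at h1
      have := (relIndex_eq_one.1 (Nat.eq_of_mul_eq_mul_right (by norm_num)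
          (h1.trans (one_mul 7).symm)) (mem_inf.2 ⟨mem_norm_of_cj_le fun y hy => by
        obtain ⟨d, hd, rfl⟩ := mem_cj_iff.1 hy
        have h3 := conj_mem_of_norm hg.2 hd.1
        refine ⟨h3, mem_cent1.2 ?_⟩
        calc g * d * g⁻¹ * t = g * d * g⁻¹ * (t * g * t⁻¹ * g⁻¹) * (g * t * g⁻¹) := by group
          _ = t * g * t⁻¹ * (d * t) * g⁻¹ := by rw [mem_cent.1 hc _ h3]; group
          _ = _ := by rw [mem_cent1.1 hd.2]; group, hg⟩)).1
      rw [← mem_cent.1 this _ hd1.1, mul_inv_cancel_right] at e2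
      exact n2 (e2 ▸ mem_zpowers d1)
  have eT := le_antisymm h.l0 ((le_inf le_rfl cT).trans (h.ab' i aD))
  have N0 := h.nK0 i
  have mK := fun {y} => h.mvK (y := y) i
  rw [eT] at c0 sL d7 N0 mK
  have l1 := sup_le (le_norm_self T) (zpowers_le.2 s.n)
  have h1 := h.om_orb sL (le_norm_self T) (by decide) d7
  have h2 := h.sh.k8
  have h3 := om_pos (show 1 < 7 by norm_num)
  by_cases q2 : ♯Q ≤ 2
  · have h4 := dvd_ncard_cj (P := K ⊓ 𝐍 D) (S := {y | ∃ g ∈ 𝐍 T, g * z * g⁻¹ = y} \ {z}) (n := 7)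
      (by
        rintro g hg _ ⟨⟨j, hj, rfl⟩, n⟩
        refine ⟨⟨g * j, mul_mem (N0 hg).2 hj, by group⟩, fun e => n ?_⟩
        rw [Set.mem_singleton_iff, mul_inv_eq_iff_eq_mul, ← mem_cent1.1 (N0 hg).1] at e
        exact mul_left_cancel e)
      (by
        rintro _ ⟨⟨j, hj, rfl⟩, n⟩
        obtain ⟨d, hd, d1, e⟩ := mK (conj_mem_of_norm hj h.zT) fun e =>
          (iv_zpowers h.iz (h.eqQ i q2 ▸ e)).elim (conj_ne_one h.iz.ne j) n
        rw [← (o7 hd d1).1, ← inf_relIndex_right, ← inf_relIndex_right (𝐂₁ _)]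
        exact dvd_of_eq (congrArg (relIndex · _) (by ext g; simpa using fun a _ => (e g a).symm)))
    rw [Set.ncard_sdiff_singleton_of_mem (by exact ⟨1, one_mem _, by simp⟩), ncard_cl] at h4
    have h5 := h.orb s l1
    have h6 := relIndex_le_cj (S := T) fun g hg => conj_mem_of_norm hg h.zT
    have h7 := relIndex_pos (𝐂₁ z) (𝐍 T)
    have c16 : ♯T = 2 ^ 4 := by rw [e] at c0; omega
    rw [ncard_coe] at h6
    rw [show (𝐂₁ z).relIndex (𝐍 T) = 2 ^ 3 by omega, c16, om_two, om_two] at h1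
    omega
  · obtain ⟨d, hd, d1, e2⟩ := mK (h.tT s) (h.tQ s)
    obtain ⟨g, hg, n⟩ := SetLike.not_le_iff_exists.1 fun l : K ⊓ 𝐍 D ≤ 𝐂₁ d => by
      have := relIndex_eq_one.2 l
      rw [(o7 hd d1).1] at this
      omega
    have h4 := h.om2 s l1 (N0 hg) (mt (e2 g hg.1).1 n)
    have : 4 ≤ ♯Q := Nat.le_of_dvd (card_pos' Q) (card_two_le (n := 1) h.pQ (by omega))
    rw [show ♯T = 2 ^ 5 by rw [e] at c0; omega, om_two] at h1
    omega

theorem q4c (q2 : 2 < ♯Q) (cQ : T ≤ 𝐂 Q) (l : T ⊓ 𝐂 D ≤ Q ⊔ D) (iw : Iv w) (hw : w ∈ D)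
    (u : ∀ y ∈ D, y ∈ 𝐂 T → y = 1 ∨ y = w) : False := by
  have c : cj x Q ≤ 𝐂 T := cj_le_of_norm (norm_le_norm_cent T s.n) (cent_symm cQ)
  have h1 : cj x Q ≤ Q ⊔ zpowers w := fun y hy => by
    obtain ⟨q, hq, d, hd, rfl⟩ := (mem_sup_norm' h.nQD).1
      (l ⟨(s.normal h.nQ).le hy, cent_anti h.DT (c hy)⟩)
    exact mul_mem_sup hq ((mem_zp iw).2 (u d hd (mem_cent.2 fun t ht =>
      mem_cent1.1 (proj h.nQ h.nD i hq hd ht (le_cent1_iff.2 (c hy) ht)).2)))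
  have h2 := card_le (sup_le le_sup_left h1)
  have h3 := Nat.le_of_dvd (Nat.mul_pos (card_pos' _) (card_pos' _))
    (card_sup_dvd (H := Q) (.inr (zpowers_le.2 (h.nQD hw))))
  rw [card_sup_of_inf_bot (.inl (h.QT.trans (s.normal h.nQ).norm)) (h.QQ s), card_cj] at h2
  rw [iw.card] at h3
  nlinarith

theorem q4 (d : Dh D a c) (q2 : 2 < ♯Q) : False := by
  have c0 := h.c0 i
  have q4 : 4 ≤ ♯Q := Nat.le_of_dvd (card_pos' Q) (card_two_le (n := 1) h.pQ q2)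
  have c2 := card_le h.l0
  have c3 := h.c64
  have c4 := fun e => h.c32 (by rwa [relIndex_of_inf_bot i])
  have c5 := h.QQ' s
  have d4 := d.card
  have cQ := h.DK.trans h.cQ
  by_cases e : ♯D = 4
  swap
  · have d8 : 8 ≤ ♯D := Nat.le_of_dvd (card_pos' D) (card_two_le (n := 2) d.pi (by omega))
    have : ♯T ≤ 4 * ♯D := by
      by_cases e : ♯D ≤ 8
      · have := c4 e
        omega
      · have := Nat.le_of_dvd (card_pos' D) (card_two_le (n := 3) d.pi (by omega))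
        omega
    have eT := eq_of_card_le h.l0 (this.trans (c0 ▸ Nat.mul_le_mul_right _ q4))
    obtain ⟨b, hb, n⟩ := d.ex
    obtain ⟨w, hw, iw, -, u⟩ := h.zw i d fun nc => (d.center e hb (cent_symm nc |>.trans
      (cent_anti h.DT) hb)).elim (fun e => n (e ▸ one_mem _)) fun e => n (e ▸ d.u.mem)
    exact h.q4c s i q2 (eT.ge.trans (sup_le (abel_of_card_le h.pQ (by nlinarith)) cQ))
      (inf_le_left.trans eT.ge) iw hw u
  have kD := d.abel e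
  have aD := klein_abel kD
  have c32 := c4 (by omega)
  have q4' : ♯Q = 4 := by
    by_contra n
    have : 8 ≤ ♯Q := Nat.le_of_dvd (card_pos' Q) (card_two_le (n := 2) h.pQ (by omega))
    nlinarith
  have aQ := abel_of_card_le h.pQ q4'.le
  have a0 : Abel (Q ⊔ D) := aQ.sup aD (cent_symm cQ)
  rw [q4', e] at c0
  have sL := h.sh.sol_norm a0.sol (by rw [c0])
  have d3 := (d.three h.nt h.sD kD h.DK).trans (card_dvd (h.nK0 i))
  have d3' := d3.trans (card_dvd inf_le_right)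
  by_cases nc : T ≤ 𝐂 D
  · have eT := le_antisymm h.l0 ((le_inf le_rfl nc).trans (h.ab' i aD))
    have N0 := h.nK0 i
    have mK := h.mvK i (eT.ge (h.tT s)) (h.tQ s)
    rw [eT] at c0 sL d3 d3' N0 a0
    have l1 := sup_le (le_norm_self T) (zpowers_le.2 s.n)
    obtain ⟨S, hS, l⟩ := exists_syl_le le_top s.pi1
    rcases l.eq_or_lt with rfl | lt
    · have h1 := h.om_orb sL (le_norm_self T) (by decide) d3
      obtain ⟨y, hy, y1, e2⟩ := mK
      obtain ⟨g, hg, n⟩ := SetLike.not_le_iff_exists.1 (d.mv h.nt h.sD kD h.DK hy y1)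
      have h2 := h.om2 s l1 (N0 hg) (mt (e2 g hg.1).1 n)
      have h3 := om_pos (show 1 < 3 by norm_num)
      have h4 := h.sh.k8
      rw [show ♯T = 2 ^ 4 from c0, om_two] at h1
      have : 2 ^ 7 ∣ ♯(T ⊔ zpowers x) := hS.dvd_card (by rw [card_top']; exact h.sh.big (by omega))
        (piNat_pow_self Nat.prime_two 7)
      rw [s.card, c0] at this
      norm_num at this
    obtain ⟨y, -, s'⟩ := exists_st hS.pi lt
    by_cases e1 : cj y T = T
    · exact h.sh.f2' sL (sup_le l1 (zpowers_le.2 (cj_eq_self.1 e1))) (by rw [s'.card, s.card, c0]) d3'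
    obtain ⟨h1, h2⟩ := uniq_ab a0 (abel_cj.2 a0) le_sup_left (cj_le_of_norm s'.n le_sup_left) l1
      s.card (card_cj _ _) e1
    obtain ⟨y, hy, iy⟩ := exists_iv (A := Q ⊓ (T ⊓ cj y T)) h.pQ.inf_left fun e => by
      have := card_le (sup_le h.QT (inf_le_left (b := cj y T)))
      rw [card_sup_of_inf_bot (.inr (inf_le_left.trans h.nQ.norm)) e, q4'] at this
      omega
    exact h.nsQ hy.1 (h.sol1 s iy (le_cent1_iff.2 (h1 hy.2)))
  obtain ⟨w, hw, iw, -, u⟩ := h.zw i d nc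
  by_cases cQ' : T ≤ 𝐂 Q
  · exact h.q4c s i q2 cQ' (h.ab' i aD) iw hw u
  have n0 := (h.nQ.sup h.nD).norm
  have cT : ♯T = 32 := le_antisymm c32 (Nat.le_of_dvd (card_pos' T) (card_two_le (n := 4) h.pT
    (c0.ge.trans_lt (card_lt (lt_of_le_of_ne h.l0 fun e =>
      nc (e.ge.trans (a0.cent le_rfl le_sup_right)))))))
  by_cases e1 : cj x (Q ⊔ D) = Q ⊔ D
  · exact h.sh.f2' sL (sup_le n0 (zpowers_le.2 (cj_eq_self.1 e1))) (by rw [s.card, cT]) d3'
  obtain ⟨h1, h2⟩ := uniq_ab a0 (abel_cj.2 a0) h.l0 (cj_le_of_norm s.n h.l0) n0 (by omega)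
    (card_cj _ _) e1
  obtain ⟨q, hq, nq⟩ := SetLike.not_le_iff_exists.1 (mt cent_symm cQ')
  obtain ⟨y, hy, ny⟩ := SetLike.not_le_iff_exists.1 (mt cent_symm nc)
  have := card_mul_relIndex (inf_le_left (a := Q ⊔ D) (b := cj x (Q ⊔ D)))
  exact nq (mem_cent.2 fun t ht => mem_cent1.1 (proj h.nQ h.nD i hq hy ht (le_cent1_iff.2 (h1
    (mul_mem_of_relIndex_two (by nlinarith) (mem_sup_left hq) (mem_sup_right hy) (mt (@h1 _) nq)
      (mt (@h1 _) ny))) ht)).1)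

end Cf

end CF.Perm.Chn
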