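import Cfsg.Agent.Perm.Ch7

/-!
# Short chains: the case `T = E₈`
-/

set_option autoImplicit false
set_option linter.unusedSectionVars false

namespace CF.Perm.Chn
open Subgroup Cfsg CF.BG CF.Bender CF.PG CF.ZD
open scoped ArithmeticFunction.Omega commutatorElement

variable {G : Type*} [Group G] [Finite G]
variable {A B C D E H K L M N P Q R S T U V Y Z : Subgroup G} {k m n r : ℕ}
  {a b c g q t v w x y z : G}

theorem sol_conj (h : Sol (𝐂₁ y)) (g : G) : Sol (𝐂₁ (g * y * g⁻¹)) := by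
  rwa [← cj_cent1, sol_cj]

theorem mem_zsup (i : Iv z) (c : V ≤ 𝐂₁ z) (hy : y ∈ zpowers z ⊔ V) : y ∈ V ∨ z⁻¹ * y ∈ V := by
  obtain ⟨q, hq, d, hd, rfl⟩ := (mem_sup_norm' (norm_of_cent (cent_zpowers z ▸ c))).1 hy
  rcases iv_zpowers i hq with rfl | rfl
  exacts [.inl (by simpa using hd), .inr (by simpa using hd)]

/-- a commuting pair in a group of order 32 -/
theorem exists_pair (k : IsKleinFour V) (cV : U ≤ 𝐂 V) (sq : ∀ u ∈ U, u * u ∈ V) (hz : z ∈ U)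
    (ha : a ∈ U) (hb : b ∈ U) (hw : w ∈ V) (hv : v ∈ V) (w1 : w ≠ 1) (v1 : v ≠ 1) (n : w ≠ v)
    (ea : a * z * a⁻¹ = z * w) (eb : b * z * b⁻¹ = z * v) :
    ∃ a ∈ U, ∃ b ∈ U, a * z * a⁻¹ = z * w ∧ b * z * b⁻¹ = z * v ∧ a * b = b * a := by
  have cn : ∀ {u v}, u ∈ U → v ∈ V → u * v * u⁻¹ = v := fun hu hv => by
    rw [← mem_cent.1 (cV hu) _ hv, mul_inv_cancel_right]
  have cm : ∀ {a b}, a ∈ U → b ∈ U → ⁅a, b⁆ ∈ V := fun {a b} ha hb => by
    have := mul_mem (mul_mem (sq _ (mul_mem ha hb)) (cn (inv_mem hb) (sq _ (inv_mem ha)) ▸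
      sq _ (inv_mem ha))) (sq _ (inv_mem hb))
    rwa [show a * b * (a * b) * (b⁻¹ * (a⁻¹ * a⁻¹) * b⁻¹⁻¹) * (b⁻¹ * b⁻¹) = ⁅a, b⁆ by
      rw [commutatorElement_def]; group] at this
  have l : ∀ {a b c}, a ∈ U → b ∈ U → c ∈ U → ⁅a, b * c⁆ = ⁅a, b⁆ * ⁅a, c⁆ := fun ha hb hc => by
    rw [← cn hb (cm ha hc)]; simp only [commutatorElement_def]; group
  have r : ∀ {a b c}, a ∈ U → b ∈ U → c ∈ U → ⁅a * b, c⁆ = ⁅b, c⁆ * ⁅a, c⁆ := fun ha hb hc => by
    rw [← cn ha (cm hb hc)]; simp only [commutatorElement_def]; group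
  have az : ⁅a, z⁆ = w := by rw [commutatorElement_def, ea, cn hz hw]
  have zb : ⁅z, b⁆ = v := by
    rw [← commutatorElement_inv, commutatorElement_def, eb, cn hz hv, klein_inv k hv]
  have az' : a * z * z * (a * z)⁻¹ = z * w := by rw [← ea]; group
  have bz' : b * z * z * (b * z)⁻¹ = z * v := by rw [← eb]; group
  rcases klein_cases k hw hv w1 v1 n (cm ha hb) with e | e | e | e
  · exact ⟨a, ha, b, hb, ea, eb, commutatorElement_eq_one_iff_mul_comm.1 e⟩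
  · exact ⟨a, ha, _, mul_mem hb hz, ea, bz', commutatorElement_eq_one_iff_mul_comm.1
      (by rw [l ha hb hz, e, az, klein_sq k hw])⟩
  · exact ⟨_, mul_mem ha hz, b, hb, az', eb, commutatorElement_eq_one_iff_mul_comm.1
      (by rw [r ha hz hb, e, zb, klein_sq k hv])⟩
  · exact ⟨_, mul_mem ha hz, _, mul_mem hb hz, az', bz', commutatorElement_eq_one_iff_mul_comm.1
      (by rw [r ha hz (mul_mem hb hz), l ha hb hz, l hz hb hz, e, az, zb, commutatorElement_self,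
        mul_one, klein_comm k hw hv, mul_assoc, klein_sq k hw, mul_one, klein_sq k hv])⟩

namespace Cf
variable (h : Cf k z T Q K D) (d : Dh D a c)
include h d

theorem solD (hw : w ∈ D) (iw : Iv w) (sw : Sol (𝐂₁ w)) (hv : v ∈ D) (iv : Iv v) : Sol (𝐂₁ v) := by
  obtain ⟨g, -, e⟩ := d.fus h.nt h.sD (h.DK hw) iw
  obtain ⟨g', -, e'⟩ := d.fus h.nt h.sD (h.DK hv) iv
  have := sol_conj (sol_conj sw g) g'⁻¹
  rwa [e, ← e', show g'⁻¹ * (g' * v * g'⁻¹) * g'⁻¹⁻¹ = v by group] at this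

theorem nKV : K ⊓ 𝐍 V ≤ 𝐂₁ z ⊓ 𝐍 (zpowers z ⊔ V) := le_inf (inf_le_left.trans (h.Kc h.zQ))
  (norm_sup (inf_le_left.trans (norm_of_cent (cent_zpowers z ▸ h.Kc h.zQ))) inf_le_right)

theorem ln (nz : ∀ v ∈ D, Iv v → Sol (𝐂₁ v)) (k : IsKleinFour V) (l : V ≤ D)
    (n : ¬ 𝐍 (zpowers z ⊔ V) ≤ 𝐂₁ z) : (∀ v ∈ V, ¬ Sol (𝐂₁ (z * v))) ∧
      (∀ g ∈ 𝐍 (zpowers z ⊔ V), z⁻¹ * (g * z * g⁻¹) ∈ V) ∧ 𝐍 (zpowers z ⊔ V) ≤ 𝐍 V ∧ Sol (𝐍 V) ∧
      (𝐂₁ z).relIndex (𝐍 (zpowers z ⊔ V)) = 4 := by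
  have cV := l.trans (h.DT.trans h.Tz)
  have h1 : ∀ g ∈ 𝐍 (zpowers z ⊔ V), z⁻¹ * (g * z * g⁻¹) ∈ V := fun g hg =>
    (mem_zsup h.iz cV (conj_mem_of_norm hg (mem_sup_left (mem_zpowers z)))).resolve_left
      fun e => h.nsz g (nz _ (l e) (h.iz.conj g))
  obtain ⟨g, hg, n⟩ := SetLike.not_le_iff_exists.1 n
  have h2 : ∀ v ∈ V, ∃ g ∈ 𝐍 (zpowers z ⊔ V), g * z * g⁻¹ = z * v := fun v hv => by
    by_cases v1 : v = 1
    · exact ⟨1, one_mem _, by simp [v1]⟩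
    obtain ⟨j, hj, e⟩ := d.tr h.nt h.sD k (l.trans h.DK) (h1 g hg) (fun e => n (mem_cent1.2
      (by rwa [inv_mul_eq_one, eq_mul_inv_iff_mul_eq, eq_comm] at e))) hv v1
    refine ⟨j * g, mul_mem (h.nKV d hj).2 hg, ?_⟩
    rw [← e, ← mul_assoc z, ← mul_assoc z, ← mem_cent1.1 (h.nKV d hj).1]
    group
  have h3 : ∀ v ∈ V, ¬ Sol (𝐂₁ (z * v)) := fun v hv => by
    obtain ⟨g, -, e⟩ := h2 v hv
    exact e ▸ h.nsz g
  obtain ⟨v, hv, -, -, v1, -⟩ := CF.Invol.klein_exists k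
  refine ⟨h3, h1, le_norm_iff.2 fun g hg v hv => ?_, sol_of_idx ((nz v (l hv)
    (iv_of_klein k hv v1)).mono inf_le_right) ((relIndex_le_cj (S := V) fun g hg =>
      conj_mem_of_norm hg hv).trans (by rw [ncard_coe, klein_card k])), ?_⟩
  · by_cases v1 : v = 1
    · simp [v1]
    refine (mem_zsup h.iz cV (conj_mem_of_norm hg (mem_sup_right hv))).resolve_right fun e =>
      h3 _ e ?_
    rw [mul_inv_cancel_left]
    exact sol_conj (nz v (l hv) (iv_of_klein k hv v1)) g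
  · rw [← ncard_of_trans_cj (S := {y | z⁻¹ * y ∈ V}) h1 fun y hy => by simpa using h2 _ hy,
      ncard_coset, klein_card k]

variable (s : St T x) (i : Q ⊓ D = ⊥) (hQ : Q = zpowers z)
include s i hQ

theorem caseA (nc : T ≤ 𝐂 D) : False := by
  have e : ♯D = 4 := by
    by_contra e
    obtain ⟨b, hb, n⟩ := d.ex
    exact (d.center e hb (cent_symm nc |>.trans (cent_anti h.DT) hb)).elim
      (fun e => n (e ▸ one_mem _)) fun e => n (e ▸ d.u.mem)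
  have kD := d.abel e
  have aD := klein_abel kD
  have eT := le_antisymm h.l0 ((le_inf le_rfl nc).trans (h.ab' i aD))
  have c8 : ♯T = 8 := by rw [← eT, h.c0 i, e, hQ, h.iz.card]
  have zD := h.zD i
  have cD := h.DT.trans h.Tz
  rw [hQ] at eT
  have mT : ∀ {y}, y ∈ T → y ∈ D ∨ z⁻¹ * y ∈ D := fun hy => mem_zsup h.iz cD (eT.ge hy)
  have aT : Abel T := eT ▸ (abel_zpowers z).sup aD (cent_symm (cent_zpowers z ▸ cD))
  have xt : x * (x * z * x⁻¹) * x⁻¹ = z := by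
    rw [show x * (x * z * x⁻¹) * x⁻¹ = x * x * z * (x * x)⁻¹ by group, mem_cent1.1 (h.Tz s.sq),
      mul_inv_cancel_right]
  have xw : x ∈ 𝐂₁ (z⁻¹ * (x * z * x⁻¹)) := mem_cent1.2 (by
    rw [← mul_inv_eq_iff_eq_mul, ← conj_mul, xt, h.iz.inv, mem_cent1.1 (h.Tz (h.tT s))])
  have w1 : z⁻¹ * (x * z * x⁻¹) ≠ 1 := fun e => h.tz s (inv_mul_eq_one.1 e).symm
  have iw : Iv (z⁻¹ * (x * z * x⁻¹)) := ⟨w1, by
    rw [h.iz.inv, mul_assoc, ← mul_assoc (x * z * x⁻¹), mem_cent1.1 (h.Tz (h.tT s)), mul_assoc,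
      (h.iz.conj x).sq, mul_one, h.iz.sq]⟩
  have sw := h.sol1 s iw (sup_le (le_cent1_iff.2 (aT (mul_mem (inv_mem h.zT) (h.tT s))))
    (zpowers_le.2 xw))
  have hw : z⁻¹ * (x * z * x⁻¹) ∈ D := (mT (h.tT s)).resolve_left fun ht => by
    have t1 := (h.iz.conj x).ne
    have key : ∀ v ∈ D, v ≠ 1 → v ≠ x * z * x⁻¹ → x * v * x⁻¹ ∈ D := fun v hv v1 vt =>
      (mT (conj_mem_of_norm s.n (h.DT hv))).resolve_right fun e => by
        obtain ⟨g, hg, e1⟩ := d.tr h.nt h.sD kD h.DK ht t1 e fun e => vt (by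
          rw [inv_mul_eq_one, ← xt] at e; simpa using e.symm)
        obtain ⟨j, -, e2⟩ := d.tr h.nt h.sD kD h.DK hv v1 ht t1
        refine h.nsz x (e2 ▸ sol_conj ?_ j)
        have := sol_conj (sol_conj sw g) x⁻¹
        rwa [← conj_mul (a := z⁻¹), e1, h.iz.inv, mem_cent1.1 (h.Kc h.zQ hg.1), mul_inv_cancel_right,
          ← mul_assoc z, h.iz.sq, one_mul, show x⁻¹ * (x * v * x⁻¹) * x⁻¹⁻¹ = v by group] at this
    obtain ⟨v, hv, v1, vt⟩ := CF.Invol.klein_exists_ne kD (x * z * x⁻¹)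
    refine zD ?_
    have := mul_mem (key _ (mul_mem ht hv) (klein_mul_ne kD ht vt.symm) (by simpa using v1))
      (inv_mem (key v hv v1 vt))
    rwa [← conj_mul, mul_inv_cancel_right, xt] at this
  generalize hw' : z⁻¹ * (x * z * x⁻¹) = w at *
  have et : x * z * x⁻¹ = z * w := by rw [← hw', mul_inv_cancel_left]
  obtain ⟨h1, h2, h3, h4, -⟩ := h.ln d (fun _ => h.solD d hw iw sw) kD le_rfl
    fun e => h.xz s (e (eT ▸ s.n))
  have nK := h.nKV d (V := D)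
  rw [eT] at h2 h3 nK
  obtain ⟨v, hv, v1, vw⟩ := CF.Invol.klein_exists_ne kD w
  have xc : x ∈ 𝐂 D := klein_cent kD hw hv w1 v1 vw.symm xw (by
    by_contra n
    refine h1 v hv (h.sol1 s ⟨fun e => zD ?_, ?_⟩ (sup_le (le_cent1_iff.2 (aT (mul_mem h.zT (h.DT hv))))
      (zpowers_le.2 (mem_cent1.2 ?_))))
    · rw [eq_inv_of_mul_eq_one_left e]; exact inv_mem hv
    · rw [mul_assoc, ← mul_assoc v, mem_cent1.1 (cD hv), mul_assoc, klein_sq kD hv, mul_one, h.iz.sq]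
    · rw [← mul_inv_eq_iff_eq_mul, ← conj_mul, et, klein_mv kD hw hv w1 (h3 s.n) xw n, mul_assoc,
        ← mul_assoc w, klein_sq kD hw, one_mul])
  have l1 : T ⊔ zpowers x ≤ 𝐍 T ⊓ 𝐂 D := sup_le (le_inf (le_norm_self T) nc)
    (zpowers_le.2 ⟨s.n, xc⟩)
  have o4 : ∀ {X}, X ≤ 𝐍 T → (𝐂₁ z).relIndex X ≤ 4 := fun l => (relIndex_le_cj
    (S := {y | z⁻¹ * y ∈ D}) fun g hg => h2 g (l hg)).trans (by rw [ncard_coset, e])
  obtain ⟨U, hU, lU⟩ := exists_syl_le l1 s.pi1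
  have TU := le_sup_left.trans lU
  have c32 : 2 ^ 5 ∣ ♯U := by
    obtain ⟨g, hg, eg⟩ := d.tr h.nt h.sD kD h.DK hw w1 hv v1
    have e1 : g * x * g⁻¹ * z * (g * x * g⁻¹)⁻¹ = z * v := by
      have := mem_cent1.1 (nK hg).1
      calc _ = g * x * g⁻¹ * (z * g) * x⁻¹ * g⁻¹ := by group
        _ = g * (x * z * x⁻¹) * g⁻¹ := by rw [← this]; group
        _ = _ := by rw [et, ← mul_assoc, this, ← eg]; group
    have h5 := three_le (z := z) (l1 (mem_sup_right (mem_zpowers x))) (conj_mem_of_norm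
      (norm_inf (le_norm_self _) (h3.trans (norm_le_norm_cent D)) (nK hg).2) (l1 (mem_sup_right (mem_zpowers x)))) (h.tz s)
      (by rw [e1]; simpa using v1) (by rw [e1, et]; simpa using vw.symm)
    have h6 := h.orb s l1
    have h7 := o4 (inf_le_left (b := 𝐂 D))
    refine hU.dvd_card ?_ (piNat_pow_self Nat.prime_two 5)
    rw [← card_inf_mul_relIndex (𝐂₁ z), show (𝐂₁ z).relIndex _ = 4 by omega]
    exact Nat.mul_dvd_mul_right (c8 ▸ card_dvd (le_inf h.Tz (le_sup_left.trans l1))) 4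
  have eC : T = 𝐂₁ z ⊓ U := h.sT.eq_of_le (le_inf h.Tz TU) inf_le_left hU.pi.inf_right
  have UN := hU.le.trans inf_le_left
  have UC := hU.le.trans inf_le_right
  have cU := card_inf_mul_relIndex (𝐂₁ z) U
  have c32' := Nat.le_of_dvd (card_pos' U) c32
  have o4' := o4 UN
  rw [← eC, c8] at cU
  have big : ∀ {y P}, z⁻¹ * y ∈ D → P ≤ U → P ≤ 𝐂₁ y → ♯P ≤ 8 := fun {y P} hy l l' => by
    have := h1 _ hy
    rw [mul_inv_cancel_left] at this
    refine c8 ▸ h.small ⟨fun e => zD (by simpa [e] using hy), ?_⟩ this l' (hU.pi.le l)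
    rw [← mul_inv_cancel_left z y, mul_assoc, ← mul_assoc (z⁻¹ * y), mem_cent1.1 (cD hy), mul_assoc,
      klein_sq kD hy, mul_one, h.iz.sq]
  obtain ⟨S, hS, l⟩ := exists_syl_le le_top hU.pi
  rcases l.eq_or_lt with rfl | lt
  swap
  · obtain ⟨y, -, s'⟩ := exists_st hS.pi lt
    have eZ : 𝐙 U = D := le_antisymm (fun u hu => (mT (eC.ge ⟨cent_le_cent1 (TU h.zT) hu.2, hu.1⟩)
      ).resolve_right fun e => by have := big e le_rfl (le_cent1_iff.2 hu.2); omega)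
      (le_inf (h.DT.trans TU) (cent_symm UC))
    exact h.sh.f2' h4 (sup_le (UN.trans h3) (zpowers_le.2 (eZ ▸ norm_center U s'.n)))
      (s'.card ▸ Nat.mul_dvd_mul_left 2 c32) ((d.three h.nt h.sD kD h.DK).trans (card_dvd inf_le_right))
  have tr : ∀ v ∈ D, ∃ g ∈ U, g * z * g⁻¹ = z * v := fun v hv =>
    trans_of_card_cj (S := {y | z⁻¹ * y ∈ D}) (fun g hg => h2 g (UN hg))
      (by rw [ncard_coset]; omega) (by simpa using hv)
  obtain ⟨a, ha, ea⟩ := tr w hw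
  obtain ⟨b, hb, eb⟩ := tr v hv
  obtain ⟨a, ha, b, hb, ea, eb, ab⟩ := exists_pair kD UC (fun u hu => by
    have h5 := h2 u (UN hu)
    have h6 : u * u ∈ T := eC.ge ⟨mem_cent1.2 (by
      rw [← mul_inv_eq_iff_eq_mul]
      calc _ = u * (z * (z⁻¹ * (u * z * u⁻¹))) * u⁻¹ := by group
        _ = z * (z⁻¹ * (u * z * u⁻¹) * (z⁻¹ * (u * z * u⁻¹))) := by
          rw [← conj_mul, ← mem_cent.1 (UC hu) _ h5]; group
        _ = z := by rw [klein_sq kD h5, mul_one]), mul_mem hu hu⟩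
    refine (mT h6).resolve_right fun e => ?_
    have h7 := eq_of_card_le (le_inf TU (le_cent1_iff.2 (aT h6)))
      (c8 ▸ big e inf_le_left inf_le_right)
    have h8 := h7.ge ⟨hu, mem_cent1.2 (mul_assoc u u u).symm⟩
    rcases mT h8 with e' | e'
    · exact zD (by simpa [klein_sq kD e'] using e)
    · rw [← mul_inv_cancel_left z u, mul_assoc, ← mul_assoc (z⁻¹ * u), mem_cent1.1 (cD e'),
        mul_assoc, klein_sq kD e', mul_one, h.iz.sq] at e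
      exact zD (by simpa using e)) (TU h.zT) ha hb hw hv w1 v1 vw.symm ea eb
  have lM : D ⊔ zpowers a ⊔ zpowers b ≤ U := sup_le (sup_le (h.DT.trans TU) (zpowers_le.2 ha))
    (zpowers_le.2 hb)
  have aM : Abel (D ⊔ zpowers a ⊔ zpowers b) := (aD.sup (abel_zpowers a) (cent_symm
    (zpowers_le.2 (UC ha)))).sup (abel_zpowers b) (cent_zpowers b ▸ sup_le (le_cent1_iff.2 (UC hb))
      (zpowers_le.2 (mem_cent1.2 ab)))
  have h5 := three_le (z := z) (mem_sup_left (T := zpowers b) (mem_sup_right (S := D) (mem_zpowers a)))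
    (mem_sup_right (mem_zpowers b)) (by rw [ea]; simpa using w1) (by rw [eb]; simpa using v1)
    (by rw [ea, eb]; simpa using vw.symm)
  have h6 := card_inf_mul_relIndex (𝐂₁ z) (D ⊔ zpowers a ⊔ zpowers b)
  have h7 := card_le (le_inf cD (le_sup_left.trans le_sup_left : D ≤ D ⊔ zpowers a ⊔ zpowers b))
  have h8 := card_mul_relIndex lM
  have h9 := relIndex_pos (D ⊔ zpowers a ⊔ zpowers b) U
  generalize D ⊔ zpowers a ⊔ zpowers b = M at *
  have c12 : 12 ≤ ♯M := by nlinarith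
  obtain ⟨g, -, hg⟩ := (noTwo_of_perf h.sh.perf).thompson (X := M) hS (by
    have : M.relIndex U ≤ 2 := by nlinarith
    interval_cases M.relIndex U <;> simp) h.iz trivial
  have := h.small (h.iz.conj g) (h.nsz g) (le_cent1_iff.2 (aM hg)) (hU.pi.le lM)
  omega

end Cf

end CF.Perm.Chn
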