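import Cfsg.Agent.Perm.Ch8

/-!
# Short chains: the main case
-/

set_option autoImplicit false
set_option linter.unusedSectionVars false

namespace CF.Perm.Chn
open Subgroup Cfsg CF.BG CF.Bender CF.PG CF.ZD
open scoped ArithmeticFunction.Omega commutatorElement

variable {G : Type*} [Group G] [Finite G]
variable {A B C D E H K L M N P Q R S T U V Y Z : Subgroup G} {k m n r : ℕ}
  {a b c g q t u v w x y z : G}

theorem St.inv (s : St T x) : St T x⁻¹ :=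
  ⟨s.pi, inv_mem s.n, fun e => s.nm (inv_mem_iff.1 e), mul_inv_rev x x ▸ inv_mem s.sq⟩

theorem Dh.rank (d : Dh D a c) (l : V ≤ D) (e : ∀ x ∈ V, x * x = 1) : ♯V ≤ 4 := by
  have h1 := card_inf_mul_relIndex (zpowers a) V
  have h2 := relIndex_le_of_le_right l (relIndex_ne_zero' (zpowers a) D)
  have h3 := card_le (fun x hx => (mem_zp d.u.iv).2 (d.u.uniq hx.1 (e x hx.2)) :
    zpowers a ⊓ V ≤ zpowers c)
  rw [d.u.iv.card] at h3
  rw [d.idx] at h2
  nlinarith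

theorem zsq (i : Iv z) (c : v ∈ 𝐂₁ z) (e : v * v = 1) : z * v * (z * v) = 1 := by
  rw [mul_assoc, ← mul_assoc v, mem_cent1.1 c, mul_assoc, e, mul_one, i.sq]

/-- the main configuration -/
structure Cm (k : ℕ) (z x w : G) (T K D : Subgroup G) : Prop extends Cf k z T (zpowers z) K D where
  s : St T x
  i : zpowers z ⊓ D = ⊥
  nc : ¬ T ≤ 𝐂 D
  wD : w ∈ D
  iw : Iv w
  u : ∀ y ∈ D, y ∈ 𝐂 T → y = 1 ∨ y = w
  c4 : ♯T ≤ 4 * ♯D

namespace Cm
variable (h : Cm k z x w T K D)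
include h

theorem fw : 𝐍 T ≤ 𝐂₁ w := h.w_der h.i h.c4 h.nc h.u
theorem sw : Sol (𝐂₁ w) := h.sol1 h.s h.iw ((sup_le (le_norm_self T) (zpowers_le.2 h.s.n)).trans h.fw)
theorem cD : D ≤ 𝐂₁ z := h.DT.trans h.Tz
theorem c0' : ♯(zpowers z ⊔ D) = 2 * ♯D := by rw [h.c0 h.i, h.iz.card]
theorem n0 : zpowers z ⊔ D ⊴ T := h.nQ.sup h.nD
theorem wc : w ∈ 𝐂 T := le_cent1_iff.1 ((le_norm_self T).trans h.fw)

theorem cE (l : V ≤ D) (k : IsKleinFour V) : ♯(zpowers z ⊔ V) = 8 := by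
  rw [card_sup_of_inf_bot (.inr (l.trans h.nQD)) (eq_bot_mono h.i (inf_le_inf_left _ l)), h.iz.card,
    klein_card k]

theorem inv : Cm k z x⁻¹ w T K D := { h with s := h.s.inv }

variable (d : Dh D a c)
include d

theorem ln' (l : V ≤ D) (k : IsKleinFour V) : 𝐍 (zpowers z ⊔ V) ≤ 𝐂₁ z := by
  by_contra n
  obtain ⟨-, -, h1, h2, h3⟩ := h.ln d (fun _ => h.solD d h.wD h.iw h.sw) k l n
  have lE : zpowers z ⊔ V ≤ T := sup_le h.QT (l.trans h.DT)
  obtain ⟨y, hy, s⟩ := exists_st h.pT (lt_of_le_of_ne lE fun e => h.nc (by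
    have := (abel_zpowers z).sup (klein_abel k) (cent_symm (cent_zpowers z ▸ l.trans h.cD))
    rw [e] at this
    exact this.cent le_rfl h.DT))
  refine h.sh.f2 (h2.mono h1) ?_
  rw [← card_inf_mul_relIndex (𝐂₁ z), h3]
  exact Nat.mul_dvd_mul_right (Nat.Coprime.mul_dvd_of_dvd_of_dvd (m := 16) (n := 3) (by norm_num)
    (Dvd.dvd.trans (by rw [s.card, h.cE l k]) (card_dvd (le_inf (sup_le (lE.trans h.Tz)
      (zpowers_le.2 (h.Tz hy))) (sup_le (le_norm_self _) (zpowers_le.2 s.n)))))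
    ((d.three h.nt h.sD k (l.trans h.DK)).trans (card_dvd (h.nKV d)))) 4

theorem nE (l : V ≤ D) (k : IsKleinFour V) : ¬ cj x (zpowers z ⊔ V) ≤ zpowers z ⊔ D := by
  intro e
  have c8 : ♯(cj x (zpowers z ⊔ V)) = 8 := by rw [card_cj, h.cE l k]
  have sq : ∀ y ∈ cj x (zpowers z ⊔ V), y * y = 1 := fun y hy => by
    obtain ⟨y, hy', rfl⟩ := mem_cj_iff.1 hy
    rw [conj_mul, conj_eq_one_iff]
    refine (mem_zsup h.iz (l.trans h.cD) hy').elim (klein_sq k) fun e => ?_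
    rw [← mul_inv_cancel_left z y]
    exact zsq h.iz (h.cD (l e)) (klein_sq k e)
  have nN : 𝐍 (cj x (zpowers z ⊔ V)) ≤ 𝐂₁ (x * z * x⁻¹) := by
    rw [← cj_norm, ← cj_cent1]; exact cj_mono x (h.ln' d l k)
  have tE : x * z * x⁻¹ ∈ cj x (zpowers z ⊔ V) := conj_mem_cj.2 (mem_sup_left (mem_zpowers z))
  generalize cj x (zpowers z ⊔ V) = E at *
  have k' : IsKleinFour ↥(D ⊓ E) := CF.Invol.isKleinFour_iff.2 ⟨le_antisymm
    (d.rank inf_le_left fun y hy => sq y hy.2) (by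
      have h1 := card_inf_mul_relIndex D E
      have h2 := relIndex_le_of_le_right e (relIndex_ne_zero' D _)
      have h3 := card_mul_relIndex (le_sup_right (a := zpowers z) (b := D))
      have := card_pos' D
      rw [h.c0'] at h3
      have : D.relIndex (zpowers z ⊔ D) = 2 := by nlinarith
      nlinarith), fun y hy => sq y hy.2⟩
  have dec : ∀ y ∈ E, y ∈ D ⊓ E ∨ z⁻¹ * y ∈ D ⊓ E := fun y hy =>
    (mem_zsup h.iz h.cD (e hy)).imp (fun e => ⟨e, hy⟩) fun e => (d.klein k' inf_le_left).2.2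
      (mem_inf.2 ⟨e, mul_mem (inv_mem (cent_anti inf_le_left (le_cent1_iff.1 h.cD)))
        (cent_anti inf_le_right (abel_of_sq sq hy))⟩)
  have eE : E = zpowers z ⊔ D ⊓ E := eq_of_card_eq (fun y hy => (dec y hy).elim mem_sup_right
    fun e => by simpa using mul_mem_sup (mem_zpowers z) e) (by rw [c8, h.cE inf_le_left k'])
  have l' := (h.nKV d (V := D ⊓ E)).trans (inf_le_inf_left _ (eE ▸ nN))
  rcases dec _ tE with e | e
  · exact d.mv h.nt h.sD k' (inf_le_left.trans h.DK) e (h.iz.conj x).ne (l'.trans inf_le_right)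
  · refine d.mv h.nt h.sD k' (inf_le_left.trans h.DK) e (fun e => h.tz h.s (inv_mul_eq_one.1 e).symm)
      fun g hg => cent_mul' ?_ (l' hg).2
    rw [h.iz.inv]; exact (l' hg).1

theorem c4' : ♯T = 4 * ♯D := by
  obtain ⟨V, l, k⟩ := d.exk
  have lt : zpowers z ⊔ D < T := lt_of_le_of_ne h.l0 fun e => h.nE d l k
    (e ▸ cj_le_of_norm h.s.n (sup_le h.QT (l.trans h.DT)))
  obtain ⟨y, hy, s⟩ := exists_st h.pT lt
  have := card_le (sup_le h.l0 (zpowers_le.2 hy))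
  have := h.c4
  rw [s.card, h.c0'] at *
  omega

theorem i0 : (zpowers z ⊔ D).relIndex T = 2 := by
  have := card_mul_relIndex h.l0
  have := card_pos' D
  rw [h.c0', h.c4' d] at *
  nlinarith

theorem beta (hu : u ∈ T ⊓ 𝐂 D) (nu : u ∉ zpowers z ⊔ D) : False := by
  have e : ♯D ≠ 4 := fun e => nu (h.ab' h.i (klein_abel (d.abel e)) hu)
  have d8 : 2 ^ 3 ∣ ♯D := card_two_le d.pi (lt_of_le_of_ne d.card e.symm)
  have c4 := h.c4' d
  have uc : u ∈ 𝐂 T := mem_cent.2 fun t ht => by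
    have l : zpowers z ⊔ D ≤ 𝐂₁ u := sup_le (zpowers_le.2 (mem_cent1_comm.1 (h.Tz hu.1)))
      (le_cent1_iff.2 hu.2)
    refine mem_cent1.1 ?_
    by_cases n : t ∈ zpowers z ⊔ D
    · exact l n
    · simpa using mul_mem (l (mul_mem_of_relIndex_two (h.i0 d) ht hu.1 n nu))
        (inv_mem (self_mem_cent1 u))
  have z8 : ♯(𝐙 T) ≤ 8 := by
    have h1 := card_inf_mul_relIndex (zpowers z ⊔ D) (𝐙 T)
    have h2 := relIndex_le_of_le_right (inf_le_left (b := 𝐂 T)) (relIndex_ne_zero' (zpowers z ⊔ D) T)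
    have h3 := card_le (fun y hy => by
      rcases h.cz h.i rfl h.u hy.1 hy.2.2 with rfl | rfl | rfl | rfl
      exacts [one_mem _, mem_sup_right (mem_zpowers _), mem_sup_left (mem_zpowers _),
        mul_mem_sup (mem_zpowers _) (mem_zpowers _)] : (zpowers z ⊔ D) ⊓ 𝐙 T ≤ zpowers z ⊔ zpowers w)
    have h4 := Nat.le_of_dvd (Nat.mul_pos (card_pos' _) (card_pos' _))
      (card_sup_dvd (H := zpowers z) (.inr (zpowers_le.2 (h.nQD h.wD))))
    rw [h.iz.card, h.iw.card] at h4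
    rw [h.i0 d] at h2
    nlinarith
  obtain ⟨V, l, k⟩ := d.exk
  have lK := l.trans h.DK
  have wV : w ∈ V := (d.center e h.wD (cent_anti h.DT h.wc)).resolve_left h.iw.ne ▸ (d.klein k l).1
  have nK : T ⊔ K ≤ 𝐍 K := sup_le h.nK (le_norm_self K)
  have lU : T ⊓ 𝐂 V ≤ (T ⊔ K) ⊓ 𝐂 V := inf_le_inf_right _ le_sup_left
  have VU : V ≤ T ⊓ 𝐂 V := le_inf (l.trans h.DT) (klein_abel k)
  have uU : u ∈ T ⊓ 𝐂 V := ⟨hu.1, cent_anti l hu.2⟩
  have sU : Syl 2 (T ⊓ 𝐂 V) ((T ⊔ K) ⊓ 𝐂 V) := syl_of_max lU h.pT.inf_left fun P lP p l' => by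
    refine (eq_of_card_le l' ?_).symm
    have h1 := card_inf_mul_relIndex K P
    have h2 := card_le (d.self_cent h.nt h.sD k (le_inf lK (VU.trans l'))
      (inf_le_inf_left _ (lP.trans inf_le_right)) p.inf_right)
    have h3 := relIndex_le_of_le_right (lP.trans inf_le_left) (relIndex_ne_zero' K _)
    have h4 := card_mul_relIndex h.DT
    have h5 := card_pos' D
    have h6 : 2 ^ 4 ≤ ♯(T ⊓ 𝐂 V) := Nat.le_of_dvd (card_pos' _) (card_two_le h.pT.inf_left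
      ((h.cE l k).ge.trans_lt (card_lt (lt_of_le_of_ne (sup_le (zpowers_le.2 ⟨h.zT,
        le_cent1_iff.1 (l.trans h.cD)⟩) VU) fun e => nu (sup_le_sup_left l _ (e.ge uU))))))
    rw [relIndex_sup_norm (.inl h.nK), ← inf_relIndex_left T, h.hD,
      show D.relIndex T = 4 by nlinarith] at h3
    rw [klein_card k] at h2
    nlinarith
  obtain ⟨g, hg, n⟩ := SetLike.not_le_iff_exists.1 (d.mv h.nt h.sD k lK wV h.iw.ne)
  obtain ⟨b, hb, j, hj, rfl⟩ := sU.syl_frattini (M := (T ⊔ K) ⊓ 𝐍 V) ⟨inf_le_inf_left _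
    (cent_le_norm V), norm_inf (norm_of_le inf_le_left) (inf_le_right.trans (norm_le_norm_cent V))⟩
    (x := g) ⟨mem_sup_right hg.1, hg.2⟩
  replace n : j ∉ 𝐂₁ w := fun e => n (mul_mem (cent_le_cent1 wV hb.2) e)
  have v0 : u⁻¹ * (j * u * j⁻¹) ∈ V := by
    have h1 : ⁅T ⊔ K, T ⊔ K⁆ ≤ K := (abel_qt_iff nK).1 (by
      rw [qt_sup_right h.nK]; exact (abel_qt_iff h.nK).2 ((h.der_le h.i h.c4).trans h.DK))
    have h2 := mul_mem (inv_mem uU) (conj_mem_of_norm hj.2 uU)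
    refine (d.klein k l).2.2 ⟨h.hD.le ⟨h2.1, h1 ?_⟩, h2.2⟩
    simpa [commutatorElement_def, mul_assoc] using
      commutator_mem_commutator (inv_mem (mem_sup_left hu.1)) hj.1.1
  obtain ⟨y, hy, s⟩ := exists_st d.pi (lt_of_le_of_ne l fun e' => e (e' ▸ klein_card k))
  have ny : y ∉ 𝐂 V := fun e => s.nm ((d.klein k l).2.2 ⟨hy, e⟩)
  have cc : ∀ {r}, y ∈ 𝐂₁ r → j * y * j⁻¹ ∈ 𝐂₁ (j * r * j⁻¹) := fun e => by
    rw [← cj_cent1]; exact conj_mem_cj.2 e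
  have yw := le_cent1_iff.2 h.wc (h.DT hy)
  have w1 := conj_mem_of_norm hj.1.2 wV
  have ww : w ≠ j * w * j⁻¹ := fun e => n (mem_cent1.2 (mul_inv_eq_iff_eq_mul.1 e.symm))
  have y1 := cc yw
  have y2 := cc (le_cent1_iff.2 uc (h.DT hy))
  have yK := conj_mem_of_norm (nK hj.1.1) (h.DK hy)
  have yN := conj_mem_of_norm (le_norm_self _ hj.1.2) s.n
  have ny' : j * y * j⁻¹ ∉ 𝐂 V := fun e => ny (by
    simpa [mul_assoc] using conj_mem_of_norm' (norm_le_norm_cent V hj.1.2) e)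
  have w1' := conj_ne_one h.iw.ne j
  rw [← mul_inv_cancel_left u (j * u * j⁻¹)] at y2
  generalize j * y * j⁻¹ = y', j * w * j⁻¹ = w', u⁻¹ * (j * u * j⁻¹) = v at *
  obtain ⟨r, hr, nr, cr⟩ : ∃ r ∈ 𝐙 T, r ∉ zpowers z ⊔ D ∧ y' ∈ 𝐂₁ r := by
    have k1 : u * w ∈ 𝐙 T ∧ u * w ∉ zpowers z ⊔ D := ⟨⟨mul_mem hu.1 (h.DT h.wD), mul_mem uc h.wc⟩,
      fun e => nu (by simpa using mul_mem e (inv_mem (mem_sup_right h.wD)))⟩
    have y3 := cent_mul' y2 y1
    rcases klein_cases k wV w1 h.iw.ne w1' ww v0 with rfl | rfl | rfl | rfl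
    · exact ⟨u, ⟨hu.1, uc⟩, nu, by simpa using y2⟩
    · exact ⟨_, k1.1, k1.2, y2⟩
    · exact ⟨u, ⟨hu.1, uc⟩, nu, by simpa [mul_assoc, klein_sq k w1] using y3⟩
    · exact ⟨_, k1.1, k1.2, by simpa [mul_assoc, klein_sq k w1] using y3⟩
  have nF : 𝐙 T ⊓ 𝐂₁ y' ⊴ T := normalIn_of_le_center inf_le_left
  have c4F : 2 ^ 2 ≤ ♯(𝐙 T ⊓ 𝐂₁ y') := Nat.le_of_dvd (card_pos' _) (card_two_le (h.pT.le nF.le)
    (h.iz.card.ge.trans_lt (card_lt (lt_of_le_of_ne (zpowers_le.2 ⟨⟨h.zT, le_cent1_iff.1 h.Tz⟩,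
      mem_cent1_comm.1 (h.Kc h.zQ yK)⟩) fun e => nr (mem_sup_left (e.ge ⟨hr, mem_cent1_comm.1 cr⟩))))))
  obtain ⟨p, hp, ip, lp⟩ := h.s.fix nF fun e => by
    have := card_le (sup_le (inf_le_left (b := 𝐂₁ y')) (cj_le_of_norm (norm_center T h.s.n)
      (inf_le_left (b := 𝐂₁ y'))))
    rw [card_sup_of_inf_bot (.inl (nF.le.trans (h.s.normal nF).norm)) e, card_cj] at this
    nlinarith
  refine h.sh.f2' (h.sol1 h.s ip lp) lp (by
    rw [h.s.card, c4, ← mul_assoc]; exact Nat.mul_dvd_mul_left 8 d8) ((three_dvd k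
      (inf_le_right (a := 𝐂₁ p)) fun r hr r1 lr => ?_).trans (card_dvd inf_le_left))
  by_cases e : r = w
  · exact ny' (klein_cent k wV w1 h.iw.ne w1' ww (e ▸ lr ⟨mem_cent1_comm.1 hp.1.2, yN⟩) y1)
  · exact ny (klein_cent k hr wV r1 h.iw.ne e (lr ⟨lp (mem_sup_left (h.DT hy)), s.n⟩) yw)

theorem alpha (l : T ⊓ 𝐂 D ≤ zpowers z ⊔ D) : False := by
  have c4 := h.c4' d
  have i0 := h.i0 d
  have n0 := h.n0
  have zc := le_cent1_iff.1 h.Tz
  have cen : ∀ {y}, y ∈ T → y ∈ 𝐂 T → Iv y → ¬ Sol (𝐂₁ y) → y = z ∨ y = z * w := fun hy c i n => by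
    rcases h.cz h.i rfl h.u (l ⟨hy, cent_anti h.DT c⟩) c with e | e | e | e
    exacts [(i.ne e).elim, (n (e ▸ h.sw)).elim, .inl e, .inr e]
  have et := (cen (h.tT h.s) (h.tc h.s) (h.iz.conj x) (h.nsz x)).resolve_left (h.tz h.s)
  have wx : w ∈ cj x D := by
    rw [← mul_inv_cancel_right w x, ← mem_cent1.1 (h.fw h.s.n)]; exact conj_mem_cj.2 h.wD
  have nA := h.s.normal n0
  have iA : (cj x (zpowers z ⊔ D)).relIndex T = 2 := by
    rw [← i0, ← relIndex_cj x (zpowers z ⊔ D) T, cj_of_norm h.s.n]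
  have zA : z ∈ cj x (zpowers z ⊔ D) := by
    simpa [et] using mul_mem ((conj_mem_cj (g := x)).2 (mem_sup_left (T := D) (mem_zpowers z)))
      (inv_mem (cj_mono x le_sup_right wx))
  have nV : ∀ V ≤ D, IsKleinFour V → ¬ V ≤ cj x (zpowers z ⊔ D) := fun V lV k e =>
    h.inv.nE d lV k (le_cj_iff.1 (sup_le (zpowers_le.2 zA) e))
  obtain ⟨a, c, d, eA⟩ := d.regen (A := cj x (zpowers z ⊔ D)) (by
    obtain ⟨V, lV, k⟩ := d.exk
    exact ((Nat.dvd_prime Nat.prime_two).1 (iA ▸ relIndex_dvd_of_norm h.DT nA.norm)).resolve_left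
      fun e => nV V lV k (lV.trans (relIndex_eq_one.1 e))) nV
  have xx : cj x (cj x (zpowers z ⊔ D)) = zpowers z ⊔ D := h.s.cj_cj n0.norm
  have DA : cj x D ≤ cj x (zpowers z ⊔ D) := cj_mono x le_sup_right
  have mx : ∀ {y}, x * y * x⁻¹ ∈ cj x (zpowers z ⊔ D) ↔ y ∈ zpowers z ⊔ D := conj_mem_cj
  have m0 : ∀ {y}, y ∈ zpowers z ⊔ D → y ∈ D ∨ z⁻¹ * y ∈ D := mem_zsup h.iz h.cD
  have l0 := h.l0
  have c0 := h.c0'
  have D0 : D ≤ zpowers z ⊔ D := le_sup_right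
  have z0 : z ∈ zpowers z ⊔ D := mem_sup_left (mem_zpowers z)
  generalize cj x (zpowers z ⊔ D) = A at *
  generalize zpowers z ⊔ D = B at *
  have mx' : ∀ {y}, x * y * x⁻¹ ∈ B ↔ y ∈ A := by rw [← xx]; exact conj_mem_cj
  have aA : ∀ {y}, y ∈ D → (y ∈ A ↔ y ∈ zpowers a) := fun hy =>
    ⟨fun e => eA.le ⟨hy, e⟩, fun e => (eA.ge e).2⟩
  have zi : ∀ {y}, z⁻¹ * y ∈ A ↔ y ∈ A := mul_mem_cancel_left (inv_mem zA)
  have ec : c = w := (h.u c d.cD (mem_cent.2 fun t ht => d.u.cent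
    (eA ▸ (h.nD.inf nA).norm ht))).resolve_left d.u.iv.ne
  subst ec
  have sqB : ∀ {y}, y ∈ B → y ∉ A → y * y = 1 := fun {y} hy n => (m0 hy).elim
    (fun e => d.sq y e (mt (aA e).2 n)) fun e => mul_inv_cancel_left z y ▸ zsq h.iz (h.cD e)
      (d.sq _ e (mt (aA e).2 (mt zi.1 n)))
  have sqA : ∀ {y}, y ∈ A → y ∉ B → y * y = 1 := fun {y} hy n => by
    simpa [conj_mul] using sqB (mx'.2 hy) (mt mx.1 n)
  obtain ⟨v, hv, nv⟩ := d.ex
  have vA := mt (aA hv).1 nv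
  have iv := d.iv hv nv
  have aB := D0 d.mem
  have aA' := (aA d.mem).2 (mem_zpowers a)
  have ca : ∀ {r}, r ∈ T → r ∉ B → r ∉ A → r * v * (r * v) = 1 ∧ a ∈ 𝐂₁ r := fun {r} hr n n' => by
    have h1 := mul_mem_of_relIndex_two iA hr (h.DT hv) n' vA
    have h2 : r * v ∉ B := fun e => n ((mul_mem_cancel_right (D0 hv)).1 e)
    refine ⟨sqA h1 h2, mem_cent1.2 ?_⟩
    have h3 := sqA (mul_mem aA' h1) fun e => h2 ((mul_mem_cancel_left aB).1 e)
    have h4 := d.inv hv nv (mem_zpowers a)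
    calc a * r = a * (r * v) * (a * (r * v)) * (v * a * (r * v))⁻¹ := by group
      _ = r * (v * a⁻¹ * v⁻¹) := by
        rw [h3, one_mul, mul_inv_rev, inv_eq_of_mul_eq_one_right (sqA h1 h2), iv.inv, mul_inv_rev,
          iv.inv]
        group
      _ = r * a := by rw [← conj_inv, h4, inv_inv]
  have noinv : ∀ {r}, r ∈ T → r * r = 1 → r ∈ B ∨ r ∈ A := fun {r} hr r2 => by
    by_contra! n
    obtain ⟨h1, h2⟩ := ca hr n.1 n.2
    have h3 : v ∈ 𝐂₁ r := mem_cent1.2 (by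
      rw [← inv_eq_of_mul_eq_one_right h1, mul_inv_rev, iv.inv, inv_eq_of_mul_eq_one_right r2])
    refine n.1 (l ⟨hr, le_cent1_iff.1 fun y hy => ?_⟩)
    by_cases e : y ∈ zpowers a
    · exact zpowers_le.2 h2 e
    · simpa using mul_mem (zpowers_le.2 h2 (d.mul hy hv e nv)) (inv_mem h3)
  have nD' := h.s.normal h.nD
  have yD := (conj_mem_cj (g := x)).2 hv
  have yB := mt mx'.1 vA
  have ax : a ∈ cj x D := by
    have iy := iv.conj x
    generalize x * v * x⁻¹ = y at *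
    have mT := mul_mem (h.DT hv) (nD'.le yD)
    have mB : v * y ∉ B := fun e => yB ((mul_mem_cancel_left (D0 hv)).1 e)
    have mA : v * y ∉ A := fun e => vA ((mul_mem_cancel_right (DA yD)).1 e)
    have m2 : v * y * (v * y) ∈ D ⊓ cj x D := by
      have := h.nD.comm_le_inf nD' (commutator_mem_commutator hv yD)
      rwa [commutatorElement_def, iv.inv, iy.inv, mul_assoc (v * y)] at this
    obtain ⟨j, hj⟩ := (mem_powers_iff_mem_zpowers).2 ((aA m2.1).1 (DA m2.2))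
    obtain ⟨i, rfl | rfl⟩ := Nat.even_or_odd' j
    · have c : Commute (v * y) (a ^ i)⁻¹ := (Commute.pow_left (mem_cent1.1 (ca mT mB mA).2) i).symm.inv_right
      refine ((noinv (mul_mem mT (inv_mem (pow_mem (l0 aB) i))) ?_).elim
        (fun e => mB ((mul_mem_cancel_right (inv_mem (pow_mem aB i))).1 e))
        fun e => mA ((mul_mem_cancel_right (inv_mem (pow_mem aA' i))).1 e)).elim
      rw [← pow_two, c.mul_pow, pow_two, ← hj]
      group
    · obtain ⟨n, hn⟩ := d.u.pi.card_pow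
      refine zpowers_le.2 m2.2 (hj ▸ mem_zpowers_pow_iff.2 ?_)
      rw [← Nat.card_zpowers, hn]
      exact (Nat.coprime_two_right.2 (odd_two_mul_add_one i)).pow_right n
  have nM := h.nD.sup nD'
  have cM := card_sup_mul_card_inf (H := D) (.inl (h.DT.trans nD'.norm))
  have ca' := card_mul_relIndex d.le
  have cI := card_le (le_inf d.le (zpowers_le.2 ax))
  have p0 := card_pos' (zpowers a)
  rw [card_cj] at cM
  rw [d.idx] at ca'
  have lt : D < D ⊔ cj x D := left_lt_sup.2 fun e => yB (D0 (e yD))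
  have zM : z ∉ D ⊔ cj x D := fun e => yB ((eq_of_card_le (H := B) (fun y hy => (m0 hy).elim
    mem_sup_left fun e' => by simpa using mul_mem e (mem_sup_left e')) (by nlinarith)).ge
      (mem_sup_right yD))
  have n1 : T ⊔ zpowers x ≤ 𝐍 (D ⊔ cj x D) := sup_le nM.norm (zpowers_le.2 (cj_eq_self.1
    (by rw [cj_sup, h.s.cj_cj h.nD.norm, sup_comm])))
  have dM := (abel_qt_iff n1).1 (abel_of_card_le (h.s.pi1.qt _) (by
    obtain ⟨j, hj⟩ := card_dvd lt.le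
    have h1 := card_lt lt
    have h2 := card_mul_relIndex (nM.le.trans (le_sup_left (b := zpowers x)))
    have h3 : 2 ≤ j := by rw [hj] at h1; nlinarith
    rw [card_qt n1]
    rw [h.s.card, hj] at h2
    by_contra! h4
    have := Nat.mul_le_mul h3 h4
    nlinarith))
  have out : ∀ {s y}, s ∈ T ⊔ zpowers x → s ∉ T → s ∈ 𝐂₁ y → (y ∈ A ↔ y ∈ B) ∧ y ≠ z :=
    fun {s y} hs n e => by
    have h1 := (h.s.mem hs).resolve_left n
    have h2 : s * x⁻¹ * (x * y * x⁻¹) * (s * x⁻¹)⁻¹ = y := by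
      rw [show s * x⁻¹ * (x * y * x⁻¹) * (s * x⁻¹)⁻¹ = s * y * s⁻¹ by group, mem_cent1.1 e,
        mul_inv_cancel_right]
    refine ⟨⟨fun k => ?_, fun k => ?_⟩, ?_⟩
    · exact h2 ▸ n0.conj_mem h1 (mx'.2 k)
    · exact h2 ▸ nA.conj_mem h1 (mx.2 k)
    · rintro rfl
      exact h.xz h.s (by simpa using mul_mem (inv_mem (h.Tz h1)) e)
  have key : ∀ {y}, y ∈ T ⊔ zpowers x → Iv y → ¬ Sol (𝐂₁ y) → ♯T ≤ ♯(𝐂₁ y ⊓ (T ⊔ zpowers x)) →
      y = z ∨ y = z * c := fun {y} hy iy ns cy => by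
    by_cases yT : y ∈ T
    · by_cases e : 𝐂₁ y ⊓ (T ⊔ zpowers x) ≤ T
      · exact cen yT (le_cent1_iff.1 ((eq_of_card_le e cy).ge.trans inf_le_left)) iy ns
      obtain ⟨s, hs, n⟩ := SetLike.not_le_iff_exists.1 e
      have h1 := (out hs.2 n hs.1).1
      have h2 := (noinv yT iy.sq).elim id h1.1
      rcases m0 h2 with e | e
      · exact (ns (d.u.eq ((aA e).1 (h1.2 h2)) iy ▸ h.sw)).elim
      · refine (d.u.uniq ((aA e).1 (zi.2 (h1.2 h2))) ?_).imp (fun e => (inv_mul_eq_one.1 e).symm)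
          fun e => by rw [← e, mul_inv_cancel_left]
        rw [h.iz.inv]
        exact zsq h.iz (h.Tz yT) iy.sq
    · have k := fun {r} (e : r ∈ 𝐂₁ y) => out hy yT (mem_cent1_comm.1 e)
      have h1 := card_inf_mul_relIndex (𝐂₁ y) (T ⊔ zpowers x)
      have h2 := relIndex_pos (𝐂₁ y) (T ⊔ zpowers x)
      have h3 := card_pos' T
      rw [h.s.card] at h1
      refine (vA ((mul_mem_cancel_left zA).1 ((k (two_mul' (B := T ⊔ zpowers x) ?_ (mem_sup_left h.zT)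
        (mem_sup_left (h.DT hv)) (fun e => (k e).2 rfl) fun e => vA ((k e).1.2 (D0 hv)))).1.2
        (mul_mem z0 (D0 hv))))).elim
      have : (𝐂₁ y).relIndex (T ⊔ zpowers x) ≤ 2 := by nlinarith
      interval_cases (𝐂₁ y).relIndex (T ⊔ zpowers x) <;> simp
  have key' : ∀ g, cj g T ≤ T ⊔ zpowers x → g * z * g⁻¹ = z ∨ g * z * g⁻¹ = z * c := fun g e =>
    key (e (conj_mem_cj.2 h.zT)) (h.iz.conj g) (h.nsz g)
      (card_cj g T ▸ card_le (le_inf (cj_cent1 g z ▸ cj_mono g h.Tz) e))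
  obtain ⟨S, hS, lS⟩ := exists_syl_le le_top h.s.pi1
  rcases lS.eq_or_lt with rfl | lt
  · refine zM (xt hS dM h.iz.sq (h.sh.perf.ge trivial) (mem_sup_left h.zT) le_top h.pT h.zT h.Tz
      fun g _ e => ?_)
    rcases key' g e with e | e <;> rw [e]
    exacts [inv_mul_cancel z ▸ one_mem _, by simpa using mem_sup_left h.wD]
  obtain ⟨y, hy, s⟩ := exists_st hS.pi lt
  have eT := h.sT.eq_of_le (le_inf h.Tz (le_sup_left.trans lS)) inf_le_left hS.pi.inf_right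
  have hx := mem_sup_right (S := T) (mem_zpowers x)
  rcases key' y (cj_le_of_norm s.n le_sup_left) with e | e
  · exact s.nm (mem_sup_left (eT.ge ⟨mem_cent1.2 (mul_inv_eq_iff_eq_mul.1 e), hy⟩))
  · refine s.nm ((mul_mem_cancel_left (inv_mem hx)).1 (mem_sup_left (eT.ge
      (mem_inf.2 ⟨mem_cent1.2 ?_, mul_mem (inv_mem (lS hx)) hy⟩))))
    rw [← mul_inv_eq_iff_eq_mul, ← mul_left_cancel_iff (a := x), ← mul_right_cancel_iff (a := x⁻¹),
      et, ← e]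
    group

theorem false : False := by
  by_cases l : T ⊓ 𝐂 D ≤ zpowers z ⊔ D
  · exact h.alpha d l
  · obtain ⟨u, hu, n⟩ := SetLike.not_le_iff_exists.1 l
    exact h.beta d hu n

end Cm

theorem Cf.st (h : Cf k z T Q K D) (s : St T x) : False := by
  by_cases i : Q ⊓ D = ⊥
  swap
  · exact h.zc_st i s
  rcases h.tyD i with ⟨a, c, d⟩ | ⟨e, e'⟩
  swap
  · exact h.e8 s i e e'
  by_cases q : ♯Q ≤ 2
  swap
  · exact h.q4 s i d (not_le.1 q)
  obtain rfl := h.eqQ i q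
  by_cases nc : T ≤ 𝐂 D
  · exact h.caseA d s i rfl nc
  obtain ⟨w, hw, iw, -, u⟩ := h.zw i d nc
  refine Cm.false ⟨h, s, i, nc, hw, iw, u, ?_⟩ d
  have d4 := d.card
  by_cases e : ♯D = 4
  · have h1 := card_le_two_mul (klein_idx (d.abel e) h.pT h.nD.norm)
    have h2 := card_le (h.ab' i (klein_abel (d.abel e)))
    rw [h.c0 i, h.iz.card, inf_comm] at h2
    omega
  have : 8 ≤ ♯D := Nat.le_of_dvd (card_pos' D) (card_two_le (n := 2) d.pi (by omega))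
  by_cases e : ♯D ≤ 8
  · have := h.c32 (by rwa [relIndex_of_inf_bot i])
    omega
  have : 16 ≤ ♯D := Nat.le_of_dvd (card_pos' D) (card_two_le (n := 3) d.pi (by omega))
  have := h.c64
  omega

theorem Cf.out (h : Cf k z T Q K D) : Syl 2 T ⊤ ∧ k ≤ 7 ∧ ((Abel T ∧ (k ≤ 6 → Ty T)) ∨
    PRankLE 2 2 G ∧ (k ≤ 6 → ∃ w, U1 T w)) := by
  obtain ⟨S, hS, l⟩ := exists_syl_le le_top h.pT
  rcases l.eq_or_lt with rfl | lt
  · refine ⟨hS, h.k7 hS, ?_⟩
    by_cases i : Q ⊓ D = ⊥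
    exacts [.inl (h.nz_syl i hS), .inr (h.zc_syl i hS)]
  · obtain ⟨x, -, s⟩ := exists_st hS.pi lt
    exact (h.st s).elim

end CF.Perm.Chn
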