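import Cfsg.Agent.Perm.Cs1
import Cfsg.Agent.S0205
import Cfsg.Agent.S4355

/-! Simple groups whose class sizes have at most two prime divisors. -/

set_option autoImplicit false
set_option linter.unusedSectionVars false

namespace CF.Cs
open Cfsg Subgroup CF.Char CF.BlockB CF.Transfer

variable {G : Type*} [Group G] [Finite G]

noncomputable abbrev ci (x : G) : ℕ := (centralizer ({x} : Set G)).index

noncomputable abbrev ee (R : Subgroup G) : ℕ := (centralizer (R : Set G)).relIndex (normalizer (R : Set G))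

def H2 (G : Type*) [Group G] : Prop := ∀ x : G, (ci x).primeFactors.card ≤ 2

theorem exists_sylow_le {r : ℕ} [hr : Fact r.Prime] {H : Subgroup G} (h : ¬ r ∣ H.index) :
    ∃ R : Sylow r G, (R : Subgroup G) ≤ H := by
  obtain ⟨S⟩ : Nonempty (Sylow r H) := inferInstance
  refine ⟨(S.isPGroup'.map H.subtype).toSylow fun e => ?_, map_subtype_le _⟩
  rw [index_map_subtype] at e
  exact (hr.out.dvd_mul.1 e).elim S.not_dvd_index h

theorem ty_of_le {r : ℕ} [Fact r.Prime] (R : Sylow r G) {H : Subgroup G} (h : (R : Subgroup G) ≤ H) : ¬ r ∣ H.index :=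
  fun e => R.not_dvd_index (e.trans (index_dvd_of_le h))

theorem ci_dvd {x y : G} (h : y ∈ zpowers x) : ci y ∣ ci x := index_dvd_of_le fun g hg => by
  obtain ⟨k, rfl⟩ := h
  exact mem_centralizer_singleton_iff.2 ((show Commute g x from mem_centralizer_singleton_iff.1 hg).zpow_right k)

theorem count {r : ℕ} [Fact r.Prime] (φ : G ≃* G) (W : Sylow r G) :
    Nat.card {y : G // ∃ W' : Sylow r G, ∀ w ∈ W', φ (y * w * y⁻¹) = w} * ee (W : Subgroup G) ≤ Nat.card G := by
  classical
  have := Fintype.ofFinite G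
  have := Fintype.ofFinite (Sylow r G)
  have e1 : Nat.card {y : G // ∃ W' : Sylow r G, ∀ w ∈ W', φ (y * w * y⁻¹) = w} ≤
      Nat.card (Sylow r G) * Nat.card (centralizer ((W : Subgroup G) : Set G)) := by
    rw [Nat.card_eq_fintype_card, Fintype.card_subtype, Nat.card_eq_fintype_card (α := Sylow r G),
      ← Finset.card_univ, ← smul_eq_mul]
    refine le_trans (Finset.card_le_card fun y hy => ?_) (Finset.card_biUnion_le_card_mul Finset.univ
      (fun W' : Sylow r G => Finset.univ.filter fun y : G => ∀ w ∈ W', φ (y * w * y⁻¹) = w) _ fun W' _ => ?_)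
    · simpa using hy
    rcases (Finset.univ.filter fun y : G => ∀ w ∈ W', φ (y * w * y⁻¹) = w).eq_empty_or_nonempty with e | ⟨y₀, h₀⟩
    · rw [e]; simp
    obtain ⟨g, rfl⟩ := MulAction.exists_smul_eq G W W'
    rw [← Fintype.card_coe, ← Nat.card_eq_fintype_card]
    refine Nat.card_le_card_of_injective (fun y => ⟨g⁻¹ * y₀⁻¹ * y.1 * g, fun w hw => ?_⟩) fun a b e => ?_
    · have m : g * w * g⁻¹ ∈ g • W := ⟨w, hw, rfl⟩
      have := φ.injective (((Finset.mem_filter.1 y.2).2 _ m).trans ((Finset.mem_filter.1 h₀).2 _ m).symm)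
      calc _ = g⁻¹ * y₀⁻¹ * (y₀ * (g * w * g⁻¹) * y₀⁻¹) * y.1 * g := by group
        _ = _ := by rw [← this]; group
    · exact Subtype.ext (mul_left_cancel (mul_right_cancel (congrArg Subtype.val e)))
  refine (Nat.mul_le_mul_right _ e1).trans (le_of_eq ?_)
  rw [W.card_eq_index_normalizer, mul_assoc, ← Nat.card_congr (subgroupOfEquivOfLe (centralizer_le_normalizer
    ((W : Subgroup G) : Set G))).toEquiv, ee, relIndex, card_mul_index]
  exact index_mul_card _

theorem relIndex_dvd_ee (R : Subgroup G) : (center R).index ∣ ee R := by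
  have := relIndex_dvd_index_of_normal ((centralizer (R : Set G)).subgroupOf (normalizer (R : Set G)))
    (R.subgroupOf (normalizer (R : Set G)))
  rw [relIndex_subgroupOf le_normalizer] at this
  have e : center R = (centralizer (R : Set G)).subgroupOf R := by
    ext x
    simp only [mem_center_iff, mem_subgroupOf, mem_centralizer_iff, Subtype.ext_iff, coe_mul, Subtype.forall]
    rfl
  rw [e]; exact this

theorem sq_dvd_index_center {r : ℕ} [hr : Fact r.Prime] {P : Type*} [Group P] [Finite P] (hP : IsPGroup r P)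
    (h : ¬ IsMulCommutative P) : r ^ 2 ∣ (center P).index := by
  obtain ⟨k, hk⟩ := hP.index (center P)
  rw [hk]
  refine pow_dvd_pow _ (not_lt.1 fun l => h ?_)
  have : IsCyclic (P ⧸ center P) := isCyclic_of_card_dvd_prime (p := r) (by
    change (center P).index ∣ r
    rw [hk]; simpa using pow_dvd_pow r (Nat.le_of_lt_succ l))
  exact (QuotientGroup.mk' (center P)).isMulCommutative_of_isCyclic_of_ker_le_center (by simp)

structure SS (G : Type*) [Group G] : Prop where
  simple : IsSimpleGroup G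
  na : ¬ IsMulCommutative G
  h2 : H2 G

namespace SS
variable (h : SS G)
include h

theorem center_eq : center G = ⊥ := by
  have := h.simple
  exact (Normal.eq_bot_or_eq_top inferInstance).resolve_right fun e =>
    h.na ⟨⟨fun a b => mem_center_iff.1 (e ▸ mem_top b) a⟩⟩

theorem comm_eq : commutator G = ⊤ := by
  have := h.simple
  exact (Normal.eq_bot_or_eq_top inferInstance).resolve_left fun e =>
    h.na ⟨⟨fun a b => commutatorElement_eq_one_iff_mul_comm.1 (mem_bot.1 (e ▸ commutator_mem_commutator (mem_top a) (mem_top b)))⟩⟩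

theorem ns : ¬ Group.IsSolvable G := fun s => by
  have := h.simple
  exact h.na ⟨⟨IsSimpleGroup.comm_iff_isSolvable.2 s⟩⟩

theorem two_le_ee {r : ℕ} [Fact r.Prime] (hr : r ∣ Nat.card G) (R : Sylow r G) : 2 ≤ ee (R : Subgroup G) := by
  have : ee (R : Subgroup G) ≠ 0 := index_ne_zero_of_finite
  refine (Nat.two_le_iff _).2 ⟨this, fun e => R.ne_bot_of_dvd_card hr ?_⟩
  have l := relIndex_eq_one.1 e
  have := abelian_sylow_inf_commutator R (le_centralizer_iff_isMulCommutative.1 (le_normalizer.trans l))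
  rwa [h.comm_eq, inf_top_eq, commutator_comm, commutator_eq_bot_iff_le_centralizer.2 l] at this

theorem three_le_ee (T : Sylow 2 G) (h2 : 2 ∣ Nat.card G) : 3 ≤ ee (T : Subgroup G) := by
  have := h.two_le_ee h2 T
  by_cases c : IsMulCommutative (T : Subgroup G)
  · have : ¬ 2 ∣ ee (T : Subgroup G) := fun e => T.not_dvd_index ((e.trans (relIndex_dvd_of_le_left _
      (le_centralizer_iff_isMulCommutative.2 c))).trans (relIndex_dvd_index_of_le le_normalizer))
    omega
  · have := Nat.le_of_dvd (by omega) ((sq_dvd_index_center T.isPGroup' c).trans (relIndex_dvd_ee _))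
    omega

theorem two_dvd : 2 ∣ Nat.card G := by
  by_contra c
  exact h.ns (Cfsg.Agent.S0205.result (Nat.odd_iff.2 (Nat.two_dvd_ne_zero.1 c)))

theorem count_ty {r : ℕ} [Fact r.Prime] (R : Sylow r G) :
    Nat.card {x : G // ¬ r ∣ ci x} * ee (R : Subgroup G) ≤ Nat.card G := by
  refine le_trans (Nat.mul_le_mul_right _ (Nat.card_le_card_of_injective (Subtype.map id fun x hx => ?_)
    (Subtype.map_injective _ Function.injective_id))) (count (MulEquiv.refl G) R)
  obtain ⟨W, hW⟩ := exists_sylow_le hx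
  exact ⟨W, fun w hw => by
    simp only [id, MulEquiv.refl_apply]
    rw [← mem_centralizer_singleton_iff.1 (hW hw), mul_inv_cancel_right]⟩

theorem sum_ty : ((Nat.card G).primeFactors.card - 2) * Nat.card G <
    ∑ r ∈ (Nat.card G).primeFactors, Nat.card {x : G // ¬ r ∣ ci x} := by
  classical
  have := Fintype.ofFinite G
  have e : ∑ r ∈ (Nat.card G).primeFactors, Nat.card {x : G // ¬ r ∣ ci x} =
      ∑ x : G, ((Nat.card G).primeFactors.filter fun r => ¬ r ∣ ci x).card := by
    simp only [Finset.card_filter]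
    rw [Finset.sum_comm]
    refine Finset.sum_congr rfl fun r _ => ?_
    rw [Nat.card_eq_fintype_card, Fintype.card_subtype, Finset.card_filter]
  have k : ∀ x : G, (Nat.card G).primeFactors.card ≤
      ((Nat.card G).primeFactors.filter fun r => ¬ r ∣ ci x).card + (ci x).primeFactors.card := fun x => by
    rw [← Finset.card_filter_add_card_filter_not (fun r => ¬ r ∣ ci x)]
    refine Nat.add_le_add_left (Finset.card_le_card fun r hr => ?_) _
    simp only [Finset.mem_filter, Nat.mem_primeFactors, not_not] at hr ⊢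
    exact ⟨hr.1.1, hr.2, index_ne_zero_of_finite⟩
  rw [e, mul_comm, Nat.card_eq_fintype_card (α := G), ← Finset.card_univ, ← smul_eq_mul, ← Finset.sum_const,
    Finset.card_univ, ← Nat.card_eq_fintype_card]
  refine Finset.sum_lt_sum (fun x _ => ?_) ⟨1, Finset.mem_univ _, ?_⟩
  · have := k x
    have := h.h2 x
    omega
  · have := k 1
    have e1 : ci (1 : G) = 1 := index_eq_one.2 (eq_top_iff.2 fun g _ => by simp [mem_centralizer_singleton_iff])
    have : 0 < (Nat.card G).primeFactors.card := Finset.card_pos.2 ⟨2, Nat.mem_primeFactors.2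
      ⟨Nat.prime_two, h.two_dvd, Nat.card_pos.ne'⟩⟩
    simp only [e1, Nat.primeFactors_one, Finset.card_empty] at *
    omega

theorem card_pf : (Nat.card G).primeFactors.card = 3 := by
  have l : 3 ≤ (Nat.card G).primeFactors.card := not_lt.1 fun l =>
    h.ns (isSolvable_of_card_primeFactors_le_two (by omega))
  have m2 : 2 ∈ (Nat.card G).primeFactors := Nat.mem_primeFactors.2 ⟨Nat.prime_two, h.two_dvd, Nat.card_pos.ne'⟩
  have s := h.sum_ty
  rw [← Finset.add_sum_erase _ _ m2] at s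
  obtain ⟨T⟩ : Nonempty (Sylow 2 G) := inferInstance
  have a := (Nat.mul_le_mul_left _ (h.three_le_ee T h.two_dvd)).trans (h.count_ty T)
  have b : 2 * ∑ r ∈ (Nat.card G).primeFactors.erase 2, Nat.card {x : G // ¬ r ∣ ci x} ≤
      ((Nat.card G).primeFactors.card - 1) * Nat.card G := by
    rw [Finset.mul_sum, ← Finset.card_erase_of_mem m2, ← smul_eq_mul]
    refine Finset.sum_le_card_nsmul _ _ _ fun r hr => ?_
    have hr := Nat.mem_primeFactors.1 (Finset.mem_of_mem_erase hr)
    have := Fact.mk hr.1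
    obtain ⟨R⟩ : Nonempty (Sylow r G) := inferInstance
    rw [mul_comm]
    exact (Nat.mul_le_mul_left _ (h.two_le_ee hr.2.1 R)).trans (h.count_ty R)
  by_contra c
  obtain ⟨n, hn⟩ : ∃ n, (Nat.card G).primeFactors.card = n + 4 := ⟨_, (Nat.sub_add_cancel (by omega)).symm⟩
  rw [hn] at s b
  simp only [show n + 4 - 2 = n + 2 from rfl, show n + 4 - 1 = n + 3 from rfl] at s b
  nlinarith [Nat.zero_le (n * Nat.card G)]

theorem exists_ty (x : G) : ∃ r, r.Prime ∧ r ∣ Nat.card G ∧ ¬ r ∣ ci x := by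
  by_contra! c
  have := Finset.card_le_card (show (Nat.card G).primeFactors ⊆ (ci x).primeFactors from fun r hr => by
    have hr := Nat.mem_primeFactors.1 hr
    exact Nat.mem_primeFactors.2 ⟨hr.1, c r hr.1 hr.2.1, index_ne_zero_of_finite⟩)
  have := h.h2 x
  have := h.card_pf
  omega

theorem two_le {x : G} (hx : x ≠ 1) : 2 ≤ (ci x).primeFactors.card := by
  have := h.simple
  by_contra c
  obtain ⟨p, k, hp, e⟩ : ∃ p k, p.Prime ∧ ci x = p ^ k := by
    by_cases e : (ci x).primeFactors.card = 1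
    · obtain ⟨p, k, hp, -, e⟩ := (isPrimePow_nat_iff _).1 (isPrimePow_iff_card_primeFactors_eq_one.2 e)
      exact ⟨p, k, hp, e.symm⟩
    · have := Nat.primeFactors_eq_empty.1 (Finset.card_eq_zero.1 (by omega : (ci x).primeFactors.card = 0))
      exact ⟨2, 0, Nat.prime_two, this.resolve_left index_ne_zero_of_finite⟩
  exact h.na ⟨⟨fun a b => mem_center_iff.1 (center_eq_top_of_simple_of_index_eq_pow hp hx e ▸ mem_top b) a⟩⟩

theorem uniq {x : G} (hx : x ≠ 1) {r s : ℕ} (hr : r.Prime) (hr' : r ∣ Nat.card G) (hs : s.Prime) (hs' : s ∣ Nat.card G)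
    (h1 : ¬ r ∣ ci x) (h2 : ¬ s ∣ ci x) : r = s := by
  by_contra c
  have m1 := Nat.mem_primeFactors.2 ⟨hr, hr', Nat.card_pos.ne'⟩
  have m2 := Finset.mem_erase.2 ⟨Ne.symm c, Nat.mem_primeFactors.2 ⟨hs, hs', Nat.card_pos.ne'⟩⟩
  have := Finset.card_le_card (show (ci x).primeFactors ⊆ ((Nat.card G).primeFactors.erase r).erase s from fun t ht => by
    have ht := Nat.mem_primeFactors.1 ht
    exact Finset.mem_erase.2 ⟨fun e => h2 (e ▸ ht.2.1), Finset.mem_erase.2 ⟨fun e => h1 (e ▸ ht.2.1),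
      Nat.mem_primeFactors.2 ⟨ht.1, ht.2.1.trans (index_dvd_card _), Nat.card_pos.ne'⟩⟩⟩)
  rw [Finset.card_erase_of_mem m2, Finset.card_erase_of_mem m1, h.card_pf] at this
  have := h.two_le hx
  omega

theorem third {r : ℕ} (hr : r.Prime) (hr' : r ∣ Nat.card G) (h2 : r ≠ 2) : ∃ s, s.Prime ∧ s ∣ Nat.card G ∧ s ≠ 2 ∧ s ≠ r ∧
    (∀ t, t.Prime → t ∣ Nat.card G → t = 2 ∨ t = r ∨ t = s) ∧
    Nat.card G < Nat.card {x : G // ¬ 2 ∣ ci x} + Nat.card {x : G // ¬ r ∣ ci x} + Nat.card {x : G // ¬ s ∣ ci x} := by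
  have m1 := Nat.mem_primeFactors.2 ⟨Nat.prime_two, h.two_dvd, Nat.card_pos.ne'⟩
  have m2 := Finset.mem_erase.2 ⟨h2, Nat.mem_primeFactors.2 ⟨hr, hr', Nat.card_pos.ne'⟩⟩
  obtain ⟨s, hs⟩ := Finset.card_eq_one.1 (show (((Nat.card G).primeFactors.erase 2).erase r).card = 1 by
    rw [Finset.card_erase_of_mem m2, Finset.card_erase_of_mem m1, h.card_pf])
  have m3 := hs ▸ Finset.mem_singleton_self s
  simp only [Finset.mem_erase, Nat.mem_primeFactors] at m3
  refine ⟨s, m3.2.2.1, m3.2.2.2.1, m3.2.1, m3.1, fun t ht ht' => ?_, ?_⟩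
  · by_contra! c
    exact c.2.2 (Finset.mem_singleton.1 (hs ▸ Finset.mem_erase.2 ⟨c.2.1, Finset.mem_erase.2 ⟨c.1,
      Nat.mem_primeFactors.2 ⟨ht, ht', Nat.card_pos.ne'⟩⟩⟩))
  · have := h.sum_ty
    rw [← Finset.add_sum_erase _ _ m1, ← Finset.add_sum_erase _ _ m2, hs, Finset.sum_singleton, h.card_pf] at this
    omega

theorem comm_odd {r : ℕ} [hr : Fact r.Prime] (h2 : r ≠ 2) (R : Sylow r G) : IsMulCommutative (R : Subgroup G) := by
  by_contra c
  have d := (sq_dvd_index_center R.isPGroup' c).trans (relIndex_dvd_ee _)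
  have hr' : r ∣ Nat.card G := (dvd_pow_self r two_ne_zero).trans (d.trans ((relIndex_dvd_card _ _).trans
    (card_subgroup_dvd_card _)))
  obtain ⟨s, hs, hs', -, -, -, l⟩ := h.third hr.out hr' h2
  have := Fact.mk hs
  obtain ⟨T⟩ : Nonempty (Sylow 2 G) := inferInstance
  obtain ⟨S⟩ : Nonempty (Sylow s G) := inferInstance
  have a := (Nat.mul_le_mul_left _ (h.three_le_ee T h.two_dvd)).trans (h.count_ty T)
  have b := (Nat.mul_le_mul_left _ (h.two_le_ee hs' S)).trans (h.count_ty S)
  have r3 : 3 ≤ r := by have := hr.out.two_le; omega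
  have e := (Nat.mul_le_mul_left _ ((Nat.pow_le_pow_left r3 2).trans
    (Nat.le_of_dvd (Nat.pos_of_ne_zero index_ne_zero_of_finite) d))).trans (h.count_ty R)
  omega

omit h in
theorem ty_of_comm {r : ℕ} [hr : Fact r.Prime] (hc : ∀ R : Sylow r G, IsMulCommutative (R : Subgroup G)) {x : G}
    (hx : ∃ k, orderOf x = r ^ k) : ¬ r ∣ ci x := by
  obtain ⟨R, hR⟩ := (isPGroup_zpowers_of_orderOf hx).exists_le_sylow
  exact ty_of_le R fun y hy => mem_centralizer_singleton_iff.2
    (congrArg Subtype.val ((hc R).is_comm.comm ⟨y, hy⟩ ⟨x, hR (mem_zpowers x)⟩))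

theorem cent_pgroup {z : G} (hz : z ≠ 1) {s : ℕ} [hs : Fact s.Prime] (hs' : s ∣ Nat.card G) (ty : ¬ s ∣ ci z)
    (hc : ∀ r [Fact r.Prime], r ≠ s → ∀ R : Sylow r G, IsMulCommutative (R : Subgroup G)) :
    IsPGroup s (centralizer ({z} : Set G)) := by
  refine IsPGroup.iff_orderOf.2 fun y => ⟨_, Nat.eq_prime_pow_of_unique_prime_dvd (orderOf_pos y).ne' fun {r} hr d => ?_⟩
  by_contra c
  have := Fact.mk hr
  rw [← orderOf_coe] at d
  have hr' := d.trans (orderOf_dvd_natCard _)
  have k : ∀ x : G, pPart r x ≠ 1 → ∀ t, t.Prime → t ∣ Nat.card G → ¬ t ∣ ci x → r = t := fun x hx t ht ht' e =>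
    h.uniq hx hr hr' ht ht' (ty_of_comm (hc r c) (pPart_pElement hr x)) fun e' => e (e'.trans (ci_dvd (pPart_mem_zpowers x)))
  have z1 : ¬ r ∣ orderOf z := (pPart_eq_one_iff hr).1 (by_contra fun e => c (k z e s hs.out hs' ty))
  have cm : Commute (pPart r (y : G)) z :=
    (commute_pPart_of_commute (show Commute (y : G) z from mem_centralizer_singleton_iff.1 y.2).symm).symm
  obtain ⟨t, ht, ht', e⟩ := h.exists_ty (pPart r (y : G) * z)
  have e1 := pPart_mul_of_commute hr cm (pPart_pElement hr _) z1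
  have e2 := pReg_mul_of_commute hr cm (pPart_pElement hr _) z1
  refine c ((k _ (by rw [e1]; exact fun e => (pPart_eq_one_iff hr).1 e d) t ht ht' e).trans
    (h.uniq hz ht ht' hs.out hs' (fun e' => e (e'.trans (ci_dvd (by
      have := pReg_mem_zpowers (p := r) (pPart r (y : G) * z)
      rwa [e2] at this)))) ty))

theorem index_ne_four (T : Sylow 2 G) (c : ¬ IsMulCommutative (T : Subgroup G)) : (center (T : Subgroup G)).index ≠ 4 := fun e => by
  have k : ∀ x : (T : Subgroup G), x ∉ center _ → x * x = 1 := fun x hx => by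
    by_contra n
    have m : x * x ∈ center (T : Subgroup G) := by
      rw [← QuotientGroup.eq_one_iff, QuotientGroup.mk_mul, ← sq, ← orderOf_dvd_iff_pow_eq_one]
      have d : orderOf (x : _ ⧸ center (T : Subgroup G)) ∣ 2 ^ 2 := (_root_.orderOf_dvd_natCard _).trans (dvd_of_eq e)
      refine (Nat.dvd_prime_pow Nat.prime_two).1 d |>.elim fun k ⟨hk, ek⟩ => ek ▸ ?_
      refine pow_one 2 ▸ pow_dvd_pow 2 (not_lt.1 fun l => c ?_)
      have : IsCyclic (_ ⧸ center (T : Subgroup G)) := isCyclic_of_orderOf_eq_card _ (ek.trans (by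
        rw [show k = 2 by omega]; exact e.symm))
      exact (QuotientGroup.mk' (center _)).isMulCommutative_of_isCyclic_of_ker_le_center (by simp)
    have n' : ((x * x : (T : Subgroup G)) : G) ≠ 1 := fun e => n (Subtype.ext e)
    have l : (T : Subgroup G) ≤ centralizer {((x * x : (T : Subgroup G)) : G)} := fun y hy =>
      mem_centralizer_singleton_iff.2 (congrArg Subtype.val (mem_center_iff.1 m ⟨y, hy⟩))
    have ty := ty_of_le T l
    have e1 := T.is_maximal' (h.cent_pgroup n' h.two_dvd ty fun r _ hr R => h.comm_odd hr R) l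
    obtain ⟨t, ht, ht', e⟩ := h.exists_ty (x : G)
    have zp : ((x * x : (T : Subgroup G)) : G) ∈ zpowers (x : G) := mul_mem (mem_zpowers _) (mem_zpowers _)
    obtain rfl := h.uniq n' ht ht' Nat.prime_two h.two_dvd (fun e' => e (e'.trans (ci_dvd zp))) ty
    obtain ⟨T', hT'⟩ := exists_sylow_le e
    have l' : centralizer {(x : G)} ≤ centralizer {((x * x : (T : Subgroup G)) : G)} := fun g hg =>
      mem_centralizer_singleton_iff.2 ((show Commute g x from mem_centralizer_singleton_iff.1 hg).mul_right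
        (mem_centralizer_singleton_iff.1 hg))
    have e2 := T'.is_maximal' T.isPGroup' (hT'.trans (l'.trans e1.le))
    exact hx (mem_center_iff.2 fun y => Subtype.ext (mem_centralizer_singleton_iff.1 (hT' (e2 ▸ y.2))))
  refine c ⟨⟨fun a b => by_contra fun n => ?_⟩⟩
  have ka := k a fun m => n (mem_center_iff.1 m b).symm
  have kb := k b fun m => n (mem_center_iff.1 m a)
  have kab := k (a * b) fun m => n (mul_left_cancel (a := a) (by rw [mem_center_iff.1 m a, mul_assoc]))
  apply n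
  rw [mul_eq_one_iff_eq_inv.1 kab, mul_inv_rev, ← mul_eq_one_iff_eq_inv.1 ka, ← mul_eq_one_iff_eq_inv.1 kb]

theorem pm {r : ℕ} [hr : Fact r.Prime] (h2 : r ≠ 2) (hr' : r ∣ Nat.card G) (R : Sylow r G)
    (hi : ee (R : Subgroup G) = 2) : PM R := by
  have hab := h.comm_odd h2 R
  have cm : ∀ x ∈ R, ∀ y ∈ R, x * y = y * x := fun x hx y hy =>
    congrArg Subtype.val (hab.is_comm.comm ⟨x, hx⟩ ⟨y, hy⟩)
  have e := abelian_sylow_inf_commutator R hab
  rw [h.comm_eq, inf_top_eq] at e
  have two : ∀ {a b : G}, a ∈ normalizer ((R : Subgroup G) : Set G) → b ∈ normalizer ((R : Subgroup G) : Set G) →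
      a ∉ centralizer ((R : Subgroup G) : Set G) → b ∉ centralizer ((R : Subgroup G) : Set G) →
      a * b ∈ centralizer ((R : Subgroup G) : Set G) := fun ha hb ha' hb' =>
    (mul_mem_iff_of_index_two hi (a := ⟨_, ha⟩) (b := ⟨_, hb⟩)).2 (iff_of_false ha' hb')
  have act : ∀ t ∈ normalizer ((R : Subgroup G) : Set G), t ∉ centralizer ((R : Subgroup G) : Set G) →
      ∀ x ∈ R, t * x * t⁻¹ = x⁻¹ := fun t ht ht' => by
    have cj := fun x (hx : x ∈ (R : Subgroup G)) => conj_mem_of_mem_normalizer ht hx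
    let I : Subgroup G :=
      { carrier := {x | x ∈ R ∧ t * x * t⁻¹ = x⁻¹}
        one_mem' := ⟨one_mem _, by simp⟩
        mul_mem' := fun {a b} ha hb => ⟨mul_mem ha.1 hb.1, by
          rw [cm a ha.1 b hb.1, mul_inv_rev, ← ha.2, ← hb.2, cm b hb.1 a ha.1]; group⟩
        inv_mem' := fun {a} ha => ⟨inv_mem ha.1, by rw [← conj_inv, ha.2]⟩ }
    refine fun x hx => (e.le.trans (commutator_le.2 fun x hx n hn => ?_ : _ ≤ I) hx).2
    rw [commutatorElement_def]
    by_cases c : n ∈ centralizer ((R : Subgroup G) : Set G)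
    · rw [c x hx]; simpa using I.one_mem
    have e1 : n * x⁻¹ * n⁻¹ = t * x⁻¹ * t⁻¹ := by
      have := two (inv_mem ht) hn (by simpa) c _ (inv_mem hx)
      calc _ = t * (t⁻¹ * n * x⁻¹) * n⁻¹ := by group
        _ = _ := by rw [← this]; group
    have e2 := two ht ht ht' ht' _ (inv_mem hx)
    rw [mul_assoc, mul_assoc, ← mul_assoc n, e1]
    refine ⟨mul_mem hx (cj _ (inv_mem hx)), ?_⟩
    calc _ = t * x * t⁻¹ * (t * t * x⁻¹ * (t * t)⁻¹) := by group
      _ = _ := by rw [← e2]; group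
  obtain ⟨t, ht, ht'⟩ : ∃ t ∈ normalizer ((R : Subgroup G) : Set G),
      t ∉ centralizer ((R : Subgroup G) : Set G) := by
    by_contra! hh
    rw [ee, relIndex_eq_one.2 hh] at hi; omega
  refine ⟨h2, cm, fun n hn => or_iff_not_imp_left.2 (act n hn), ⟨t, act t ht ht'⟩, ?_⟩
  by_contra! c
  exact R.ne_bot_of_dvd_card hr' (eq_bot_iff.2 c)

theorem no_inv {r s : ℕ} [hr : Fact r.Prime] {R : Sylow r G} (hR : PM R)
    (hπ : ∀ t, t.Prime → t ∣ Nat.card G → t = 2 ∨ t = r ∨ t = s) {d : G} (hd : orderOf d = 2) : s ∣ ci d := by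
  classical
  by_contra c
  have := h.simple
  obtain ⟨ξ, n, h1, hn, o, nd⟩ : ∃ (ξ : IrrCharacter G) (n : ℕ), ξ ≠ oneIrr G ∧ (ξ : G → ℂ) 1 = n ∧ ¬ 2 ∣ n ∧ ¬ r ∣ n := by
    obtain ⟨α, β, a1, a2, a, ha, hb, n1, n2⟩ := hR.exc
    by_cases e : 2 ∣ a
    · exact ⟨β, a + 1, a2, hb, by omega, n2⟩
    · exact ⟨α, a, a1, ha, e, n1⟩
  have cop : n.Coprime (ci d) := Nat.coprime_of_dvd fun t ht d1 d2 => by
    rcases hπ t ht (d2.trans (index_dvd_card _)) with rfl | rfl | rfl
    exacts [o d1, nd d1, c d2]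
  have d1 : d ≠ 1 := fun e => by simp [e] at hd
  rcases irr_eq_zero_or_mem_charCenter ξ.2 hn d cop with e | e
  · have := card_dvd_sub_of_const (P := zpowers d) (gen_of_irr ξ.2) (d := n) (a := 0) (by simpa using hn) fun u hu h1 => by
      rw [mem_zpowers_iff_mem_range_orderOf, hd] at hu
      simp only [Finset.mem_image, Finset.mem_range] at hu
      obtain ⟨k, hk, rfl⟩ := hu
      interval_cases k
      · simp at h1
      · simpa using e
    rw [Nat.card_zpowers, hd, sub_zero] at this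
    exact o (Int.natCast_dvd_natCast.1 this)
  · rw [charCenter_eq_center_of_faithful ξ.2 (charKer_eq_bot_of_simple ξ.2 fun e => h1 (Subtype.ext e)),
      h.center_eq] at e
    exact d1 e

theorem comm_two (T : Sylow 2 G) : IsMulCommutative (T : Subgroup G) := by
  by_contra c
  have d8 : 8 ≤ ee (T : Subgroup G) := by
    obtain ⟨k, hk⟩ := T.isPGroup'.index (center _)
    have n := h.index_ne_four T c
    have d := sq_dvd_index_center T.isPGroup' c
    refine le_trans ?_ (Nat.le_of_dvd (Nat.pos_of_ne_zero index_ne_zero_of_finite) (relIndex_dvd_ee _))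
    rw [hk] at n d ⊢
    have := (Nat.pow_dvd_pow_iff_le_right one_lt_two).1 d
    exact Nat.pow_le_pow_right two_pos (show 3 ≤ k from lt_of_le_of_ne this fun e => n (e ▸ rfl))
  obtain ⟨r, hr, hr', h2⟩ : ∃ r, r.Prime ∧ r ∣ Nat.card G ∧ r ≠ 2 := by
    by_contra! c
    have := Finset.card_le_card (show (Nat.card G).primeFactors ⊆ {2} from fun r hr => by
      have hr := Nat.mem_primeFactors.1 hr
      exact Finset.mem_singleton.2 (c r hr.1 hr.2.1))
    rw [h.card_pf] at this; simp at this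
  obtain ⟨s, hs, hs', s2, sr, hπ, l⟩ := h.third hr hr' h2
  have := Fact.mk hr
  have := Fact.mk hs
  obtain ⟨R⟩ : Nonempty (Sylow r G) := inferInstance
  obtain ⟨S⟩ : Nonempty (Sylow s G) := inferInstance
  have a := (Nat.mul_le_mul_left _ d8).trans (h.count_ty T)
  have b := (Nat.mul_le_mul_left _ (h.two_le_ee hs' S)).trans (h.count_ty S)
  have b' := (Nat.mul_le_mul_left _ (h.two_le_ee hr' R)).trans (h.count_ty R)
  have pR : PM R := h.pm h2 hr' R (le_antisymm (not_lt.1 fun l' => by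
    have := (Nat.mul_le_mul_left _ (Nat.succ_le_of_lt l')).trans (h.count_ty R)
    omega) (h.two_le_ee hr' R))
  have pS : PM S := h.pm s2 hs' S (le_antisymm (not_lt.1 fun l' => by
    have := (Nat.mul_le_mul_left _ (Nat.succ_le_of_lt l')).trans (h.count_ty S)
    omega) (h.two_le_ee hs' S))
  refine c (Cfsg.Agent.S4355.result (fun x ⟨k, hk⟩ => ?_) T)
  obtain ⟨t, ht, ht', e⟩ := h.exists_ty x
  by_cases x1 : x = 1
  · rw [x1, index_eq_one.2 (eq_top_iff.2 fun g _ => by simp [mem_centralizer_singleton_iff])]; decide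
  obtain ⟨d, hd⟩ := exists_prime_orderOf_dvd_card' (G := zpowers x) 2 (by
    rw [Nat.card_zpowers, hk]
    exact dvd_pow_self 2 fun e => x1 (by rw [← orderOf_eq_one_iff, hk, e, pow_zero]))
  rw [← orderOf_coe] at hd
  rcases hπ t ht ht' with rfl | rfl | rfl
  · exact e
  · exact absurd ((h.no_inv pS (fun u hu hu' => (hπ u hu hu').imp_right Or.symm) hd).trans (ci_dvd d.2)) e
  · exact absurd ((h.no_inv pR hπ hd).trans (ci_dvd d.2)) e

theorem comm_all {r : ℕ} [hr : Fact r.Prime] (R : Sylow r G) : IsMulCommutative (R : Subgroup G) := by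
  by_cases e : r = 2
  · subst e; exact h.comm_two R
  · exact h.comm_odd e R

theorem cent_eq {r : ℕ} [hr : Fact r.Prime] (R : Sylow r G) {x : G} (hx : x ∈ R) (h1 : x ≠ 1) :
    centralizer ({x} : Set G) = R := by
  have l : (R : Subgroup G) ≤ centralizer {x} := fun y hy => mem_centralizer_singleton_iff.2
    (congrArg Subtype.val ((h.comm_all R).is_comm.comm ⟨y, hy⟩ ⟨x, hx⟩))
  obtain ⟨k, hk⟩ := ord_mem R hx
  exact R.is_maximal' (h.cent_pgroup h1 ((dvd_pow_self r fun e => h1 (by
    rw [← orderOf_eq_one_iff, hk, e, pow_zero])).trans (hk ▸ orderOf_dvd_natCard x)) (ty_of_le R l)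
    fun s _ _ S => h.comm_all S) l

end SS

end CF.Cs
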