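import Cfsg.Agent.Perm.Cs2
import Cfsg.Agent.S2202
import Cfsg.Agent.S0494
import Cfsg.Agent.Classical.SL2Class
import Cfsg.Agent.Classical.Transport

/-! Groups whose class sizes have at most two prime divisors. -/

set_option autoImplicit false
set_option linter.unusedSectionVars false

namespace CF.Cs
open Cfsg Subgroup CF.Char CF.BlockB CF.Transfer
open scoped MatrixGroups Pointwise

universe u
variable {G : Type*} [Group G] [Finite G]

theorem num1 {n k : ℕ} (h : 2 ^ n + 1 = 3 ^ k) : n ≤ 3 := by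
  by_contra c
  obtain ⟨m, rfl⟩ : ∃ m, n = m + 4 := ⟨n - 4, by omega⟩
  have e : 3 ^ k = (3 ^ 4) ^ (k / 4) * 3 ^ (k % 4) := by rw [← pow_mul, ← pow_add, Nat.div_add_mod]
  have h1 : (3 ^ 4) ^ (k / 4) % 80 = 1 := by rw [Nat.pow_mod]; simp
  have h2 : ¬ 5 ∣ 2 ^ (m + 4) := fun d => by simpa using (Nat.prime_five.dvd_of_dvd_pow d)
  rw [pow_add] at h h2
  have : k % 4 < 4 := Nat.mod_lt _ (by norm_num)
  generalize (3 ^ 4) ^ (k / 4) = A at *
  generalize 2 ^ m = B at *
  interval_cases k % 4 <;> omega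

theorem num2 {n k : ℕ} (h : 2 ^ n = 3 ^ k + 1) : n ≤ 2 := by
  by_contra c
  obtain ⟨m, rfl⟩ : ∃ m, n = m + 3 := ⟨n - 3, by omega⟩
  have e : 3 ^ k = (3 ^ 2) ^ (k / 2) * 3 ^ (k % 2) := by rw [← pow_mul, ← pow_add, Nat.div_add_mod]
  have h1 : (3 ^ 2) ^ (k / 2) % 8 = 1 := by rw [Nat.pow_mod]; simp
  rw [pow_add] at h
  have : k % 2 < 2 := Nat.mod_lt _ (by norm_num)
  generalize (3 ^ 2) ^ (k / 2) = A at *
  generalize 2 ^ m = B at *
  interval_cases k % 2 <;> omega

theorem num3 {n s : ℕ} (hn : 0 < n) (hπ : ∀ t, t.Prime → t ∣ (2 ^ n) ^ 2 - 1 → t = 2 ∨ t = 3 ∨ t = s) : n ≤ 3 := by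
  obtain ⟨a, ha⟩ : ∃ a, 2 ^ n = a + 1 := ⟨2 ^ n - 1, by have := Nat.one_le_two_pow (n := n); omega⟩
  have e : (2 ^ n) ^ 2 - 1 = a * (a + 2) := by rw [ha]; ring_nf; omega
  have ev : 2 ∣ a + 1 := ha ▸ dvd_pow_self 2 hn.ne'
  have a0 : a ≠ 0 := by omega
  rw [e] at hπ
  by_cases c : s ∣ a
  · have : a + 2 = 3 ^ _ := Nat.eq_prime_pow_of_unique_prime_dvd (by omega) fun {t} ht d => by
      rcases hπ t ht (d.mul_left _) with rfl | rfl | rfl
      · omega
      · rfl
      · have := (Nat.prime_dvd_prime_iff_eq ht Nat.prime_two).1 ((Nat.dvd_add_right c).1 d)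
        subst this; omega
    exact num1 (by rw [← this, ha])
  · have : a = 3 ^ _ := Nat.eq_prime_pow_of_unique_prime_dvd a0 fun {t} ht d => by
      rcases hπ t ht (d.mul_right _) with rfl | rfl | rfl
      · omega
      · rfl
      · exact absurd d c
    exact (num2 (by rw [← this, ha])).trans (by norm_num)

def Good (G : Type*) [Group G] : Prop := Nonempty (G ≃* alternatingGroup (Fin 5)) ∨
  Nonempty (G ≃* Matrix.ProjectiveSpecialLinearGroup (Fin 2) (GaloisField 2 3))

namespace SS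
variable (h : SS G)
include h

theorem not_normal (T : Sylow 2 G) : ¬ (T : Subgroup G).Normal := fun n => by
  have := h.simple
  rcases n.eq_bot_or_eq_top with e | e
  · exact T.ne_bot_of_dvd_card h.two_dvd e
  · exact h.na ⟨⟨fun a b => congrArg Subtype.val ((h.comm_two T).is_comm.comm ⟨a, e ▸ mem_top a⟩ ⟨b, e ▸ mem_top b⟩)⟩⟩

theorem ident : Good G ∧ (Nat.card G = 60 ∨ Nat.card G = 504) := by
  have := h.simple
  obtain ⟨T⟩ : Nonempty (Sylow 2 G) := inferInstance
  rcases Cfsg.Agent.S2202.result (even_iff_two_dvd.2 h.two_dvd) (fun t ht => by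
    obtain ⟨R, hR⟩ := (isPGroup_zpowers_of_orderOf (p := 2) ⟨1, ht⟩).exists_le_sylow
    rw [h.cent_eq R (hR (mem_zpowers t)) fun e => by simp [e] at ht]
    exact h.comm_two R) with c | c | ⟨F, _, _, A, _, _, _, -, ⟨e⟩⟩
  · have := h.two_le_ee h.two_dvd T
    have e : ee (T : Subgroup G) = 1 :=
      relIndex_eq_one.2 ((c T).normalizer_le_centralizer ((Nat.minFac_eq_two_iff _).2 h.two_dvd))
    omega
  · exact absurd (c T) (h.not_normal T)
  have : Subsingleton A := subsingleton_of_forall_eq 1 fun a => by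
    have : e.symm (1, a) ∈ center G := mem_center_iff.2 fun g => e.injective (by
      simp only [map_mul, MulEquiv.apply_symm_apply]
      exact Prod.ext (by simp) (mul_comm _ _))
    rw [h.center_eq, mem_bot, MulEquiv.map_eq_one_iff] at this
    exact congrArg Prod.snd this
  have := uniqueOfSubsingleton (1 : A)
  have e' : G ≃* SL(2, F) := e.trans MulEquiv.prodUnique
  obtain ⟨n, -, hn⟩ := FiniteField.card F 2
  have cG : Nat.card G = 2 ^ (n : ℕ) * ((2 ^ (n : ℕ)) ^ 2 - 1) := by
    rw [Nat.card_congr e'.toEquiv, CF.Classical.card_SL2, Nat.card_eq_fintype_card, hn]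
  have d3 : 3 ∣ Nat.card G := by
    rw [cG, ← pow_mul, mul_comm (n : ℕ), pow_mul]
    exact (Nat.sub_one_dvd_pow_sub_one 4 n).mul_left _
  obtain ⟨s, -, -, -, -, hπ, -⟩ := h.third Nat.prime_three d3 (by norm_num)
  have l := num3 n.pos fun t ht d => hπ t ht (cG ▸ d.mul_left _)
  have p := n.pos
  have pf := h.card_pf
  generalize (n : ℕ) = m at *
  interval_cases m
  · rw [cG] at pf; exact absurd pf (by decide +kernel)
  · exact ⟨.inl (Cfsg.Agent.S0494.result cG), .inl cG⟩
  · refine ⟨.inr ?_, .inr cG⟩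
    obtain ⟨f⟩ := CF.Classical.nonempty_ringEquiv_of_card_eq (K := F) (K' := GaloisField 2 3) (by
      rw [GaloisField.card 2 3 (by norm_num), Nat.card_eq_fintype_card, hn])
    have c : center SL(2, F) = ⊥ := eq_bot_iff.2 fun x hx => by
      have : e'.symm x ∈ center G := mem_center_iff.2 fun g => e'.injective (by
        simp only [map_mul, MulEquiv.apply_symm_apply]
        exact mem_center_iff.1 hx _)
      rwa [h.center_eq, mem_bot, MulEquiv.map_eq_one_iff] at this
    exact ⟨e'.trans ((QuotientGroup.quotientBot.symm.trans (QuotientGroup.quotientMulEquivOfEq c.symm)).trans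
      (CF.Classical.pslCongr (Fin 2) f))⟩

theorem norm_mod (T : Sylow 2 G) {r : ℕ} [hr : Fact r.Prime] (h2 : r ≠ 2) {u : G}
    (hu : u ∈ normalizer ((T : Subgroup G) : Set G)) (ho : orderOf u = r) : Nat.card (T : Subgroup G) ≡ 1 [MOD r] := by
  letI : MulAction (zpowers u) (T : Subgroup G) := MulAction.compHom _
    ((T : Subgroup G).normalizerMonoidHom.comp (inclusion (zpowers_le.2 hu)))
  have := (isPGroup_zpowers_of_orderOf (p := r) ⟨1, by simpa using ho⟩).card_modEq_card_fixedPoints (T : Subgroup G)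
  convert this
  symm
  rw [Nat.card_eq_one_iff_exists]
  refine ⟨⟨1, fun g => map_one ((T : Subgroup G).normalizerMonoidHom _)⟩, fun x => Subtype.ext (by_contra fun n => ?_)⟩
  have e : u * x.1 * u⁻¹ = x.1 := congrArg Subtype.val (x.2 ⟨u, mem_zpowers u⟩)
  have m := h.cent_eq T x.1.2 (fun e => n (Subtype.ext e)) ▸ mem_centralizer_singleton.2 e
  obtain ⟨k, hk⟩ := ord_mem T m
  exact h2 ((Nat.prime_dvd_prime_iff_eq hr.out Nat.prime_two).1 (hr.out.dvd_of_dvd_pow (dvd_of_eq (ho.symm.trans hk))))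

theorem exists_w (T : Sylow 2 G) : ∃ w, w.Prime ∧ w ≠ 2 ∧ w ∣ Nat.card G ∧ ¬ Nat.card (T : Subgroup G) ≡ 1 [MOD w] ∧
    Nat.card (Sylow 2 G) ≤ w ^ (Nat.card G).factorization w := by
  have c1 := T.card_eq_multiplicity
  have l3 := h.three_le_ee T h.two_dvd
  have e : Nat.card (Sylow 2 G) * (ee (T : Subgroup G) * Nat.card (centralizer ((T : Subgroup G) : Set G))) = Nat.card G := by
    rw [T.card_eq_index_normalizer, ← Nat.card_congr (subgroupOfEquivOfLe (centralizer_le_normalizer
      ((T : Subgroup G) : Set G))).toEquiv, ee, relIndex, index_mul_card]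
    exact index_mul_card _
  have l := card_le_of_le (le_centralizer_iff_isMulCommutative.2 (h.comm_two T))
  rcases h.ident.2 with c | c
  · have f2 : Nat.factorization 60 2 = 2 := by decide +kernel
    have f5 : Nat.factorization 60 5 = 1 := by decide +kernel
    rw [c, f2] at c1
    refine ⟨5, Nat.prime_five, by norm_num, by rw [c]; norm_num, by erw [c1]; decide, ?_⟩
    rw [c, f5]
    erw [c1] at l
    have := Nat.mul_le_mul_left (Nat.card (Sylow 2 G)) (Nat.mul_le_mul l3 l)
    omega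
  · have f2 : Nat.factorization 504 2 = 3 := by decide +kernel
    have f3 : Nat.factorization 504 3 = 2 := by decide +kernel
    rw [c, f2] at c1
    have n : ¬ Nat.card (T : Subgroup G) ≡ 1 [MOD 3] := by erw [c1]; decide
    refine ⟨3, Nat.prime_three, by norm_num, by rw [c]; norm_num, n, ?_⟩
    rw [c, f3]
    erw [c1] at l
    have n3 : ¬ 3 ∣ ee (T : Subgroup G) := fun d => by
      obtain ⟨u, hu⟩ := exists_prime_orderOf_dvd_card' 3 (d.trans (relIndex_dvd_card _ _))
      exact n (h.norm_mod T (by norm_num) u.2 (by simpa using hu))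
    have n2 : ¬ 2 ∣ ee (T : Subgroup G) := fun e => T.not_dvd_index ((e.trans (relIndex_dvd_of_le_left _
      (le_centralizer_iff_isMulCommutative.2 (h.comm_two T)))).trans (relIndex_dvd_index_of_le le_normalizer))
    have n5 : ee (T : Subgroup G) ≠ 5 := fun e' => by rw [e', c, mul_left_comm] at e; omega
    have := Nat.mul_le_mul_left (Nat.card (Sylow 2 G)) (Nat.mul_le_mul (show 7 ≤ ee (T : Subgroup G) by omega) l)
    omega

theorem inner_of_fix : ∃ w, ∃ _ : Fact w.Prime, w ≠ 2 ∧ w ∣ Nat.card G ∧ ∀ (W : Sylow w G) (ψ : MulAut G),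
    (∀ x ∈ W, ψ x = x) → ∃ u, ψ = MulAut.conj u := by
  have := h.simple
  obtain ⟨T⟩ : Nonempty (Sylow 2 G) := inferInstance
  obtain ⟨w, hw, h2, d, n, l⟩ := h.exists_w T
  have := Fact.mk hw
  refine ⟨w, this, h2, d, fun W ψ hψ => ?_⟩
  have sj : Function.Surjective fun u : (W : Subgroup G) => (u : G) • T := by
    refine (Function.Injective.bijective_of_nat_card_le (fun a b e => ?_) (l.trans W.card_eq_multiplicity.ge)).2
    by_contra c
    have m : (b : G)⁻¹ * a ∈ normalizer ((T : Subgroup G) : Set G) :=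
      Sylow.smul_eq_iff_mem_normalizer.1 (by rw [mul_smul, inv_smul_eq_iff]; exact e)
    obtain ⟨k, hk⟩ := ord_mem W (mul_mem (inv_mem b.2) a.2)
    obtain ⟨u, hu⟩ := exists_prime_orderOf_dvd_card' (G := zpowers ((b : G)⁻¹ * a)) w (by
      rw [Nat.card_zpowers, hk]
      exact dvd_pow_self w fun e => c (Subtype.ext (inv_mul_eq_one.1 (by rw [← orderOf_eq_one_iff, hk, e, pow_zero])).symm))
    exact n (h.norm_mod T h2 (zpowers_le.2 m u.2) (by simpa using hu))
  obtain ⟨u, hu⟩ := sj (ψ • T)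
  refine ⟨u, (inv_mul_eq_one.1 ?_).symm⟩
  set φ := (MulAut.conj (u : G))⁻¹ * ψ with hφ
  have k : ∀ (g : G) (S : Sylow 2 G), φ • g • S = φ g • φ • S := fun g S => by
    rw [Sylow.smul_def, Sylow.smul_def, ← mul_smul, ← mul_smul]
    congr 1; ext x; simp
  have f0 : φ • T = T := by rw [hφ, mul_smul, ← hu, inv_smul_eq_iff]; rfl
  have f : ∀ S : Sylow 2 G, φ • S = S := fun S => by
    obtain ⟨v, rfl⟩ := sj S
    have : φ v = v := by
      have := congrArg Subtype.val ((h.comm_all W).is_comm.comm v u)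
      simp only [coe_mul] at this
      simp [hφ, hψ v v.2, mul_assoc, this]
    rw [k, f0, this]
  have kb : (MulAction.toPermHom G (Sylow 2 G)).ker = ⊥ := (Normal.eq_bot_or_eq_top inferInstance).resolve_right fun e =>
    h.not_normal T (normalizer_eq_top_iff.1 (eq_top_iff.2 fun g _ => Sylow.smul_eq_iff_mem_normalizer.1
      (congrFun (congrArg (↑) (MonoidHom.mem_ker.1 (e ▸ mem_top g))) T)))
  ext g
  refine (inv_mul_eq_one.1 (mem_bot.1 (kb ▸ MonoidHom.mem_ker.2 (Equiv.ext fun S => ?_)))).symm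
  change (g⁻¹ * φ g) • S = S
  rw [mul_smul, inv_smul_eq_iff, ← f (g • S), k, f]

theorem inner_of (φ : MulAut G) (hφ : ∀ y : G, ((φ * MulAut.conj y).toMonoidHom.eqLocus (MonoidHom.id G)).index.primeFactors.card ≤ 2) :
    ∃ u, φ = MulAut.conj u := by
  classical
  obtain ⟨w, _, h2, d, hw⟩ := h.inner_of_fix
  obtain ⟨s, hs, hs', s2, sw, hπ, -⟩ := h.third Fact.out d h2
  have := Fact.mk hs
  by_contra! c
  have k : ∀ y : G, (∃ W : Sylow 2 G, ∀ x ∈ W, φ (y * x * y⁻¹) = x) ∨ ∃ W : Sylow s G, ∀ x ∈ W, φ (y * x * y⁻¹) = x := fun y => by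
    obtain ⟨t, ht, ht', e⟩ : ∃ t, t.Prime ∧ t ∣ Nat.card G ∧
        ¬ t ∣ ((φ * MulAut.conj y).toMonoidHom.eqLocus (MonoidHom.id G)).index := by
      by_contra! c
      have := Finset.card_le_card (show (Nat.card G).primeFactors ⊆ Nat.primeFactors _ from fun r hr => by
        have hr := Nat.mem_primeFactors.1 hr
        exact Nat.mem_primeFactors.2 ⟨hr.1, c r hr.1 hr.2.1, index_ne_zero_of_finite⟩)
      have := hφ y
      have := h.card_pf
      omega
    rcases hπ t ht ht' with rfl | rfl | rfl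
    · exact .inl ((exists_sylow_le e).imp fun W hW x hx => hW hx)
    · obtain ⟨W, hW⟩ := exists_sylow_le e
      obtain ⟨u, hu⟩ := hw W _ fun x hx => hW hx
      exact absurd (by rw [map_mul, map_inv, ← hu, mul_inv_cancel_right]) (c (u * y⁻¹))
    · exact .inr ((exists_sylow_le e).imp fun W hW x hx => hW hx)
  obtain ⟨T⟩ : Nonempty (Sylow 2 G) := inferInstance
  obtain ⟨S⟩ : Nonempty (Sylow s G) := inferInstance
  have a := (Nat.mul_le_mul_left _ (h.three_le_ee T h.two_dvd)).trans (count φ T)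
  have b := (Nat.mul_le_mul_left _ (h.two_le_ee hs' S)).trans (count φ S)
  have := Nat.card_le_card_of_surjective (Sum.elim
    (Subtype.val : {y : G // ∃ W : Sylow 2 G, ∀ x ∈ W, φ (y * x * y⁻¹) = x} → G)
    (Subtype.val : {y : G // ∃ W : Sylow s G, ∀ x ∈ W, φ (y * x * y⁻¹) = x} → G)) fun y =>
      (k y).elim (fun e => ⟨.inl ⟨y, e⟩, rfl⟩) fun e => ⟨.inr ⟨y, e⟩, rfl⟩
  rw [Nat.card_sum] at this
  have := Nat.card_pos (α := G)
  omega

omit [Finite G] in
theorem of_equiv {H : Type*} [Group H] (e : G ≃* H) : SS H := by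
  have := h.simple
  refine ⟨e.symm.isSimpleGroup, fun c => h.na ⟨⟨fun a b => e.injective (by
    rw [map_mul, map_mul]; exact c.is_comm.comm _ _)⟩⟩, fun x => ?_⟩
  convert h.h2 (e.symm x) using 3
  rw [ci, ← index_comap_of_surjective _ (f := e.toMonoidHom) e.surjective]
  congr 1; ext g
  simp only [mem_comap, mem_centralizer_singleton_iff, MulEquiv.toMonoidHom_eq_coe, MonoidHom.coe_coe]
  rw [← e.injective.eq_iff]; simp

end SS

theorem pf_le {a b : ℕ} (h : a ∣ b) (hb : b ≠ 0) : a.primeFactors.card ≤ b.primeFactors.card :=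
  Finset.card_le_card (Nat.primeFactors_mono h hb)

theorem relIndex_dvd (N H : Subgroup G) [N.Normal] : H.relIndex N ∣ H.index := by
  have h1 := relIndex_mul_index (show H ⊓ N ≤ N from inf_le_right)
  have h2 := relIndex_mul_index (show H ⊓ N ≤ H from inf_le_left)
  obtain ⟨k, hk⟩ := relIndex_dvd_index_of_normal N H
  rw [inf_relIndex_left] at h2
  rw [inf_relIndex_right] at h1
  refine ⟨k, Nat.eq_of_mul_eq_mul_left (Nat.pos_of_ne_zero (show N.relIndex H ≠ 0 from
    index_ne_zero_of_finite)) ?_⟩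
  rw [h2, ← h1, hk]; ring

theorem sub_dvd (N : Subgroup G) [N.Normal] (K : Subgroup N) (y : G) (e : ∀ g : N, g ∈ K ↔ (g : G) * y = y * g) :
    K.index ∣ ci y := by
  have : K = (centralizer {y}).subgroupOf N := Subgroup.ext fun g => by
    rw [mem_subgroupOf, mem_centralizer_singleton_iff]; exact e g
  rw [this]; exact relIndex_dvd N (centralizer {y})

theorem H2.sub (h : H2 G) (N : Subgroup G) [N.Normal] : H2 N := fun x => by
  refine le_trans (pf_le ?_ index_ne_zero_of_finite) (h x)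
  exact sub_dvd N _ x fun g => by rw [mem_centralizer_singleton_iff, Subtype.ext_iff]; rfl

theorem ci_map_dvd {Q : Type*} [Group Q] {f : G →* Q} (hf : Function.Surjective f) (x : G) : ci (f x) ∣ ci x := by
  rw [ci, ← index_comap_of_surjective _ hf]
  exact index_dvd_of_le fun g hg => mem_centralizer_singleton_iff.2 (by
    rw [← map_mul, mem_centralizer_singleton_iff.1 hg, map_mul])

theorem H2.quot (h : H2 G) (N : Subgroup G) [N.Normal] : H2 (G ⧸ N) := fun x => by
  obtain ⟨x, rfl⟩ := QuotientGroup.mk'_surjective N x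
  exact le_trans (pf_le (ci_map_dvd (QuotientGroup.mk'_surjective N) x) index_ne_zero_of_finite) (h x)

theorem SS.exists_elt (h : SS G) {l : ℕ} [hl : Fact l.Prime] : ∃ x : G, x ≠ 1 ∧ ¬ l ∣ ci x := by
  by_cases c : l ∣ Nat.card G
  · obtain ⟨x, hx⟩ := exists_prime_orderOf_dvd_card' l c
    exact ⟨x, fun e => hl.out.one_lt.ne (by simpa [e] using hx), SS.ty_of_comm (fun R => h.comm_all R) ⟨1, by simpa using hx⟩⟩
  · have := h.simple
    obtain ⟨x, hx⟩ := exists_ne (1 : G)
    exact ⟨x, hx, fun e => c (e.trans (index_dvd_card _))⟩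

theorem not_dvd_of {a b l : ℕ} (hl : l.Prime) (h : a ∣ b) (h2 : 2 ≤ a.primeFactors.card) (hb : b.primeFactors.card ≤ 2)
    (b0 : b ≠ 0) (n : ¬ l ∣ a) : ¬ l ∣ b := fun d => by
  have := Finset.eq_of_subset_of_card_le (Nat.primeFactors_mono h b0) (hb.trans h2)
  exact n (Nat.mem_primeFactors.1 (this ▸ Nat.mem_primeFactors.2 ⟨hl, d, b0⟩)).2.1

theorem split (h : H2 G) {S : Subgroup G} [S.Normal] (hS : SS S) : center G ⊓ S = ⊥ ∧ center G ⊔ S = ⊤ := by
  have cS : centralizer (S : Set G) ⊓ S = ⊥ := eq_bot_iff.2 fun x hx => by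
    have : (⟨x, hx.2⟩ : S) ∈ center S := mem_center_iff.2 fun y => Subtype.ext (hx.1 y y.2)
    rw [hS.center_eq] at this
    exact congrArg Subtype.val this
  have dec : ∀ x : G, ∃ c ∈ centralizer (S : Set G), ∃ u ∈ S, x = c * u := fun x => by
    obtain ⟨u, hu⟩ := hS.inner_of (MulAut.conjNormal x) fun y => by
      refine le_trans (pf_le ?_ index_ne_zero_of_finite) (h (x * y))
      refine sub_dvd S _ _ fun g => ?_
      rw [eq_comm (a := (g : G) * _), ← mul_inv_eq_iff_eq_mul]
      change _ = _ ↔ _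
      simp [Subtype.ext_iff, mul_assoc]
    refine ⟨x * (u : G)⁻¹, fun s hs => ?_, u, u.2, by simp⟩
    have := congrArg Subtype.val (MulEquiv.congr_fun hu (u⁻¹ * ⟨s, hs⟩ * u))
    simp only [MulAut.conjNormal_apply, MulAut.conj_apply, coe_mul, coe_inv] at this
    calc _ = (u : G) * ((u : G)⁻¹ * s * u) * (u : G)⁻¹ * (x * (u : G)⁻¹) := by group
      _ = _ := by rw [← this]; group
  have cz : centralizer (S : Set G) ≤ center G := fun c hc => by
    by_contra n
    have : ci c ≠ 1 := fun e => n (mem_center_iff.2 fun g =>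
      mem_centralizer_singleton_iff.1 (index_eq_one.1 e ▸ mem_top g))
    obtain ⟨l, hl, d⟩ := Nat.exists_prime_and_dvd this
    have := Fact.mk hl
    obtain ⟨x, x1, hx⟩ := hS.exists_elt (l := l)
    have le : centralizer {c * x} ≤ centralizer {c} := fun g hg => by
      obtain ⟨a, ha, u, hu, rfl⟩ := dec g
      have e := mem_centralizer_singleton_iff.1 hg
      have m : (a * c)⁻¹ * (c * a) ∈ centralizer (S : Set G) ⊓ S := mem_inf.2 ⟨mul_mem (inv_mem (mul_mem ha hc)) (mul_mem hc ha), by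
        have : (a * c)⁻¹ * (c * a) = u * x * ((x : G) * u)⁻¹ := by
          rw [inv_mul_eq_iff_eq_mul, ← mul_assoc, eq_mul_inv_iff_mul_eq]
          calc _ = c * (a * x) * u := by group
            _ = a * (u * c) * x := by rw [← ha x x.2, ← mul_assoc, mul_assoc _ a, ← e]; group
            _ = _ := by rw [hc u hu]; group
        rw [this]; exact mul_mem (mul_mem hu x.2) (inv_mem (mul_mem x.2 hu))⟩
      rw [cS, mem_bot, inv_mul_eq_one] at m
      rw [mem_centralizer_singleton_iff, mul_assoc, hc u hu, ← mul_assoc, m, mul_assoc]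
    refine not_dvd_of hl ?_ (hS.two_le x1) (h (c * x)) index_ne_zero_of_finite hx (d.trans (index_dvd_of_le le))
    refine sub_dvd S _ _ fun g => ?_
    rw [mem_centralizer_singleton_iff, ← mul_assoc, hc g g.2,
      mul_assoc, mul_assoc, mul_left_cancel_iff, Subtype.ext_iff]
    rfl
  refine ⟨eq_bot_iff.2 (cS ▸ inf_le_inf_right _ (center_le_centralizer _)), eq_top_iff.2 fun x _ => ?_⟩
  obtain ⟨c, hc, u, hu, rfl⟩ := dec x
  exact mul_mem_sup (cz hc) hu

theorem comm_eq_of (h : H2 G) {S : Subgroup G} [S.Normal] (hS : SS S) : commutator G = S := by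
  refine le_antisymm (commutator_le.2 fun a _ b _ => ?_) ?_
  · obtain ⟨c, hc, u, hu, rfl⟩ := mem_sup_of_normal_right.1 ((split h hS).2 ▸ mem_top a)
    obtain ⟨d, hd, v, hv, rfl⟩ := mem_sup_of_normal_right.1 ((split h hS).2 ▸ mem_top b)
    have : c * u * (d * v) * (c * u)⁻¹ * (d * v)⁻¹ = u * v * u⁻¹ * v⁻¹ := by
      calc _ = c * (u * d * v * u⁻¹) * c⁻¹ * v⁻¹ * d⁻¹ := by group
        _ = d * (u * v * u⁻¹ * v⁻¹) * d⁻¹ := by rw [← mem_center_iff.1 hc, mem_center_iff.1 hd u]; group
        _ = _ := by rw [← mem_center_iff.1 hd]; group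
    rw [commutatorElement_def, this]
    exact mul_mem (mul_mem (mul_mem hu hv) (inv_mem hu)) (inv_mem hv)
  · have := congrArg (map S.subtype) hS.comm_eq
    rw [map_subtype_commutator, ← MonoidHom.range_eq_map, range_subtype] at this
    exact this.ge.trans (commutator_mono le_top le_top)

theorem exists_SS (n : ℕ) : ∀ (G : Type u) [Group G] [Finite G], Nat.card G = n → H2 G → ¬ Group.IsSolvable G →
    ∃ S : Subgroup G, S.Normal ∧ SS S := by
  induction n using Nat.strong_induction_on with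
  | _ n ih =>
  intro G _ _ hn h ns
  have sub : ∀ K : Subgroup G, K.Normal → K ≠ ⊤ → ¬ Group.IsSolvable K → ∃ S : Subgroup G, S.Normal ∧ SS S :=
    fun K _ hK nK => by
      obtain ⟨S, _, hS⟩ := ih _ (hn ▸ lt_of_le_of_ne (card_le_card_group K) fun e => hK (eq_top_of_card_eq K e))
        K rfl (h.sub K) nK
      refine ⟨S.map K.subtype, ?_, hS.of_equiv (equivMapOfInjective _ _ K.subtype_injective)⟩
      rw [← comm_eq_of (h.sub K) hS, map_subtype_commutator]
      infer_instance
  by_contra! c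
  have sv : ∀ K : Subgroup G, K.Normal → K ≠ ⊤ → Group.IsSolvable K := fun K hK e => by_contra fun nK => by
    obtain ⟨S, h1, h2⟩ := sub K hK e nK
    exact c S h1 h2
  have nt : Nontrivial G := not_subsingleton_iff_nontrivial.1 fun _ => ns inferInstance
  obtain ⟨N, ⟨hN, hb⟩, mn⟩ := (Set.toFinite {N : Subgroup G | N.Normal ∧ N ≠ ⊥}).exists_minimal ⟨⊤, inferInstance, top_ne_bot⟩
  have mn' : ∀ K : Subgroup G, K.Normal → K ≤ N → K = ⊥ ∨ K = N := fun K hK l =>
    or_iff_not_imp_left.2 fun e => le_antisymm l (mn ⟨hK, e⟩ l)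
  have nT : N ≠ ⊤ := by
    rintro rfl
    refine c ⊤ inferInstance (SS.of_equiv ⟨⟨fun K hK => mn' K hK le_top⟩, fun e => ns (isSolvable_of_comm e.is_comm.comm), h⟩
      topEquiv.symm)
  have sN := sv N hN nT
  have nq : ¬ Group.IsSolvable (G ⧸ N) := fun _ => ns (solvable_of_ker_le_range N.subtype (QuotientGroup.mk' N) (by simp))
  have lt : Nat.card (G ⧸ N) < n := by
    rw [← hn, ← N.card_mul_index]
    exact lt_mul_of_one_lt_left (Nat.pos_of_ne_zero index_ne_zero_of_finite) (N.one_lt_card_iff_ne_bot.2 hb)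
  obtain ⟨S, _, hS⟩ := ih _ lt (G ⧸ N) rfl (h.quot N) nq
  obtain rfl : S = ⊤ := by
    by_contra e
    have := sv (S.comap (QuotientGroup.mk' N)) inferInstance fun e' => e (by
      rw [← map_comap_eq_self_of_surjective (QuotientGroup.mk'_surjective N) S, e',
        map_top_of_surjective _ (QuotientGroup.mk'_surjective N)])
    exact hS.ns (solvable_of_surjective (f := (QuotientGroup.mk' N).subgroupComap S)
      (MonoidHom.subgroupComap_surjective_of_surjective _ _ (QuotientGroup.mk'_surjective N)))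
  have hQ := hS.of_equiv topEquiv
  have := hQ.simple
  have ab : N ≤ centralizer (N : Set G) := commutator_eq_bot_iff_le_centralizer.1 ((mn' ⁅N, N⁆ inferInstance
    (commutator_le_left N N)).resolve_right fun e => by
      have : Nontrivial N := (nontrivial_iff_ne_bot N).2 hb
      refine (IsSolvable.commutator_lt_top_of_nontrivial N).ne (map_injective N.subtype_injective ?_)
      rw [map_subtype_commutator, e, ← MonoidHom.range_eq_map, range_subtype])
  obtain ⟨l, hl, d⟩ := Nat.exists_prime_and_dvd (N.one_lt_card_iff_ne_bot.2 hb).ne'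
  have := Fact.mk hl
  have pN : IsPGroup l N := by
    obtain ⟨P⟩ : Nonempty (Sylow l N) := inferInstance
    have : (P : Subgroup N).Normal := ⟨fun x hx g => by
      rwa [show g * x * g⁻¹ = x from Subtype.ext (by
        simp only [coe_mul, coe_inv]; rw [ab x.2 g g.2, mul_inv_cancel_right])]⟩
    have := P.characteristic_of_normal this
    rcases mn' ((P : Subgroup N).map N.subtype) inferInstance (map_subtype_le _) with e | e
    · exact absurd ((map_eq_bot_iff_of_injective _ N.subtype_injective).1 e) (P.ne_bot_of_dvd_card d)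
    · exact e ▸ P.isPGroup'.map _
  have ty : ∀ x : G, x ∉ N → ¬ l ∣ ci (x : G ⧸ N) → ∃ W : Sylow l G, (W : Subgroup G) ≤ centralizer {x} := fun x hx e =>
    exists_sylow_le (not_dvd_of hl (ci_map_dvd (QuotientGroup.mk'_surjective N) x)
      (hQ.two_le fun e => hx ((QuotientGroup.eq_one_iff x).1 e)) (h x) index_ne_zero_of_finite e)
  have nW : ∀ W : Sylow l G, N ≤ W := fun W => pN.le_sylow_of_normal W
  have cN : N ≤ center G := by
    obtain ⟨x, x1, hx⟩ := hQ.exists_elt (l := l)
    obtain ⟨x, rfl⟩ := QuotientGroup.mk_surjective x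
    obtain ⟨W, hW⟩ := ty x (fun e => x1 ((QuotientGroup.eq_one_iff x).2 e)) hx
    have : (centralizer (N : Set G)).map (QuotientGroup.mk' N) = ⊤ :=
      (Normal.eq_bot_or_eq_top (Normal.map inferInstance _ (QuotientGroup.mk'_surjective N))).resolve_left fun e =>
        x1 (mem_bot.1 (e ▸ ⟨x, fun y hy => mem_centralizer_singleton_iff.1 (hW (nW W hy)), rfl⟩))
    have := congrArg (comap (QuotientGroup.mk' N)) this
    rw [comap_map_eq, QuotientGroup.ker_mk', sup_eq_left.2 ab, comap_top] at this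
    exact fun y hy => mem_center_iff.2 fun g => ((this ▸ mem_top g : g ∈ centralizer (N : Set G)) y hy).symm
  have pf : commutator G = ⊤ := by
    by_contra e
    have := sv _ inferInstance e
    exact ns (solvable_of_ker_le_range (commutator G).subtype Abelianization.of (by simp))
  obtain ⟨W⟩ : Nonempty (Sylow l G) := inferInstance
  have aW : IsMulCommutative (W : Subgroup G) := ⟨⟨fun a b => Subtype.ext (by
    by_cases m : (b : G) ∈ N
    · exact mem_center_iff.1 (cN m) a
    let W' := W.mapSurjective (QuotientGroup.mk'_surjective N)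
    have e := hQ.cent_eq W' (x := ((b : G) : G ⧸ N)) ⟨b, b.2, rfl⟩ fun e => m ((QuotientGroup.eq_one_iff _).1 e)
    obtain ⟨V, hV⟩ := ty b m (ty_of_le W' e.ge)
    have l1 : (V : Subgroup G) ≤ W := fun v hv => by
      have : (v : G ⧸ N) ∈ (W' : Subgroup (G ⧸ N)) := e ▸ mem_centralizer_singleton_iff.2
        (congrArg (QuotientGroup.mk' N) (mem_centralizer_singleton_iff.1 (hV hv)))
      obtain ⟨w, hw, e'⟩ := this
      have := mul_mem hw (nW W (QuotientGroup.eq.1 e'))
      simpa using this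
    exact mem_centralizer_singleton_iff.1 (hV (V.is_maximal' W.isPGroup' l1 ▸ a.2)))⟩⟩
  exact hb (eq_bot_iff.2 (abelian_hall_inf_commutator_inf_center aW W.card_coprime_index ▸
    le_inf (le_inf (nW W) (pf ▸ le_top)) cN))

theorem main (h : H2 G) : Group.IsSolvable G ∨ ∃ S : Subgroup G, S.Normal ∧ center G ⊓ S = ⊥ ∧ center G ⊔ S = ⊤ ∧ Good S := by
  refine or_iff_not_imp_left.2 fun ns => ?_
  obtain ⟨S, _, hS⟩ := exists_SS _ G rfl h ns
  exact ⟨S, inferInstance, (split h hS).1, (split h hS).2, hS.ident.1⟩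

end CF.Cs
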