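import Cfsg.Agent.BN.TIChar
import Cfsg.Agent.Char.More

/-!
# The derangement subgroup, I: characters of a group with a regular abelian TI subgroup
-/

namespace CF.Dg

open Subgroup Cfsg CF.Char CF.BN ComplexConjugate Finset

variable {G : Type*} [Group G] [Fintype G]

/-- The inner product of two characters as a natural number. -/
noncomputable def ni (φ ψ : G → ℂ) : ℕ := ⌊(classInner φ ψ).re⌋₊

theorem ni_eq {φ ψ : G → ℂ} (h : IsCharacter G φ) (h' : IsCharacter G ψ) :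
    (ni φ ψ : ℂ) = classInner φ ψ := by
  obtain ⟨n, hn⟩ := inner_char_eq_nat h h'
  simp [ni, hn]

theorem ni_self {f : G → ℂ} (h : IsCharacter G f) :
    ni f f = ∑ ψ : IrrCharacter G, ni f ψ ^ 2 := by
  apply Nat.cast_injective (R := ℂ)
  rw [ni_eq h h, inner_eq_sum_irr (char_isClassFunction h)]
  push_cast
  exact sum_congr rfl fun ψ _ => by rw [← ni_eq h (irr_isCharacter ψ.2), map_natCast, sq]

noncomputable instance {A : Type*} [Group A] [Finite A] : Fintype (A →* ℂˣ) := Fintype.ofFinite _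

theorem sum_dual (hc : ∀ a b : G, a * b = b * a) (F : (G → ℂ) → ℂ) :
    ∑ χ : IrrCharacter G, F χ = ∑ μ : G →* ℂˣ, F (fun x => μ x) := by
  refine (Function.Bijective.sum_comp (e := fun μ : G →* ℂˣ => (⟨_, irr_linear μ⟩ : IrrCharacter G))
    ⟨fun μ ν h => linear_injective (congrArg Subtype.val h), fun χ => ?_⟩ _).symm
  obtain ⟨μ, h⟩ := exists_linear_of_one (irr_isCharacter χ.2) (irr_one_eq_one_of_comm hc χ.2)
  exact ⟨μ, Subtype.ext h.symm⟩

open Classical in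
theorem inner_lin (μ ν : G →* ℂˣ) :
    classInner (fun x => (μ x : ℂ)) (fun x => ν x) = if μ = ν then 1 else 0 := by
  rw [inner_irr (irr_linear μ) (irr_linear ν)]
  exact if_congr linear_injective.eq_iff rfl rfl

variable {A : Subgroup G} [Fintype A] {f : G → ℂ}

/-- The multiplicity of `μ` in the restriction of `f`. -/
noncomputable def mu (A : Subgroup G) [Fintype A] (f : G → ℂ) (μ : A →* ℂˣ) : ℕ :=
  ni (fun x : A => f x) fun x => μ x

theorem mu_eq (h : IsCharacter G f) (μ : A →* ℂˣ) :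
    (mu A f μ : ℂ) = classInner (fun x : A => f x) fun x => μ x :=
  ni_eq (char_restrict h A) (char_linear μ)

theorem mu_sum (h : IsCharacter G f) (μ : A →* ℂˣ) :
    mu A f μ = ∑ ψ : IrrCharacter G, ni f ψ * mu A ψ μ := by
  apply Nat.cast_injective (R := ℂ)
  have e : (fun x : A => f x) = ∑ ψ : IrrCharacter G, (ni f ψ : ℂ) • fun x : A => (ψ : G → ℂ) x := by
    ext x
    rw [classFun_apply_eq_sum (char_isClassFunction h), Finset.sum_apply]
    exact sum_congr rfl fun ψ _ => by rw [← ni_eq h (irr_isCharacter ψ.2)]; rfl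
  rw [mu_eq h, e, inner_sum_left]
  push_cast
  exact sum_congr rfl fun ψ _ => by rw [Char.inner_smul_left, mu_eq (irr_isCharacter ψ.2)]

theorem res_eq (hc : ∀ a ∈ A, ∀ b ∈ A, a * b = b * a) (h : IsCharacter G f) (x : A) :
    f x = ∑ μ : A →* ℂˣ, mu A f μ * (μ x : ℂ) := by
  rw [classFun_apply_eq_sum (char_isClassFunction (char_restrict h A)) x,
    sum_dual (fun a b : A => Subtype.ext (hc _ a.2 _ b.2))
      fun χ => classInner (fun x : A => f x) χ * χ x]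
  exact sum_congr rfl fun μ _ => by rw [mu_eq h]

theorem deg_eq (hc : ∀ a ∈ A, ∀ b ∈ A, a * b = b * a) (h : IsCharacter G f) :
    f 1 = (∑ μ : A →* ℂˣ, mu A f μ : ℕ) := by
  simpa using res_eq hc h 1

theorem card_dual (hc : ∀ a ∈ A, ∀ b ∈ A, a * b = b * a) :
    Fintype.card (A →* ℂˣ) = Nat.card A := by
  have hc' : ∀ a b : A, a * b = b * a := fun a b => Subtype.ext (hc _ a.2 _ b.2)
  have := sum_dual hc' fun _ => 1
  simp only [sum_const, card_univ, nsmul_eq_mul, mul_one, Nat.cast_inj] at this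
  rw [← this, ← Nat.card_eq_fintype_card, card_irr_of_comm hc']

theorem key {k : ℕ} (hA : Tor A k) {μ ν : A →* ℂˣ} (hμ : μ ≠ 1) (hν : ν ≠ 1) :
    ∑ ψ : IrrCharacter G, ((mu A ψ μ : ℤ) - mu A ψ ν) ^ 2 ≤ 2 := by
  classical
  set θ : A → ℂ := (fun x => (μ x : ℂ)) - fun x => (ν x : ℂ) with hθ
  let c : normalizer (A : Set G) → (A →* ℂˣ) → (A →* ℂˣ) := fun g l =>
    l.comp (A.normalizerMonoidHom g).toMonoidHom
  have h0 : ∀ (g : normalizer (A : Set G)) (l l' : A →* ℂˣ), ∑ x : A, (l x : ℂ) * conj (c g l' x : ℂ) =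
      Nat.card A * if l = c g l' then 1 else 0 := fun g l l' => by rw [← card_mul_inner, inner_lin]
  have h1 : ∀ (g : normalizer (A : Set G)) (l : A →* ℂˣ), l ≠ 1 →
      ∑ x : A, (l x : ℂ) * conj (c g l x : ℂ) = if (g : G) ∈ A then (Nat.card A : ℂ) else 0 :=
    fun g l hl => by
      convert hA.sum_linear_mul_conj hl g using 1
      exact sum_congr (by congr; exact Subsingleton.elim _ _) fun _ _ => rfl
  have h2 : ∑ g : normalizer (A : Set G), (if (g : G) ∈ A then (Nat.card A : ℂ) else 0) =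
      Nat.card A * Nat.card A := by
    rw [← sum_filter, sum_const, ← Fintype.card_subtype, ← Nat.card_eq_fintype_card, nsmul_eq_mul]
    exact congrArg (fun n : ℕ => (n : ℂ) * _) (Nat.card_congr (subgroupOfEquivOfLe le_normalizer).toEquiv)
  have h3 : (Nat.card A : ℂ) * (Nat.card A * classInner (indFun A θ) (indFun A θ)) =
      ∑ g : normalizer (A : Set G), ∑ x : A, θ x * conj ((c g μ x : ℂ) - c g ν x) := by
    rw [inner_indFun_left A θ (indFun_isClassFunction A θ), card_mul_inner, mul_sum, sum_comm]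
    refine sum_congr rfl fun x _ => ?_
    by_cases hx : x = 1
    · simp [hθ, hx]
    · have := congrArg conj (hA.card_mul_indFun θ x.2 fun h => hx (Subtype.ext h))
      rw [map_mul, map_natCast, map_sum] at this
      rw [mul_left_comm, this, mul_sum]
      exact sum_congr (by congr) fun g _ => rfl
  have h4 : classInner (indFun A θ) (indFun A θ) =
      (∑ ψ : IrrCharacter G, ((mu A ψ μ : ℤ) - mu A ψ ν) ^ 2 : ℤ) := by
    rw [inner_eq_sum_irr (indFun_isClassFunction A θ)]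
    push_cast
    refine sum_congr rfl fun ψ _ => ?_
    rw [← Char.inner_conj_symm, inner_indFun_right A θ (irr_isClassFunction ψ.2), hθ,
      Char.inner_sub_right,
      ← mu_eq (irr_isCharacter ψ.2), ← mu_eq (irr_isCharacter ψ.2)]
    simp [sq]
  simp only [hθ, Pi.sub_apply, map_sub, sub_mul, mul_sub, sum_sub_distrib, h1 _ _ hμ, h1 _ _ hν, h2,
    h0 _ μ ν, h0 _ ν μ, ← mul_sum, sum_boole] at h3
  rw [← hθ, h4] at h3
  have h5 : (0 : ℤ) < Nat.card A := by exact_mod_cast Nat.card_pos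
  generalize ∑ ψ : IrrCharacter G, ((mu A ψ μ : ℤ) - mu A ψ ν) ^ 2 = s at h3 ⊢
  have h6 := (Int.cast_injective (α := ℂ)) (a₁ := Nat.card A * (Nat.card A * s))
    (a₂ := Nat.card A * Nat.card A - Nat.card A * (#{g | ν = c g μ} : ℕ) -
      (Nat.card A * (#{g | μ = c g ν} : ℕ) - Nat.card A * Nat.card A)) (by push_cast; exact_mod_cast h3)
  refine le_of_mul_le_mul_left (le_of_mul_le_mul_left ?_ h5) h5
  rw [h6]
  have := mul_nonneg h5.le (Nat.cast_nonneg (#{g | ν = c g μ}))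
  have := mul_nonneg h5.le (Nat.cast_nonneg (#{g | μ = c g ν}))
  linarith

theorem eq_one (hN : ∀ K : Subgroup G, K.Normal → A ≤ K → K = ⊤) (ψ : IrrCharacter G)
    (h : ∀ x ∈ A, (ψ : G → ℂ) x = (ψ : G → ℂ) 1) : ψ = oneIrr G :=
  Subtype.ext (irr_eq_one_of_charKer_eq_top ψ.2 (hN _ (charKer_normal (irr_isClassFunction ψ.2))
    fun x hx => (mem_charKer_iff (irr_isCharacter ψ.2)).2 (h x hx)))

open Classical in
theorem mu_one (μ : A →* ℂˣ) : mu A (oneIrr G : G → ℂ) μ = if μ = 1 then 1 else 0 := by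
  apply Nat.cast_injective (R := ℂ)
  rw [mu_eq (irr_isCharacter (oneIrr G).2)]
  refine (inner_lin (1 : A →* ℂˣ) μ).trans ?_
  simp [eq_comm]

theorem deg_pos (hc : ∀ a ∈ A, ∀ b ∈ A, a * b = b * a) (ψ : IrrCharacter G) :
    ∃ μ, mu A ψ μ ≠ 0 := by
  by_contra! h
  exact irr_one_ne_zero ψ.2 (by simp [deg_eq hc (irr_isCharacter ψ.2), h])

/-- Irreducible characters outside the permutation character are large. -/
theorem big {k : ℕ} (hA : Tor A k) (hN : ∀ K : Subgroup G, K.Normal → A ≤ K → K = ⊤)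
    {P : Finset (IrrCharacter G)} (hP : ∀ μ, ∑ ψ ∈ P, mu A ψ μ = 1) (he : oneIrr G ∈ P)
    (h3 : 3 ≤ #P) {ψ : IrrCharacter G} (hψ : ψ ∉ P) {μ : A →* ℂˣ} (hμ : μ ≠ 1) :
    mu A ψ μ ≠ 0 := by
  classical
  have h0 : ∀ χ ∈ P, ∀ χ' ∈ P, χ ≠ χ' → ∀ μ, mu A χ μ + mu A χ' μ ≤ 1 := fun χ h χ' h' e μ => by
    rw [← hP μ, ← sum_pair (f := fun ψ : IrrCharacter G => mu A ψ μ) e]
    exact sum_le_sum_of_subset (by simp [insert_subset_iff, h, h'])
  have h1 : ∀ μ ν : A →* ℂˣ, μ ≠ 1 → ν ≠ 1 → ∀ χ ∈ P, mu A χ μ ≠ mu A χ ν →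
      mu A ψ μ = mu A ψ ν := fun μ ν hμ hν χ hχ h => by
    obtain ⟨χ', h', e, h2⟩ : ∃ χ' ∈ P, χ' ≠ χ ∧ mu A χ' μ ≠ mu A χ' ν := by
      by_contra! h2
      have := (hP μ).trans (hP ν).symm
      rw [← add_sum_erase _ _ hχ, ← add_sum_erase _ _ hχ, sum_congr rfl fun χ' h' =>
        h2 χ' (mem_of_mem_erase h') (ne_of_mem_erase h')] at this
      omega
    have h4 := (sum_le_sum_of_subset_of_nonneg (subset_univ {ψ, χ', χ})
      fun _ _ _ => sq_nonneg _).trans (key hA hμ hν)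
    rw [sum_insert (by simp [show ψ ≠ χ' from fun e => hψ (e ▸ h'),
      show ψ ≠ χ from fun e => hψ (e ▸ hχ)]), sum_pair e] at h4
    have h5 : ∀ a b : ℕ, a ≠ b → 1 ≤ ((a : ℤ) - b) ^ 2 := fun a b h =>
      (one_le_sq_iff_one_le_abs _).2 (Int.one_le_abs (by omega))
    by_contra h6
    linarith [h5 _ _ h, h5 _ _ h2, h5 _ _ h6]
  obtain ⟨χ₁, h₁, χ₂, h₂, e⟩ := one_lt_card.1 (show 1 < #(P.erase (oneIrr G)) by
    rw [card_erase_of_mem he]; omega)
  rw [mem_erase] at h₁ h₂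
  obtain ⟨μ₁, m₁⟩ := deg_pos hA.comm χ₁
  obtain ⟨μ₂, m₂⟩ := deg_pos hA.comm χ₂
  have n₁ : μ₁ ≠ 1 := fun h => by have := h0 _ h₁.2 _ he h₁.1 μ₁; simp [mu_one, h] at this m₁; omega
  have n₂ : μ₂ ≠ 1 := fun h => by have := h0 _ h₂.2 _ he h₂.1 μ₂; simp [mu_one, h] at this m₂; omega
  have h4 := h0 _ h₁.2 _ h₂.2 e μ₂
  have h5 : ∀ ν ≠ 1, mu A ψ ν = mu A ψ μ₁ := fun ν hν => by
    by_cases h : mu A χ₁ ν = mu A χ₁ μ₁
    · rw [h1 _ _ hν n₂ _ h₁.2 (by omega), h1 _ _ n₁ n₂ _ h₁.2 (by omega)]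
    · exact h1 _ _ hν n₁ _ h₁.2 h
  have h6 : mu A ψ μ = 0 → ∀ x : A, (ψ : G → ℂ) x = mu A ψ 1 := fun h x => by
    rw [res_eq hA.comm (irr_isCharacter ψ.2), sum_eq_single 1 (fun ν _ hν => by
      rw [h5 ν hν, ← h5 μ hμ, h]; simp) (by simp)]
    simp
  exact fun h => hψ (eq_one hN ψ (fun x hx => (h6 h ⟨x, hx⟩).trans (h6 h 1).symm) ▸ he)

open Classical in
theorem no_small {k d : ℕ} (hA : Tor A k) (hN : ∀ K : Subgroup G, K.Normal → A ≤ K → K = ⊤)
    {P : Finset (IrrCharacter G)} (hP : ∀ μ, ∑ ψ ∈ P, mu A ψ μ = 1) (he : oneIrr G ∈ P)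
    (hd : 3 ≤ d) (h3 : 3 ≤ #P) (hn : Nat.card A < (d + 1) ^ 2) {χ : IrrCharacter G} (hχ : χ ∈ P)
    {M : ℕ} (hM : ∑ μ, mu A χ μ = M) (h2 : 2 ≤ M) (hMd : d * M + 1 ≤ Nat.card A) : False := by
  have hc := hA.comm
  have c := irr_isCharacter χ.2
  have h0 : ∀ μ, mu A χ μ ≤ 1 := fun μ =>
    hP μ ▸ single_le_sum (f := fun ψ : IrrCharacter G => mu A ψ μ) (fun _ _ => Nat.zero_le _) hχ
  set T : Finset (A →* ℂˣ) := {μ | mu A χ μ = 1} with hT
  have h1 : ∀ μ, mu A χ μ = if mu A χ μ = 1 then 1 else 0 := fun μ => by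
    have := h0 μ; split_ifs <;> omega
  have hTM : #T = M := by rw [← hM, sum_congr rfl fun μ _ => h1 μ, card_filter]
  have hr : ∀ x : A, (χ : G → ℂ) x = ∑ t ∈ T, (t x : ℂ) := fun x => by
    rw [res_eq hc c, sum_filter]
    exact sum_congr rfl fun μ _ => by
      by_cases h : mu A χ μ = 1
      · simp [h]
      · simp [h, show mu A χ μ = 0 by have := h0 μ; omega]
  have hb := fun ψ hψ μ hμ => @big _ _ _ _ _ _ hA hN _ hP he h3 ψ hψ μ hμ
  have cθ := char_mul c (char_conj c)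
  set θ := (χ : G → ℂ) * fun g => conj ((χ : G → ℂ) g) with hθ
  have hMd' : M ≤ d + 1 := by by_contra; nlinarith
  -- the norm of `χ * conj χ` is two
  have t1 : ni θ (oneIrr G) = 1 := by
    apply Nat.cast_injective (R := ℂ)
    rw [ni_eq cθ (irr_isCharacter (oneIrr G).2), Nat.cast_one, ← inner_irr_self χ.2,
      inner_eq_inner_one (χ : G → ℂ)]
    rfl
  have t2 : mu A θ 1 = M := by
    apply Nat.cast_injective (R := ℂ)
    have e : (fun x : A => (χ : G → ℂ) x) = ∑ t ∈ T, fun x => (t x : ℂ) := by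
      ext x; rw [hr, Finset.sum_apply]
    rw [mu_eq cθ]
    refine (inner_eq_inner_one (fun x : A => (χ : G → ℂ) x) _).symm.trans ?_
    conv_lhs => arg 2; rw [e]
    rw [inner_sum_right, sum_congr rfl fun t ht => (mu_eq c t).symm.trans
      (congrArg _ (mem_filter.1 ht).2), sum_const, hTM]
    simp
  have t3 : ∑ μ, mu A θ μ = M * M := by
    apply Nat.cast_injective (R := ℂ)
    rw [← deg_eq hc cθ, hθ, Pi.mul_apply, deg_eq hc c, hM]
    simp
  let D : IrrCharacter G → ℕ := fun ψ => ∑ μ ∈ univ.erase 1, mu A ψ μ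
  have t4 : M + ∑ ψ : IrrCharacter G, ni θ ψ * D ψ = M * M := by
    rw [← t3, ← add_sum_erase _ (mu A θ) (mem_univ 1), t2, sum_congr rfl fun μ _ => mu_sum cθ μ, sum_comm]
    simp only [D, mul_sum]
  have d1 : ∀ ψ ∉ P, Nat.card A ≤ D ψ + 1 := fun ψ hψ => by
    have := card_nsmul_le_sum (univ.erase (1 : A →* ℂˣ)) (mu A ψ) 1 fun μ hμ =>
      Nat.pos_of_ne_zero (hb ψ hψ μ (ne_of_mem_erase hμ))
    rw [card_erase_of_mem (mem_univ _), card_univ, card_dual hc, smul_eq_mul] at this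
    change _ ≤ D ψ at this
    omega
  have d0 : ∀ ψ ∈ P, ψ ≠ oneIrr G → mu A ψ 1 = 0 := fun ψ hψ e => by
    have := hP 1
    rw [← add_sum_erase _ _ he, mu_one, if_pos rfl] at this
    exact sum_eq_zero_iff.1 (show ∑ ψ ∈ P.erase (oneIrr G), mu A ψ 1 = 0 by omega) ψ
      (mem_erase.2 ⟨e, hψ⟩)
  have d2 : ∀ ψ, ψ ≠ oneIrr G → D ψ ≠ 0 := fun ψ e h => by
    by_cases hψ : ψ ∈ P
    · obtain ⟨μ, hμ⟩ := deg_pos hc ψ
      exact hμ (sum_eq_zero_iff.1 h μ (mem_erase.2 ⟨fun h' => hμ (h' ▸ d0 ψ hψ e), mem_univ _⟩))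
    · have := d1 ψ hψ; nlinarith
  obtain ⟨ψ₀, p₀, b₀⟩ : ∃ ψ ∉ P, ni θ ψ ≠ 0 := by
    by_contra! h
    rw [mu_sum cθ, sum_eq_single (oneIrr G) (fun ψ _ e => by
      by_cases hψ : ψ ∈ P <;> simp [d0 ψ, h ψ, hψ, e]) (by simp), t1, mu_one] at t2
    simp at t2; omega
  have e₀ : oneIrr G ≠ ψ₀ := fun e => p₀ (e ▸ he)
  rw [← add_sum_erase _ _ (mem_univ ψ₀)] at t4
  have t5 := d1 ψ₀ p₀
  have t6 : M * M ≤ M + D ψ₀ := by nlinarith
  have t7 : D ψ₀ ≤ ni θ ψ₀ * D ψ₀ := Nat.le_mul_of_pos_left _ (Nat.pos_of_ne_zero b₀)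
  have t8 : ni θ ψ₀ = 1 := Nat.eq_of_mul_eq_mul_right (Nat.pos_of_ne_zero (d2 _ e₀.symm)) (by omega)
  have t9 : ni θ θ = 2 := by
    rw [ni_self cθ, ← sum_subset (subset_univ {oneIrr G, ψ₀}), sum_pair e₀, t1, t8]
    · rfl
    intro ψ _ hψ
    simp only [mem_insert, mem_singleton, not_or] at hψ
    have := sum_eq_zero_iff.1 (show ∑ ψ ∈ univ.erase ψ₀, ni θ ψ * D ψ = 0 by omega) ψ
      (mem_erase.2 ⟨hψ.2, mem_univ _⟩)
    simpa [d2 ψ hψ.1] using this
  -- the square of `χ`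
  have cη := char_mul c c
  set η := (χ : G → ℂ) * (χ : G → ℂ) with hη
  have s1 : ni η η = 2 := by
    rw [← t9]
    apply Nat.cast_injective (R := ℂ)
    rw [ni_eq cη cη, ni_eq cθ cθ, inner_def, inner_def]
    exact congrArg _ (sum_congr rfl fun g _ => by simp [hη, hθ]; ring)
  have s2 : ∀ ψ : IrrCharacter G, ni η ψ ≤ 1 := fun ψ => by
    have := single_le_sum (f := fun ψ : IrrCharacter G => ni η ψ ^ 2) (fun _ _ => Nat.zero_le _)
      (mem_univ ψ)
    rw [← ni_self cη, s1] at this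
    nlinarith
  have s3 : ∀ μ, mu A η μ = #{x ∈ T ×ˢ T | x.1 * x.2 = μ} := fun μ => by
    apply Nat.cast_injective (R := ℂ)
    have e : (fun x : A => η x) = ∑ s ∈ T ×ˢ T, fun x => ((s.1 * s.2) x : ℂ) := by
      ext x; simp [hη, hr, sum_mul_sum, Finset.sum_apply, sum_product]
    rw [mu_eq cη, e, inner_sum_left, sum_congr rfl fun s _ => inner_lin _ _, sum_boole]
  by_cases h : ∃ ψ ∉ P, ni η ψ ≠ 0
  · obtain ⟨ψ, hψ, h⟩ := h
    have s4 : univ.erase 1 ⊆ T.sym2.image (Sym2.lift ⟨fun s t => s * t, mul_comm⟩) := fun μ hμ => by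
      have := single_le_sum (f := fun ψ : IrrCharacter G => ni η ψ * mu A ψ μ)
        (fun _ _ => Nat.zero_le _) (mem_univ ψ)
      rw [← mu_sum cη, s3] at this
      obtain ⟨x, hx⟩ := card_pos.1 ((Nat.mul_pos (Nat.pos_of_ne_zero h) (Nat.pos_of_ne_zero
        (hb ψ hψ μ (ne_of_mem_erase hμ)))).trans_le this)
      rw [mem_filter, mem_product] at hx
      exact mem_image.2 ⟨s(x.1, x.2), mk_mem_sym2_iff.2 hx.1, hx.2⟩
    have s5 := (card_le_card s4).trans card_image_le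
    rw [card_erase_of_mem (mem_univ _), card_univ, card_dual hc, card_sym2, hTM,
      Nat.choose_two_right, Nat.add_sub_cancel] at s5
    have : (M + 1) * M ≤ (d + 2) * M := Nat.mul_le_mul_right _ (by omega)
    have : 2 * (d * M) ≤ (M + 1) * M := by omega
    nlinarith
  · push Not at h
    obtain ⟨s, hs, t, ht, e⟩ := one_lt_card.1 (show 1 < #T by omega)
    have s4 : mu A η (s * t) ≤ 1 := by
      rw [mu_sum cη, ← hP (s * t), ← sum_subset (subset_univ P) fun ψ _ hψ => by simp [h ψ hψ]]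
      exact sum_le_sum fun ψ _ => (Nat.mul_le_mul_right _ (s2 ψ)).trans_eq (one_mul _)
    rw [s3] at s4
    exact e (congrArg Prod.fst (card_le_one.1 s4 (s, t) (by simp [hs, ht]) (t, s)
      (by simp [hs, ht, mul_comm t s])))

theorem char_main {Ω : Type*} [MulAction G Ω] [Finite Ω] [Nonempty Ω] {k d : ℕ} (hA : Tor A k)
    (hN : ∀ K : Subgroup G, K.Normal → A ≤ K → K = ⊤) {g : G} (hg : g ∈ normalizer (A : Set G))
    (hg' : g ∉ A) (hΩ : Nat.card Ω = Nat.card A) (hr : ∀ x ∈ A, ∀ a : Ω, x • a = a → x = 1)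
    (hd : 3 ≤ d) (hn : Nat.card A < (d + 1) ^ 2)
    (h : d + 1 ≤ Nat.card (MulAction.orbitRel.Quotient G (Ω × Ω))) : False := by
  classical
  have hc := hA.comm
  have cπ := char_fixedBy (G := G) Ω
  set π : G → ℂ := fun g => (Nat.card (MulAction.fixedBy Ω g) : ℂ) with hπ
  have h1 : ∀ μ, mu A π μ = 1 := fun μ => by
    apply Nat.cast_injective (R := ℂ)
    have e : (fun x : A => π x) = regChar A := by
      ext x
      by_cases hx : x = 1
      · simp [hx, hπ, regChar_one, hΩ]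
      · have : IsEmpty (MulAction.fixedBy Ω (x : G)) :=
          ⟨fun a => hx (Subtype.ext (hr _ x.2 _ a.2))⟩
        rw [regChar_of_ne hx, hπ]
        exact Nat.cast_eq_zero.2 Nat.card_of_isEmpty
    rw [mu_eq cπ, e, inner_regChar_left]
    simp
  let P : Finset (IrrCharacter G) := {ψ | ni π ψ ≠ 0}
  have h2 : ∀ ψ ∈ P, ni π ψ = 1 := fun ψ hψ => by
    obtain ⟨μ, hμ⟩ := deg_pos hc ψ
    have := single_le_sum (f := fun ψ : IrrCharacter G => ni π ψ * mu A ψ μ)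
      (fun _ _ => Nat.zero_le _) (mem_univ ψ)
    rw [← mu_sum cπ, h1] at this
    have h := Nat.pos_of_ne_zero (mem_filter.1 hψ).2
    nlinarith [Nat.pos_of_ne_zero hμ]
  have h2' : ∀ ψ ∉ P, ni π ψ = 0 := fun ψ hψ => by simpa [P] using hψ
  have hP : ∀ μ, ∑ ψ ∈ P, mu A ψ μ = 1 := fun μ => by
    rw [← h1 μ, mu_sum cπ, ← sum_subset (subset_univ P) fun ψ _ hψ => by simp [h2' ψ hψ]]
    exact sum_congr rfl fun ψ hψ => by rw [h2 ψ hψ, one_mul]
  have he : oneIrr G ∈ P := mem_filter.2 ⟨mem_univ _, fun h => by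
    have := ni_eq cπ (irr_isCharacter (oneIrr G).2)
    rw [h, coe_oneIrr, hπ, inner_fixedBy_one] at this
    have : Nonempty (MulAction.orbitRel.Quotient G Ω) := ⟨Quotient.mk _ (Classical.arbitrary Ω)⟩
    exact Nat.card_pos.ne (Nat.cast_injective ‹((0 : ℕ) : ℂ) = _›)⟩
  have h3 : d + 1 ≤ #P := by
    have := ni_eq cπ cπ
    rw [hπ, inner_fixedBy_fixedBy, ← hπ, Nat.cast_inj, ni_self cπ,
      ← sum_subset (subset_univ P) (fun ψ _ hψ => by simp [h2' ψ hψ]),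
      sum_congr rfl fun ψ hψ => by rw [h2 ψ hψ]] at this
    simpa [← this] using h
  obtain ⟨χ, hχ, h4⟩ := exists_min_image (P.erase (oneIrr G)) (fun ψ => ∑ μ, mu A ψ μ)
    (card_pos.1 (by rw [card_erase_of_mem he]; omega))
  have h5 := card_nsmul_le_sum _ _ _ h4
  have h6 : ∑ ψ ∈ P, ∑ μ, mu A ψ μ = Nat.card A := by
    rw [sum_comm, sum_congr rfl fun μ _ => hP μ]; simp [card_dual hc]
  rw [← add_sum_erase _ _ he] at h6
  simp only [mu_one, sum_ite_eq', mem_univ, if_true] at h6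
  rw [card_erase_of_mem he, smul_eq_mul] at h5
  rw [mem_erase] at hχ
  refine no_small hA hN hP he hd (by omega) hn hχ.2 rfl ?_ (by
    have := Nat.mul_le_mul_right (∑ μ, mu A χ μ) (show d ≤ #P - 1 by omega); omega)
  by_contra h7
  obtain ⟨μ, hμ⟩ := deg_pos hc χ
  have h8 := single_le_sum (f := mu A χ) (fun _ _ => Nat.zero_le _) (mem_univ μ)
  obtain ⟨l, hl⟩ := exists_linear_of_one (irr_isCharacter χ.2) (by
    rw [deg_eq hc (irr_isCharacter χ.2), show ∑ μ, mu A χ μ = 1 by omega, Nat.cast_one])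
  refine hχ.1 (eq_one hN χ fun x hx => ?_)
  obtain ⟨a, -, ha⟩ := hA.fpf g hg hg' x hx
  have := congrArg l ha
  rw [map_mul, map_mul, map_mul, map_inv, mul_inv_cancel_comm, right_eq_mul] at this
  simp [hl, this]

end CF.Dg
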