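import Cfsg.Agent.Perm.Basic
import Cfsg.Agent.Perm.Count
import Cfsg.Agent.Transfer.SylowIn

/-!
# The derangement subgroup, II: supplements and the regular Sylow subgroup
-/

namespace CF.Dg

open MulAction Subgroup CF.Transfer CF.Perm Finset

variable {G : Type*} [Group G] {Ω : Type*} [MulAction G Ω] {D M K L : Subgroup G}

/-- Every element outside `D` fixes exactly one point. -/
def U1 (D : Subgroup G) (Ω : Type*) [MulAction G Ω] : Prop := ∀ g ∉ D, ∃! a : Ω, g • a = a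

theorem U1.le (h : U1 D Ω) {a b : Ω} (hab : b ≠ a) : stabilizer G a ⊓ stabilizer G b ≤ D :=
  fun g hg => by_contra fun h1 => hab ((h g h1).unique hg.2 hg.1)

theorem U1.sub (h : U1 D Ω) (M : Subgroup G) : U1 (D.subgroupOf M) Ω := fun g hg => h g hg

theorem sq_le {d k i : ℕ} (h1 : d ∣ k - 1) (h2 : d ∣ k * i - 1) (hk : 1 < k) (hi : 1 < i) :
    (d + 1) ^ 2 ≤ k * i := by
  obtain ⟨k, rfl⟩ : ∃ j, k = j + 1 := ⟨k - 1, by omega⟩
  obtain ⟨i, rfl⟩ : ∃ j, i = j + 1 := ⟨i - 1, by omega⟩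
  rw [Nat.add_sub_cancel] at h1
  rw [show (k + 1) * (i + 1) - 1 = k * (i + 1) + i by rw [Nat.sub_eq_iff_eq_add (by nlinarith)]; ring,
    Nat.dvd_add_right (Dvd.dvd.mul_right h1 _)] at h2
  have := Nat.le_of_dvd (by omega) h2
  have := Nat.le_of_dvd (by omega) h1
  rw [sq]
  exact Nat.mul_le_mul (by omega) (by omega)

theorem exists_not_mem (hD : D ≠ ⊤) (hM : M ⊔ D = ⊤) : ∃ g ∈ M, g ∉ D := by
  by_contra! h
  exact hD (hM ▸ (sup_eq_right.2 h).symm)

variable [Finite G] [Finite Ω]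

theorem u1_of [IsPretransitive G Ω] [Nonempty Ω] (h : ∀ g ∉ D, ∃ a : Ω, g • a = a) :
    U1 D Ω ∧ IsPretransitive D Ω := by
  classical
  have := Fintype.ofFinite G
  have h1 := sum_card_fixedBy_of_trans (G := G) (Ω := Ω)
  have h2 := sum_card_fixedBy_eq (G := D) (Ω := Ω)
  rw [← sum_filter_add_sum_filter_not univ (· ∈ D), sum_subtype (p := (· ∈ D)) _ (by simp)] at h1
  have h3 : ∀ g ∈ univ.filter (· ∉ D), 1 ≤ Nat.card (fixedBy Ω g) := fun g hg => by
    obtain ⟨a, ha⟩ := h g (mem_filter.1 hg).2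
    exact Nat.card_pos_iff.2 ⟨⟨⟨a, ha⟩⟩, inferInstance⟩
  have h4 := card_filter_add_card_filter_not (s := univ) (· ∈ D)
  rw [card_univ, ← Fintype.card_subtype, ← Nat.card_eq_fintype_card, ← Nat.card_eq_fintype_card,
    card_eq_sum_ones] at h4
  have h5 := sum_le_sum h3
  have : Nonempty (orbitRel.Quotient D Ω) := ⟨Quotient.mk _ (Classical.arbitrary Ω)⟩
  have h6 := Nat.card_pos (α := orbitRel.Quotient D Ω)
  have h7 := Nat.le_mul_of_pos_left (Nat.card D) h6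
  change ∑ g : D, Nat.card (fixedBy Ω (g : G)) = _ at h2
  refine ⟨fun g hg => ?_, (pretransitive_iff_subsingleton_quotient _ _).2
    (Nat.card_eq_one_iff_unique.1 (Nat.eq_of_mul_eq_mul_right (Nat.card_pos (α := D)) ?_)).1⟩
  · obtain ⟨⟨a, ha⟩, h8⟩ := Nat.card_eq_one_iff_exists.1 ((sum_eq_sum_iff_of_le h3).1 (by omega) g
      (mem_filter.2 ⟨mem_univ _, hg⟩)).symm
    exact ⟨a, ha, fun b hb => congrArg Subtype.val (h8 ⟨b, hb⟩)⟩
  · omega

omit [Finite G] [Finite Ω] in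
theorem sup_of_trans (h : ∀ g ∈ M, ∀ a : Ω, ∃ n ∈ D ⊓ M, n • a = g • a) (a : Ω) :
    M ≤ M ⊓ stabilizer G a ⊔ D := fun g hg => by
  obtain ⟨n, hn, h1⟩ := h g hg a
  rw [← mul_inv_cancel_left n g]
  exact mul_mem (mem_sup_right hn.1) (mem_sup_left ⟨M.mul_mem (M.inv_mem hn.2) hg, by
    change (n⁻¹ * g) • a = a
    rw [mul_smul, ← h1, inv_smul_smul]⟩)

variable [hD : D.Normal]

omit [Finite G] [Finite Ω] in
theorem relIndex_sp (hM : M ⊔ D = ⊤) : D.relIndex M = D.index := by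
  rw [← relIndex_sup_right, hM, relIndex_top_right]

omit [Finite G] [Finite Ω] in
theorem card_orb (hM : M ⊔ D = ⊤) {x : Ω} (hx : M ⊓ stabilizer G x ≤ D) :
    (orbit M x).ncard = (stabilizer G x).relIndex (D ⊓ M) * D.index := by
  rw [← Nat.card_coe_set_eq, card_orbit_subgroup, ← relIndex_sp hM, relIndex_inf_mul_relIndex,
    ← inf_relIndex_right, ← inf_relIndex_right (_ ⊓ D), inf_right_comm, inf_comm _ M,
    inf_eq_left.2 hx]

omit [Finite G] in
theorem dvd_ncard (hM : M ⊔ D = ⊤) (X : Set Ω) (hX : ∀ g ∈ M, ∀ x ∈ X, g • x ∈ X)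
    (h : ∀ x ∈ X, M ⊓ stabilizer G x ≤ D) : D.index ∣ X.ncard := by
  induction hn : X.ncard using Nat.strong_induction_on generalizing X with | _ n ih
  rcases X.eq_empty_or_nonempty with rfl | ⟨b, hb⟩
  · simp [← hn]
  have h1 : orbit M b ⊆ X := by rintro _ ⟨g, rfl⟩; exact hX g g.2 b hb
  rw [← hn, ← Set.ncard_sdiff_add_ncard_of_subset h1, card_orb hM (h b hb)]
  refine dvd_add (ih _ (hn ▸ Set.ncard_lt_ncard ⟨Set.sdiff_subset, fun h1 =>
    (h1 hb).2 (mem_orbit_self b)⟩) (X \ orbit M b) (fun g hg x hx => ⟨hX g hg x hx.1, fun h2 => hx.2 ?_⟩)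
      (fun a ha => h a ha.1) rfl) (dvd_mul_left _ _)
  simpa [Subgroup.smul_def] using mapsTo_smul_orbit (⟨g, hg⟩⁻¹ : M) b h2

omit [Finite G] in
theorem dvd_sub_one (h : U1 D Ω) (hL : L ⊔ D = ⊤) {a : Ω} (ha : L ≤ stabilizer G a) {X : Set Ω}
    (hX : ∀ g ∈ L, ∀ x ∈ X, g • x ∈ X) (haX : a ∈ X) : D.index ∣ X.ncard - 1 := by
  rw [← Set.ncard_sdiff_singleton_of_mem haX]
  exact dvd_ncard hL _ (fun g hg x hx => ⟨hX g hg x hx.1, fun h1 => hx.2
    (smul_left_cancel g (h1.trans (ha hg).symm))⟩) fun x hx =>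
      (inf_le_inf_right _ ha).trans (h.le hx.2)

theorem same_orb (h : U1 D Ω) {g g' : G} (hg : g ∈ M) (hg' : g' ∈ M) (h1 : g ∉ D) (h1' : g' ∉ D)
    {a a' : Ω} (ha : g • a = a) (ha' : g' • a' = a') : a' ∈ orbit M a := by
  classical
  have := Fintype.ofFinite G
  have := Fintype.ofFinite Ω
  let F : Ω → Finset G := fun y => {u | u ∈ M ⊓ stabilizer G y ∧ u ∉ D}
  have k1 : ∀ {g : G} {a : Ω}, g ∈ M → g ∉ D → g • a = a →
      Nat.card M ≤ 2 * ∑ y ∈ (orbit M a).toFinset, #(F y) := fun {g a} hg h1 ha => by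
    rw [← card_orbit_mul_card_stabilizer (G := M) a, mul_sum, Nat.card_coe_set_eq,
      Set.ncard_eq_toFinset_card', ← smul_eq_mul]
    refine card_nsmul_le_sum _ _ _ fun y hy => ?_
    obtain ⟨m, rfl⟩ := Set.mem_toFinset.1 hy
    have k2 : ¬ M ⊓ stabilizer G (m • a) ≤ D := fun k => h1 (by
      simpa [mul_assoc] using hD.conj_mem' _ (k (show m * g * (m : G)⁻¹ ∈ _ from
        ⟨M.mul_mem (M.mul_mem m.2 hg) (M.inv_mem m.2), by
          simp [mul_smul, Subgroup.smul_def, ha]⟩)) m)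
    have k3 := CF.Transfer.card_mul_relIndex (inf_le_right (a := D) (b := M ⊓ stabilizer G (m • a)))
    have k4 : 2 ≤ (D ⊓ (M ⊓ stabilizer G (m • a))).relIndex (M ⊓ stabilizer G (m • a)) := by
      have := relIndex_ne_zero' (D ⊓ (M ⊓ stabilizer G (m • a))) (M ⊓ stabilizer G (m • a))
      have := mt relIndex_eq_one.1 fun k => k2 (k.trans (inf_le_left (b := M ⊓ stabilizer G (m • a))))
      omega
    have k5 : Nat.card (stabilizer M a) = Nat.card (M ⊓ stabilizer G (m • a) : Subgroup G) := by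
      rw [inf_comm, ← card_stabilizer_subgroup]
      exact Nat.card_congr (stabilizerEquivStabilizerOfOrbitRel (mem_orbit a m)).toEquiv.symm
    have k6 := card_filter_add_card_filter_not (s := {u | u ∈ M ⊓ stabilizer G (m • a)}) (· ∈ D)
    rw [filter_filter, filter_filter, ← Fintype.card_subtype, ← Fintype.card_subtype (· ∈ _),
      ← Nat.card_eq_fintype_card, ← Nat.card_eq_fintype_card] at k6
    have k7 : Nat.card {u // u ∈ M ⊓ stabilizer G (m • a) ∧ u ∈ D} =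
      Nat.card (D ⊓ (M ⊓ stabilizer G (m • a)) : Subgroup G) :=
        Nat.card_congr (Equiv.subtypeEquivRight fun _ => and_comm)
    change _ ≤ 2 * #{u | u ∈ M ⊓ stabilizer G (m • a) ∧ u ∉ D}
    nlinarith
  by_contra h2
  have h3 : Disjoint (orbit M a).toFinset (orbit M a').toFinset := disjoint_left.2 fun y hy hy' =>
    h2 (orbit_eq_iff.2 (Set.mem_toFinset.1 hy) ▸ mem_orbit_symm.1 (Set.mem_toFinset.1 hy'))
  have h4 := card_biUnion (s := (orbit M a).toFinset ∪ (orbit M a').toFinset) (t := F)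
    fun x _ y _ hxy => disjoint_left.2 fun u hu hu' => (mem_filter.1 hu).2.2
      (h.le hxy ⟨(mem_filter.1 hu').2.1.2, (mem_filter.1 hu).2.1.2⟩)
  have h5 : #(((orbit M a).toFinset ∪ (orbit M a').toFinset).biUnion F) < #{u | u ∈ M} :=
    card_lt_card ⟨fun u hu => by
      obtain ⟨y, -, hy⟩ := mem_biUnion.1 hu
      exact mem_filter.2 ⟨mem_univ _, (mem_filter.1 hy).2.1.1⟩, fun k => by
        obtain ⟨y, -, hy⟩ := mem_biUnion.1 (k (mem_filter.2 ⟨mem_univ _, M.one_mem⟩))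
        exact (mem_filter.1 hy).2.2 D.one_mem⟩
  rw [h4, sum_union h3, ← Fintype.card_subtype, ← Nat.card_eq_fintype_card] at h5
  have := k1 hg h1 ha
  have := k1 hg' h1' ha'
  omega

theorem exists_sp (h : U1 D Ω) (hD' : D ≠ ⊤) (hM : M ⊔ D = ⊤) :
    ∃ a : Ω, M ⊓ stabilizer G a ⊔ D = ⊤ := by
  obtain ⟨g, hg, h1⟩ := exists_not_mem hD' hM
  obtain ⟨a, ha, -⟩ := h g h1
  have : Nonempty (orbit M a) := ⟨⟨a, mem_orbit_self a⟩⟩
  have h2 := (u1_of (G := M) (Ω := orbit M a) (D := D.subgroupOf M) fun g' h' => by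
    obtain ⟨a', ha', -⟩ := h g' h'
    exact ⟨⟨a', same_orb h hg g'.2 h1 h' ha ha'⟩, Subtype.ext ha'⟩).2
  refine ⟨a, eq_top_iff.2 (hM.ge.trans (sup_le (fun u hu => ?_) le_sup_right))⟩
  obtain ⟨n, hn⟩ := h2.1 ⟨a, mem_orbit_self a⟩ ⟨_, mem_orbit a (⟨u, hu⟩ : M)⟩
  have hn' : ((n : M) : G) • a = u • a := congrArg Subtype.val hn
  rw [← mul_inv_cancel_left ((n : M) : G) u]
  exact mul_mem (mem_sup_right n.2) (mem_sup_left ⟨M.mul_mem (M.inv_mem n.1.2) hu, by
    change (_ * u) • a = a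
    rw [mul_smul, ← hn', inv_smul_smul]⟩)

theorem stab_sp [IsPretransitive G Ω] (h : U1 D Ω) (a : Ω) : stabilizer G a ⊔ D = ⊤ := by
  have : Nonempty Ω := ⟨a⟩
  have := (u1_of fun g hg => (h g hg).exists).2
  simpa using sup_of_trans (M := ⊤) (D := D) (fun g _ b => by
    obtain ⟨n, hn⟩ := exists_smul_eq D b (g • b)
    exact ⟨n, ⟨n.2, trivial⟩, hn⟩) a

theorem dvd_card [IsPretransitive G Ω] [Nonempty Ω] (h : U1 D Ω) : D.index ∣ Nat.card Ω - 1 := by
  rw [← Set.ncard_univ]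
  exact dvd_sub_one h (stab_sp h (Classical.arbitrary Ω)) le_rfl (fun _ _ _ _ => trivial) trivial

theorem prim [IsPretransitive G Ω] [Nonempty Ω] (h : U1 D Ω) (hn : Nat.card Ω < (D.index + 1) ^ 2) :
    IsPreprimitive G Ω := by
  refine .of_isTrivialBlock_base (Classical.arbitrary Ω) fun {B} ha hB => ?_
  have h1 := dvd_sub_one h (stab_sp h _) le_rfl (fun g hg x hx => by
    rw [← hB.smul_eq_of_mem ha (show g • _ ∈ B by rwa [hg])]
    exact Set.smul_mem_smul_set hx) ha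
  have h2 := hB.ncard_block_mul_ncard_orbit_eq ⟨_, ha⟩
  by_cases h3 : 1 < B.ncard
  · have h4 := mt (sq_le h1 (h2 ▸ dvd_card h) h3) (by omega)
    refine .inr (Set.eq_of_subset_of_ncard_le B.subset_univ ?_)
    rw [Set.ncard_univ, ← h2]
    exact (Nat.mul_le_mul_left _ (not_lt.1 h4)).trans_eq (mul_one _)
  · exact .inl ((Set.ncard_le_one_iff_subsingleton).1 (not_lt.1 h3))

omit [Finite Ω] hD in
theorem frat {p : ℕ} [Fact p.Prime] {S Y : Subgroup G} (hM : M ⊔ D = ⊤) (hY : Y ≤ D)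
    (hn : M ≤ normalizer (Y : Set G)) (hS : IsSylowIn p S Y) (hK : M ≤ K) (hYK : Y ≤ K) :
    normalizer (S : Set G) ⊓ K ⊔ D = ⊤ := by
  refine eq_top_iff.2 (hM.ge.trans (sup_le (fun m hm => ?_) le_sup_right))
  obtain ⟨n, hn, y, hy, rfl⟩ := hS.frattini (hn hm)
  exact mul_mem (mem_sup_right (hY hn)) (mem_sup_left ⟨hy, (mul_mem_cancel_left (hYK hn)).1 (hK hm)⟩)

omit [Finite G] [Finite Ω] in
theorem le_norm_inf : M ≤ normalizer ((D ⊓ M : Subgroup G) : Set G) := fun _ hg =>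
  mem_normalizer_iff_cj.2 (by rw [cj_inf, cj_eq_of_normal, cj_eq_of_mem hg])

theorem prime_part [IsPretransitive G Ω] [Nonempty Ω] (h : U1 D Ω) (hD' : D ≠ ⊤) {r : ℕ}
    (hr : r.Prime) (h1 : r ∣ Nat.card Ω) : ∃ j, r ^ j ∣ Nat.card Ω ∧ D.index + 1 ≤ r ^ j := by
  have := Fact.mk hr
  obtain ⟨a⟩ := ‹Nonempty Ω›
  obtain ⟨R, hR⟩ := exists_isSylowIn r (D ⊓ stabilizer G a)
  have h2 := frat (stab_sp h a) inf_le_left le_norm_inf hR le_rfl inf_le_right
  obtain ⟨T, h3, hT⟩ := exists_isSylowIn_ge (H := D ⊓ normalizer (R : Set G)) hR.2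
    (le_inf (hR.1.trans inf_le_left) le_normalizer)
  have h4 := frat (eq_top_iff.2 (h2.ge.trans (sup_le_sup_right inf_le_left D))) inf_le_left
    le_norm_inf hT le_rfl inf_le_right
  obtain ⟨x, h5⟩ := exists_sp h hD' h4
  obtain ⟨g, hg, h6⟩ := exists_not_mem hD' h2
  obtain ⟨g', hg', h7⟩ := exists_not_mem hD' h5
  obtain ⟨m, rfl⟩ := same_orb h hg.1 hg'.1.2 h6 h7 hg.2 hg'.2
  have h8 : IsSylowIn r R (D ⊓ stabilizer G (m • a)) := by
    have := hR.cj m
    rwa [cj_eq_of_mem_normalizer m.2, cj_inf, cj_eq_of_normal, cj_def,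
      ← stabilizer_smul_eq_stabilizer_map_conj] at this
  have h9 : T ⊓ stabilizer G (m • a) = R := h8.eq_of_le (hT.2.to_le inf_le_left)
    (le_inf h3 (h8.1.trans inf_le_right)) (inf_le_inf_right _ (hT.1.trans inf_le_left))
  obtain ⟨j, hj⟩ := isPGroup_relIndex hT.2 R
  have h10 := dvd_sub_one h h5 inf_le_right (X := orbit T (m • a)) (by
    rintro u hu _ ⟨t, rfl⟩
    exact ⟨⟨_, conj_mem_of_mem_normalizer hu.1.1 t.2⟩, by
      have : u⁻¹ • (m : G) • a = (m : G) • a := (stabilizer G _).inv_mem hu.2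
      simp [mul_smul, Subgroup.smul_def, this]⟩) (mem_orbit_self _)
  rw [← Nat.card_coe_set_eq, card_orbit_subgroup, ← inf_relIndex_left, h9, hj] at h10
  have h11 : R.relIndex (D ⊓ stabilizer G a) * Nat.card Ω = R.relIndex D := by
    have := (u1_of fun g hg => (h g hg).exists).2
    rw [← relIndex_mul_relIndex R _ D hR.1 inf_le_left, inf_relIndex_left, ← card_orbit_subgroup,
      orbit_eq_univ, Nat.card_univ]
  refine ⟨j, ((hr.coprime_iff_not_dvd.2 hR.3).pow_left j).dvd_of_dvd_mul_left ?_, ?_⟩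
  · rw [h11, ← hj]
    exact Dvd.intro _ (relIndex_mul_relIndex R T D h3 (hT.1.trans inf_le_left))
  obtain ⟨S, h12, hS⟩ := exists_isSylowIn_ge hR.2 (hR.1.trans inf_le_left)
  have h13 := lt_inf_normalizer_of_lt hS.2 (lt_of_le_of_ne h12 fun e =>
    hS.3 (e ▸ h11 ▸ h1.mul_left _))
  have h14 := (card_lt_of_lt h13).trans_le (hT.card_le (hS.2.to_le inf_le_left)
    (inf_le_inf_right _ hS.1))
  have h15 : r ^ j ≠ 1 := fun e => h14.not_ge (card_le_of_le (relIndex_eq_one.1 (hj.trans e)))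
  have := pow_pos hr.pos j
  have := Nat.le_of_dvd (by omega) h10
  omega

theorem prime_pow [IsPretransitive G Ω] [Nontrivial Ω] (h : U1 D Ω) (hD' : D ≠ ⊤)
    (hn : Nat.card Ω < (D.index + 1) ^ 2) : ∃ r e : ℕ, r.Prime ∧ Nat.card Ω = r ^ e := by
  have h1 := Finite.one_lt_card (α := Ω)
  refine ⟨_, _, Nat.minFac_prime h1.ne', Nat.eq_prime_pow_of_unique_prime_dvd (by omega)
    fun {s} hs h2 => by_contra fun h3 => ?_⟩
  obtain ⟨i, h4, h5⟩ := prime_part h hD' hs h2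
  obtain ⟨j, h6, h7⟩ := prime_part h hD' (Nat.minFac_prime h1.ne') (Nat.minFac_dvd _)
  have := Nat.le_of_dvd (by omega) ((Nat.coprime_pow_primes _ _ hs (Nat.minFac_prime h1.ne')
    h3).mul_dvd_of_dvd_of_dvd h4 h6)
  nlinarith

variable [FaithfulSMul G Ω]

theorem regular [IsPretransitive G Ω] [Nontrivial Ω] (h : U1 D Ω)
    (hn : Nat.card Ω < (D.index + 1) ^ 2) {r e : ℕ} [hr : Fact r.Prime] (he : Nat.card Ω = r ^ e)
    (R : Sylow r G) : (R : Subgroup G) ≤ D ∧ (∀ u ∈ R, ∀ v ∈ R, u * v = v * u) ∧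
      ∀ u ∈ R, ∀ b : Ω, u • b = b → u = 1 := by
  have h1 := Finite.one_lt_card (α := Ω)
  have h2 : (R : Subgroup G) ≤ D := by_contra fun k => by
    have k1 := ((dvd_relIndex_of_not_le R.2 k).trans (relIndex_dvd_index_of_normal _ _)).trans
      (dvd_card h)
    have k2 : r ∣ Nat.card Ω := he ▸ dvd_pow_self r (by rintro rfl; simp [he] at h1)
    exact hr.out.one_lt.ne' (Nat.dvd_one.1 ((Nat.dvd_sub_iff_right h1.le k2).1 k1))
  have hR := (isPretransitive_subgroup_iff _).1 (sylow_isPretransitive he R)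
  set M := normalizer ((R : Subgroup G) : Set G)
  have : IsPretransitive M Ω := (isPretransitive_subgroup_iff _).2 fun a b =>
    (hR a b).imp fun g hg => ⟨le_normalizer hg.1, hg.2⟩
  have := prim (h.sub M) (by rwa [← relIndex, relIndex_sp (M := M) (R.normalizer_sup_eq_top' h2)])
  set Z := (R : Subgroup G) ⊓ centralizer ((R : Subgroup G) : Set G)
  have : (Z.subgroupOf M).Normal := normal_subgroupOf_of_le_normalizer fun g hg =>
    mem_normalizer_iff_cj.2 (by rw [cj_inf, ← centralizer_cj, cj_eq_of_mem_normalizer hg])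
  obtain ⟨a, b, hab⟩ := exists_pair_ne Ω
  have : Nontrivial R := by
    obtain ⟨u, hu, h3⟩ := hR a b
    exact ⟨⟨u, hu⟩, 1, fun k => hab (by rw [← h3, show u = 1 from congrArg Subtype.val k, one_smul])⟩
  obtain ⟨z, hz⟩ := @exists_ne _ R.2.center_nontrivial 1
  have h3 := (IsQuasiPreprimitive.isPretransitive_of_normal (N := Z.subgroupOf M) fun k => hz
    (Subtype.ext (Subtype.ext (eq_of_smul_eq_smul fun c : Ω => (mem_fixedPoints.1 (k.ge trivial)
      ⟨⟨z.1, le_normalizer z.1.2⟩, z.1.2, fun u hu => congrArg Subtype.val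
        (mem_center_iff.1 z.2 ⟨u, hu⟩)⟩).trans (one_smul G c).symm)))).1
  have h4 : ∀ u ∈ R, ∀ b : Ω, u • b = b → u = 1 := fun u hu b hb =>
    eq_of_smul_eq_smul fun c : Ω => by
      obtain ⟨z, rfl⟩ := h3 b c
      change u • (z.1 : G) • b = 1 • (z.1 : G) • b
      rw [one_smul, ← mul_smul, show u * z.1 = z.1 * u from z.2.2 u hu, mul_smul, hb]
  refine ⟨h2, fun u hu v hv => ?_, h4⟩
  obtain ⟨z, hz⟩ := h3 a (v • a)
  have := h4 _ (mul_mem (inv_mem hv) z.2.1) a (by rw [mul_smul, inv_smul_eq_iff]; exact hz)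
  rw [inv_mul_eq_one.1 this]
  exact z.2.2 u hu

omit hD in
theorem le_of_burnside {r e : ℕ} [hr : Fact r.Prime] (he : Nat.card Ω = r ^ e) (R : Sylow r G)
    (hR : IsPretransitive (R : Subgroup G) Ω) (hc : ∀ u ∈ R, ∀ v ∈ R, u * v = v * u)
    (hK : (R : Subgroup G) ≤ K) (h : normalizer ((R : Subgroup G) : Set G) ⊓ K ≤ R) : K ≤ R := by
  have h1 : normalizer ((R.subtype hK : Subgroup K) : Set K) ≤
      centralizer ((R.subtype hK : Subgroup K) : Set K) := fun g hg u hu => Subtype.ext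
    (hc _ hu _ (h ⟨by rw [Sylow.coe_subtype, ← subgroupOf_normalizer_eq hK] at hg; exact hg, g.2⟩))
  have : IsPretransitive K Ω := (isPretransitive_subgroup_iff _).2 fun a b =>
    ((isPretransitive_subgroup_iff _).1 hR a b).imp fun g hg => ⟨hK hg.1, hg.2⟩
  have h2 : (MonoidHom.transferSylow _ h1).ker = ⊥ := eq_bot_iff.2 fun u hu =>
    Subtype.ext (eq_of_smul_eq_smul fun a : Ω => by
      have h3 := (IsBlock.orbit_of_normal (N := (MonoidHom.transferSylow _ h1).ker) a).ncard_dvd_card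
        ⟨a, mem_orbit_self a⟩
      have h4 := Nat.eq_one_of_dvd_coprimes ((hr.out.coprime_iff_not_dvd.2
        (MonoidHom.not_dvd_card_ker_transferSylow _ h1)).pow_left e) (he ▸ h3) (card_orbit_dvd a)
      exact ((Set.ncard_le_one_iff_subsingleton.1 h4.le) (mem_orbit a (⟨u, hu⟩ : MonoidHom.ker _))
        (mem_orbit_self a)).trans (one_smul G a).symm)
  have h3 := MonoidHom.ker_transferSylow_isComplement' _ h1
  rw [h2, isComplement'_bot_left] at h3
  exact subgroupOf_eq_top.1 h3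

end CF.Dg
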