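import Cfsg.Agent.Perm.Dg2

/-!
# The derangement subgroup, III: tools for the affine case
-/

namespace CF.Dg

open MulAction Subgroup CF.Transfer CF.Perm Finset

variable {H : Type*} [Group H] {V : Type*} [CommGroup V] [MulDistribMulAction H V]
  {A B D E K Γ : Subgroup H} {s : ℕ}

/-- The fixed vectors of a set of operators. -/
def Fx (V : Type*) [CommGroup V] [MulDistribMulAction H V] (B : Set H) : Subgroup V where
  carrier := {v | ∀ b ∈ B, b • v = v}
  one_mem' b _ := smul_one b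
  mul_mem' h h' b hb := by rw [smul_mul', h b hb, h' b hb]
  inv_mem' h b hb := by rw [smul_inv', h b hb]

theorem mem_Fx {B : Set H} {v : V} : v ∈ Fx V B ↔ ∀ b ∈ B, b • v = v := Iff.rfl

theorem Fx_norm {g : H} (hg : g ∈ normalizer (B : Set H)) (w : V) (hw : w ∈ Fx V (B : Set H)) :
    g • w ∈ Fx V (B : Set H) := fun b hb => by
  have := hw _ (inv_conj_mem_of_mem_normalizer hg hb)
  rwa [mul_smul, mul_smul, inv_smul_eq_iff] at this

theorem Fx_cent {B : Set H} {g : H} (hg : g ∈ centralizer B) (w : V) (hw : w ∈ Fx V B) :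
    g • w ∈ Fx V B := fun b hb => by rw [← mul_smul, hg b hb, mul_smul, hw b hb]

theorem norm_fix {c : H} {w : V} (h : c ^ s • w = w) :
    c • ∏ i ∈ range s, c ^ i • w = ∏ i ∈ range s, c ^ i • w := by
  have h1 := prod_range_succ (fun i => c ^ i • w) s
  rw [prod_range_succ', h, pow_zero, one_smul] at h1
  rw [smul_prod', ← mul_right_cancel h1]
  exact prod_congr rfl fun i _ => by rw [pow_succ', mul_smul]

theorem pow_smul_mem {W : Subgroup V} {c : H} (h : ∀ w ∈ W, c • w ∈ W) (i : ℕ) {w : V}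
    (hw : w ∈ W) : c ^ i • w ∈ W := by
  induction i with
  | zero => rwa [pow_zero, one_smul]
  | succ i ih => rw [pow_succ', mul_smul]; exact h _ ih

theorem exists_fix (hs : 0 < s) (hV : (Nat.card V).Coprime s) {W : Subgroup V} (hW : W ≠ ⊥)
    {a b : H} (hab : Commute a b) (ha : ∀ w ∈ W, a • w ∈ W) (hb : ∀ w ∈ W, b • w ∈ W)
    (ha' : ∀ w ∈ W, a ^ s • w = w) (hb' : ∀ w ∈ W, b ^ s • w = w)
    (h : ∀ i, 0 < i → i < s → ∀ w ∈ W, a ^ i • w = w → w = 1) :
    ∃ j : ℕ, ∃ w ∈ W, w ≠ 1 ∧ (a ^ j * b) • w = w := by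
  by_contra! h1
  have h2 : ∀ i, ∀ w ∈ W, (a ^ i) ^ s • w = w := fun i w hw => by
    rw [← pow_mul, mul_comm, pow_mul]
    exact stabilizer H w |>.pow_mem (ha' w hw) i
  refine hW (eq_bot_iff.2 fun w hw => (powCoprime hV).injective ?_)
  have h3 : ∀ j ∈ range s, ∏ i ∈ range s, (a ^ j * b) ^ i • w = 1 := fun j _ => by_contra fun h3 =>
    h1 j _ (W.prod_mem fun i _ => pow_smul_mem (fun w hw => by
      rw [mul_smul]; exact pow_smul_mem ha j (hb w hw)) i hw) h3 (norm_fix (by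
        rw [(hab.pow_left j).mul_pow, mul_smul, hb' w hw, h2 j w hw]))
  have h4 := prod_eq_one h3
  rw [prod_comm, prod_eq_single_of_mem 0 (mem_range.2 hs) fun i hi h0 => ?_] at h4
  · simpa using h4
  have h5 := pow_smul_mem hb i hw
  rw [← h i (Nat.pos_of_ne_zero h0) (mem_range.1 hi) _ (W.prod_mem fun j _ =>
    pow_smul_mem (fun w => pow_smul_mem ha i) j h5) (norm_fix (h2 i _ h5))]
  exact prod_congr rfl fun j _ => by
    rw [(hab.pow_left j).mul_pow, mul_smul, ← pow_mul, ← pow_mul, mul_comm]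

variable [Finite H] [Finite V]

omit [Finite V] in
theorem conj_le {x : H} {T : Set H} (h : ∀ g ∈ Γ, g * x * g⁻¹ ∈ T) :
    (centralizer {x}).relIndex Γ ≤ T.ncard := by
  rw [← Nat.card_coe_set_eq]
  refine Nat.card_le_card_of_injective (fun q : Γ ⧸ (centralizer {x}).subgroupOf Γ =>
    (⟨_, h _ q.out.2⟩ : T)) fun q q' e => ?_
  rw [← q.out_eq', ← q'.out_eq', QuotientGroup.eq, mem_subgroupOf, mem_centralizer_singleton_iff]
  have := congrArg (fun u : T => (q.out : H)⁻¹ * u * q'.out) e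
  simpa [mul_assoc] using this.symm

omit [Finite V] in
theorem cent_le [hs : Fact s.Prime] {c : ℕ} (hA : Γ ≤ centralizer (A : Set H)) (j : ℕ) :
    ∀ X : Subgroup H, IsPGroup s X → A ≤ X → (∀ x ∈ X, (centralizer {x}).relIndex Γ ≤ c) →
      A.relIndex X < s ^ (j + 1) → (centralizer (X : Set H)).relIndex Γ ≤ c ^ j := by
  induction j with
  | zero =>
    intro X hX h1 _ h3
    have : X ≤ A := by_contra fun h => (Nat.le_of_dvd (Nat.pos_of_ne_zero (relIndex_ne_zero' _ _))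
      (dvd_relIndex_of_not_le hX h)).not_gt (by simpa using h3)
    rw [relIndex_eq_one.2 (hA.trans (centralizer_le this)), pow_zero]
  | succ j ih =>
    intro X hX h1 h2 h3
    by_cases h : X ≤ A
    · rw [relIndex_eq_one.2 (hA.trans (centralizer_le h))]
      exact Nat.one_le_pow _ _ ((Nat.pos_of_ne_zero (relIndex_ne_zero' _ _)).trans_le (h2 1 X.one_mem))
    obtain ⟨Y, hY, h4⟩ := exists_maximal_of_wellFoundedGT (fun Y => A ≤ Y ∧ Y < X)
      ⟨A, le_rfl, lt_of_le_not_ge h1 h⟩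
    obtain ⟨x, hx, h5⟩ := SetLike.exists_of_lt hY.2
    have h6 : Y ⊔ zpowers x = X := by_contra fun e => h5 (h4 ⟨hY.1.trans le_sup_left,
      lt_of_le_of_ne (sup_le hY.2.le (zpowers_le_of_mem hx)) e⟩ le_sup_left
        (mem_sup_right (mem_zpowers x)))
    have h7 : centralizer (Y : Set H) ⊓ centralizer {x} ≤ centralizer (X : Set H) := fun g hg u hu =>
      mem_centralizer_singleton_iff.1 ((h6.ge.trans (sup_le (fun y hy =>
        mem_centralizer_singleton_iff.2 (hg.1 y hy)) (zpowers_le_of_mem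
          (mem_centralizer_singleton_iff.2 (hg.2 x rfl))))) hu)
    have h8 := Nat.le_of_dvd (Nat.pos_of_ne_zero (relIndex_ne_zero' _ _))
      (dvd_relIndex_of_not_le hX hY.2.not_ge)
    rw [← relIndex_mul_relIndex A Y X hY.1 hY.2.le, pow_succ] at h3
    refine ((relIndex_le_of_le_left h7 (relIndex_ne_zero' _ _)).trans relIndex_inf_le).trans
      (Nat.mul_le_mul (ih Y (hX.to_le hY.2.le) hY.1 (fun y hy => h2 y (hY.2.le hy)) ?_) (h2 x hx))
    exact lt_of_mul_lt_mul_right ((Nat.mul_le_mul_left _ h8).trans_lt h3) (Nat.zero_le _)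

omit [Finite V] in
theorem cent_le' [hs : Fact s.Prime] (hA : Γ ≤ centralizer (A : Set H)) {X : Subgroup H}
    (hX : IsPGroup s X) (h1 : A ≤ X) (h2 : ∀ x ∈ X, (centralizer {x}).relIndex Γ ≤ s) :
    (centralizer (X : Set H)).relIndex Γ ≤ A.relIndex X := by
  obtain ⟨j, hj⟩ := isPGroup_relIndex hX A
  exact hj ▸ cent_le hA j X hX h1 h2 (hj ▸ Nat.pow_lt_pow_right hs.out.one_lt j.lt_succ_self)

theorem pow_le (hBE : B ≤ E) (hE : Γ ≤ normalizer (E : Set H))
    (hB : ∀ w ∈ Fx V (B : Set H), w ≠ 1 → ∀ e ∈ E, e • w = w → e ∈ B)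
    (hc : ∀ g ∈ Γ, ∀ b ∈ B, ∀ b' ∈ B, Commute (g * b * g⁻¹) b') :
    Nat.card (Fx V (B : Set H)) ^ (normalizer (B : Set H)).relIndex Γ ≤ Nat.card V := by
  classical
  let ι := Γ ⧸ (normalizer (B : Set H)).subgroupOf Γ
  have := Fintype.ofFinite ι
  have h : ∀ (t : Finset ι) (w : ι → V), (∀ q, w q ∈ Fx V (B : Set H)) →
      ∏ q ∈ t, (q.out : H) • w q = 1 → ∀ q ∈ t, w q = 1 := fun t => by
    induction t using Finset.induction_on with
    | empty => simp
    | insert j t hj ih =>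
      intro w hw h1
      rw [prod_insert hj] at h1
      have h2 : ∀ q ∈ t, w q = 1 := fun q hq => by_contra fun h2 => by
        let g : ι → H := fun q => (q.out : H)⁻¹ * j.out
        have hg : ∀ q, g q ∈ Γ := fun q => Γ.mul_mem (Γ.inv_mem q.out.2) j.out.2
        refine hj ((show q = j from ?_) ▸ hq)
        rw [← q.out_eq', ← j.out_eq', QuotientGroup.eq, mem_subgroupOf]
        refine mem_normalizer_of_cj_le (cj_le_iff_forall.2 fun b hb => hB _ (hw q) h2 _
          (conj_mem_of_mem_normalizer (hE (hg q)) (hBE hb)) (div_eq_one.1 (ih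
            (fun q => (g q * b * (g q)⁻¹) • w q / w q) (fun q => div_mem (Fx_cent
              (fun b' hb' => (hc _ (hg q) b hb b' hb').eq.symm) _ (hw q)) (hw q)) ?_ q hq)))
        have h3 := congrArg (((j.out : H) * b * (j.out : H)⁻¹) • ·) h1
        simp only [smul_mul', smul_prod', smul_one] at h3
        rw [mul_smul, inv_smul_smul, mul_smul, hw j b hb, ← h1, mul_right_inj] at h3
        simp only [smul_div', prod_div_distrib, div_eq_one]
        rw [← h3]
        exact prod_congr rfl fun q _ => by simp [g, mul_smul]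
      rw [prod_eq_one fun q hq => by rw [h2 q hq, smul_one], mul_one, smul_eq_iff_eq_inv_smul,
        smul_one] at h1
      simpa [h1] using h2
  rw [relIndex, index, ← Nat.card_fun]
  refine Nat.card_le_card_of_injective (fun w : ι → Fx V (B : Set H) => ∏ q, (q.out : H) • (w q : V))
    fun w w' e => funext fun q => Subtype.ext (div_eq_one.1 (h univ (fun q => w q / w' q)
      (fun q => div_mem (w q).2 (w' q).2) ?_ q (mem_univ q)))
  simpa only [smul_div', prod_div_distrib, div_eq_one] using e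

omit [Finite H] in
theorem sq_le_of_disj {W : Subgroup V} {g : H} (h : ∀ w ∈ W, g • w ∈ W → w = 1) :
    Nat.card W ^ 2 ≤ Nat.card V := by
  rw [sq, ← Nat.card_prod]
  refine Nat.card_le_card_of_injective (fun x : W × W => (x.1 : V) * g • (x.2 : V)) fun x y e => ?_
  have h1 : g • ((x.2 : V) / y.2) = y.1 / x.1 := by
    rw [smul_div', div_eq_div_iff_mul_eq_mul, mul_comm]; exact e
  have h2 := div_eq_one.1 (h _ (div_mem x.2.2 y.2.2) (h1 ▸ div_mem y.1.2 x.1.2))
  rw [h2, div_self', smul_one, eq_comm, div_eq_one] at h1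
  exact Prod.ext (Subtype.ext h1.symm) (Subtype.ext h2)

theorem orb_le (hD : ∀ g ∉ D, ∀ v : V, g • v = v → v = 1) (hA : A ≤ D) {W : Subgroup V}
    (hK : ∀ g ∈ K, ∀ w ∈ W, g • w ∈ W) {v : V} (hv : v ∈ W) (h1 : v ≠ 1) :
    (stabilizer H v).relIndex A * D.index ≤ (Nat.card W - 1) * K.index := by
  have h2 : stabilizer H v ≤ D := fun g hg => by_contra fun h => h1 (hD g h v hg)
  refine (Nat.mul_le_mul_right _ (relIndex_le_of_le_right hA (relIndex_ne_zero' _ _))).trans ?_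
  rw [relIndex_mul_index h2]
  refine (index_antitone (inf_le_left (b := K))).trans ?_
  rw [← relIndex_mul_index inf_le_right, inf_relIndex_right, ← card_orbit_subgroup,
    ← SetLike.coe_sort_coe W, Nat.card_coe_set_eq, Nat.card_coe_set_eq,
    ← Set.ncard_sdiff_singleton_of_mem W.one_mem]
  refine Nat.mul_le_mul_right _ (Set.ncard_le_ncard ?_)
  rintro _ ⟨g, rfl⟩
  exact ⟨hK g g.2 v hv, fun h => h1 ((smul_eq_iff_eq_inv_smul _).1 h |>.trans (smul_one _))⟩

theorem max_stab {e : H} (he : e ∈ E) (h1 : e ≠ 1) {v : V} (hv : v ≠ 1) (h : e • v = v) :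
    ∃ v : V, v ≠ 1 ∧ E ⊓ stabilizer H v ≠ ⊥ ∧ ∀ w ∈ Fx V ((E ⊓ stabilizer H v : Subgroup H) : Set H),
      w ≠ 1 → ∀ e ∈ E, e • w = w → e ∈ E ⊓ stabilizer H v := by
  obtain ⟨u, hu, h2⟩ := Set.exists_max_image {v : V | v ≠ 1}
    (fun v => Nat.card (E ⊓ stabilizer H v : Subgroup H)) (Set.toFinite _) ⟨v, hv⟩
  refine ⟨u, hu, fun h3 => h1 ?_, fun w hw h3 e he h4 => ?_⟩
  · have := h2 v hv
    rw [h3, card_bot] at this
    exact mem_bot.1 ((eq_bot_of_card_le _ this).le ⟨he, h⟩)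
  · exact (eq_of_le_of_card_ge (le_inf inf_le_left fun b hb => hw b hb) (h2 w h3)).ge ⟨he, h4⟩

theorem irr [FaithfulSMul H V] [D.Normal] (hD : ∀ g ∉ D, ∀ v : V, g • v = v → v = 1)
    (hn : Nat.card V < (D.index + 1) ^ 2) (N : Subgroup H) [N.Normal] (hN : N ≠ ⊥) :
    Fx V (N : Set H) = ⊥ := by
  have hU : U1 D V := fun g hg => ⟨1, smul_one g, fun v hv => hD g hg v hv⟩
  have h1 : ∀ W : Subgroup V, (∀ g : H, ∀ w ∈ W, g • w ∈ W) → D.index ∣ Nat.card W - 1 :=
    fun W hW => dvd_sub_one hU (top_sup_eq D) (a := 1) (fun g _ => smul_one g) (X := W)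
      (fun g _ => hW g) W.one_mem
  by_contra h2
  have h3 : Fx V (N : Set H) ≠ ⊤ := fun h => hN (eq_bot_iff.2 fun g hg =>
    eq_of_smul_eq_smul fun v : V => (h.ge trivial g hg).trans (one_smul H v).symm)
  have h4 := h1 ⊤ fun _ _ _ => trivial
  rw [card_top, ← (Fx V (N : Set H)).card_mul_index] at h4
  exact hn.not_ge ((sq_le (h1 _ fun g => Fx_norm ((normalizer_eq_top N).ge trivial)) h4
    ((one_lt_card_iff_ne_bot _).2 h2) (one_lt_index_of_ne_top h3)).trans_eq (card_mul_index _))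

theorem bern (x t : ℕ) : (2 + (t + 2) * x) ^ 2 ≤ 4 * (1 + x) ^ (t + 2) := by
  induction t with
  | zero => exact le_of_eq (by ring)
  | succ t ih =>
    rw [add_right_comm t, pow_succ _ (t + 2), ← mul_assoc]
    refine le_trans ?_ (Nat.mul_le_mul_right _ ih)
    nlinarith [Nat.zero_le (t * x ^ 2), Nat.zero_le (t * t * x ^ 3), Nat.zero_le (t * x ^ 3),
      Nat.zero_le (x ^ 3)]

theorem bound : ∃ C : ℕ, ∀ t j m N : ℕ, 3 ≤ t → 2 ≤ m → 2 ^ j ≤ t → N ≤ (t ^ 5) ^ j →
    m ^ t < (m * N) ^ 2 → m * N ≤ C := by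
  have h : ∀ u, 12 ≤ u → 10 * (u + 1) ^ 2 + 2 ≤ 2 ^ u := fun u hu => by
    induction u, hu using Nat.le_induction with
    | base => norm_num
    | succ u hu ih => rw [pow_succ 2]; nlinarith
  obtain ⟨C, hC⟩ : ∃ C, ∀ e ≤ 720, 2 ^ e ≤ C := by
    generalize 720 = k
    exact ⟨_, fun _ => Nat.pow_le_pow_right two_pos⟩
  refine ⟨C ^ 2 * C, fun t j m N ht hm hj hN h1 => ?_⟩
  obtain ⟨t, rfl⟩ : ∃ u, t = u + 1 + 2 := ⟨t - 3, by omega⟩
  rw [pow_add, mul_pow, mul_comm] at h1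
  replace h1 := lt_of_mul_lt_mul_left h1 (Nat.zero_le _)
  set u := Nat.log 2 (t + 1 + 2)
  have h2 : t + 1 + 2 < 2 ^ (u + 1) := Nat.lt_pow_succ_log_self one_lt_two _
  have h3 : 2 ^ u ≤ t + 1 + 2 := Nat.pow_log_le_self 2 (by omega)
  have h4 : j ≤ u + 1 := ((Nat.pow_lt_pow_iff_right one_lt_two).1 (hj.trans_lt h2)).le
  have h5 : N ≤ 2 ^ (5 * (u + 1) ^ 2) := hN.trans ((Nat.pow_le_pow_left (Nat.pow_le_pow_left h2.le 5)
    j).trans (by rw [← pow_mul, ← pow_mul]; exact Nat.pow_le_pow_right two_pos (by nlinarith)))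
  have h6 := ((Nat.pow_le_pow_left hm _).trans_lt h1).trans_le (Nat.pow_le_pow_left h5 2)
  rw [← pow_mul, Nat.pow_lt_pow_iff_right one_lt_two] at h6
  have h7 : u < 12 := by_contra fun h7 => by have := h u (by omega); omega
  have h8 : N ≤ C := h5.trans (hC _ (by nlinarith))
  exact Nat.mul_le_mul (((Nat.le_self_pow (by omega) m).trans h1.le).trans
    (Nat.pow_le_pow_left h8 2)) h8

end CF.Dg
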