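import Cfsg.Agent.Perm.Dg3
import Cfsg.Agent.Transfer.Frat
import Cfsg.Agent.Solv.CyclicMax

/-!
# The derangement subgroup, IV: the affine case
-/

namespace CF.Dg

open MulAction Subgroup CF.Transfer CF.Perm Finset

universe u

variable {H : Type*} [Group H] {V : Type*} [CommGroup V] [MulDistribMulAction H V]
  {A B D E S Γ : Subgroup H} {s : ℕ} [Finite H] [Finite V] [FaithfulSMul H V] [D.Normal]
  (hD : ∀ g ∉ D, ∀ v : V, g • v = v → v = 1) (hn : Nat.card V < (D.index + 1) ^ 2)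

include hD hn in
theorem case1 [A.Normal] (hc : ∀ a ∈ A, ∀ b ∈ A, a * b = b * a) (hA : A ≤ D) {e : H} (he : e ∈ A)
    (h1 : e ≠ 1) {v : V} (h : e • v = v) : v = 1 := by
  by_contra hv
  obtain ⟨v, hv, h2, h3⟩ := max_stab he h1 hv h
  set B := A ⊓ stabilizer H v
  have hB : v ∈ Fx V (B : Set H) := fun b hb => hb.2
  have h4 := pow_le (Γ := ⊤) inf_le_left (normalizer_eq_top A).ge h3 fun g _ b hb b' hb' =>
    hc _ (Normal.conj_mem ‹_› b hb.1 g) _ hb'.1
  have h5 := orb_le hD hA (fun g => Fx_norm) hB hv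
  have h6 : (stabilizer H v).relIndex A ≠ 1 := fun h => hv (mem_bot.1 ((irr hD hn A
    fun h => h1 (mem_bot.1 (h.le he))).le fun a ha => relIndex_eq_one.1 h ha))
  have h7 : (normalizer (B : Set H)).index ≠ 1 := fun h =>
    have := normalizer_eq_top_iff.1 (index_eq_one.1 h)
    hv (mem_bot.1 ((irr hD hn B h2).le hB))
  obtain ⟨t, ht⟩ : ∃ t, (normalizer (B : Set H)).index = t + 2 :=
    ⟨_, (Nat.sub_add_cancel (by have := FiniteIndex.index_ne_zero (H := normalizer (B : Set H))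
                                omega)).symm⟩
  obtain ⟨x, hx⟩ : ∃ x, Nat.card (Fx V (B : Set H)) = 1 + x :=
    ⟨_, (Nat.add_sub_cancel' Nat.card_pos).symm⟩
  rw [relIndex_top_right, ht, hx] at h4
  rw [ht, hx, Nat.add_sub_cancel_left] at h5
  have h8 : 2 ≤ (stabilizer H v).relIndex A := by
    have := relIndex_ne_zero' (stabilizer H v) A; omega
  have h9 := Nat.pow_le_pow_left (show 2 * (D.index + 1) ≤ 2 + (t + 2) * x by nlinarith) 2
  have := bern x t
  rw [mul_pow] at h9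
  omega

/-- The set-up of a critical subgroup with semiregular centre. -/
structure Crit (V : Type*) [CommGroup V] [MulDistribMulAction H V] (s : ℕ) (S E A : Subgroup H)
    (z : H) : Prop where
  pS : IsPGroup s S
  le : E ≤ S
  eqA : A = E ⊓ centralizer (E : Set H)
  pow : ∀ x ∈ E, x ^ s ∈ A
  comm : ∀ x ∈ E, ∀ u ∈ S, u * x * u⁻¹ * x⁻¹ ∈ A
  cent : S ⊓ centralizer (E : Set H) ≤ E
  sr : ∀ a ∈ A, a ≠ 1 → ∀ v : V, a • v = v → v = 1
  cop : (Nat.card V).Coprime s
  zA : z ∈ A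
  ord : orderOf z = s

namespace Crit

variable [hs : Fact s.Prime] {z : H} (h : Crit V s S E A z)
include h

omit [Finite H] [Finite V] [FaithfulSMul H V] hs in
theorem leE : A ≤ E := h.eqA.le.trans inf_le_left

omit [Finite H] [Finite V] [FaithfulSMul H V] hs in
theorem cA {a x : H} (ha : a ∈ A) (hx : x ∈ E) : Commute a x := ((h.eqA.le ha).2 x hx).symm

omit [Finite H] [Finite V] [FaithfulSMul H V] hs in
theorem leC : E ≤ S ⊓ centralizer (A : Set H) :=
  le_inf h.le fun _ hx _ ha => h.cA ha hx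

omit [Finite H] [Finite V] [FaithfulSMul H V] in
theorem fix (hBE : B ≤ E) {v : V} (hv : v ≠ 1) (hB : v ∈ Fx V (B : Set H)) {f : H} (hf : f ∈ E)
    (h1 : f ∈ centralizer (B : Set H)) (h2 : f ^ s = 1) :
    ∃ j : ℕ, ∃ w ∈ Fx V (B : Set H), w ≠ 1 ∧ (z ^ j * f) • w = w :=
  exists_fix hs.out.pos h.cop (fun e => hv (mem_bot.1 (e.le hB))) (h.cA h.zA hf)
    (Fx_cent fun _ hb => (h.cA h.zA (hBE hb)).eq.symm) (Fx_cent h1)
    (by simp [← h.ord]) (by simp [h2]) fun i h0 hi w _ =>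
      h.sr _ (A.pow_mem h.zA i) (pow_ne_one_of_lt_orderOf h0.ne' (h.ord ▸ hi)) w

omit [Finite H] [Finite V] [FaithfulSMul H V] in
theorem om [Nontrivial V] {a : H} (ha : a ∈ A) (h1 : a ^ s = 1) : a ∈ zpowers z := by
  obtain ⟨v, hv⟩ := exists_ne (1 : V)
  obtain ⟨j, w, -, h2, h3⟩ := h.fix bot_le hv (by rintro _ rfl; simp) (h.leE ha)
    (by rintro _ rfl; simp) h1
  by_contra h4
  exact h2 (h.sr _ (A.mul_mem (A.pow_mem h.zA j) ha) (fun e => h4
    (eq_inv_of_mul_eq_one_right e ▸ inv_mem (pow_mem (mem_zpowers z) j))) w h3)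

omit [Finite V] [FaithfulSMul H V] in
theorem cj_le [Nontrivial V] (hΓ : Γ ≤ S ⊓ centralizer (A : Set H)) (x : H) (hx : x ∈ E) :
    (centralizer {x}).relIndex Γ ≤ s := by
  refine (conj_le (T := (· * x) '' zpowers z) fun u hu => ⟨_, h.om (h.comm x hx u (hΓ hu).1) ?_,
    inv_mul_cancel_right _ _⟩).trans ((Set.ncard_image_le).trans_eq ?_)
  · have := (h.cA (h.comm x hx u (hΓ hu).1) hx).mul_pow s
    rwa [inv_mul_cancel_right, conj_pow, ← (hΓ hu).2 _ (h.pow x hx), mul_inv_cancel_right,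
      right_eq_mul] at this
  · rw [← Nat.card_coe_set_eq, SetLike.coe_sort_coe, Nat.card_zpowers, h.ord]

include hD hn in
omit [FaithfulSMul H V] in
theorem case2 [S.Normal] [E.Normal] [A.Normal] (hS : S ≤ D)
    (hE : ∀ a ∈ E, a ≠ 1 → ∀ v : V, a • v = v → v = 1) {y : H} (hy : y ∈ S) (h1 : y ≠ 1) {v : V}
    (hv : y • v = v) : v = 1 := by
  by_contra h2
  have : Nontrivial V := ⟨v, 1, h2⟩
  have : IsMulCommutative A := ⟨⟨fun a b => Subtype.ext (h.cA a.2 (h.leE b.2))⟩⟩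
  have : IsCyclic A := CF.Solv.isCyclic_of_abelian_of_omega (h.pS.to_le (h.leE.trans h.le))
    fun x hx y hy h3 h4 h5 => (eq_of_le_of_card_ge (zpowers_le_of_mem (h.om hx h3)) (by
      rw [Nat.card_zpowers, Nat.card_zpowers, h.ord, orderOf_eq_prime h3 h5])).ge (h.om hy h4)
  have h3 := orb_le hD (h.le.trans hS) (K := centralizer {y}) (fun g => Fx_cent) (v := v)
    (by rintro _ rfl; exact hv) h2
  have h4 := conj_le (Γ := ⊤) (x := y) (T := (· * y) '' (S ⊓ centralizer (A : Set H) : Subgroup H))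
    fun g _ => ⟨_, ⟨S.mul_mem (Normal.conj_mem ‹_› y hy g) (S.inv_mem hy),
      CF.Solv.commutator_le_centralizer_of_cyclic A (commutator_mem_commutator (g₁ := g) (g₂ := y)
        trivial trivial)⟩, inv_mul_cancel_right _ _⟩
  have h5 := cent_le' inf_le_right (h.pS.to_le h.le) h.leE (h.cj_le le_rfl)
  have h6 := CF.Transfer.card_mul_relIndex (inf_le_right (a := centralizer (E : Set H))
    (b := S ⊓ centralizer (A : Set H)))
  have h7 : Nat.card (centralizer (E : Set H) ⊓ (S ⊓ centralizer (A : Set H)) : Subgroup H) ≤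
      Nat.card A := card_le_of_le fun g hg => h.eqA.ge ⟨h.cent ⟨hg.2.1, hg.1⟩, hg.1⟩
  rw [relIndex_top_right] at h4
  rw [inf_relIndex_right] at h6
  replace h4 := h4.trans Set.ncard_image_le
  rw [← Nat.card_coe_set_eq, SetLike.coe_sort_coe, ← h6] at h4
  replace h4 := (h4.trans (Nat.mul_le_mul h7 h5)).trans_eq (CF.Transfer.card_mul_relIndex h.leE)
  rw [← inf_relIndex_right, (eq_bot_iff (a := stabilizer H v ⊓ E)).2 fun g hg => by_contra fun e =>
    h2 (hE g hg.2 e v hg.1), relIndex_bot_left, mul_comm] at h3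
  have h8 := Nat.le_of_mul_le_mul_right (h3.trans (Nat.mul_le_mul_left _ h4)) Nat.card_pos
  obtain ⟨e, he, h9⟩ : ∃ e ∈ E, e * y ≠ y * e := by
    by_contra! h9
    exact h2 (hE y (h.cent ⟨hy, h9⟩) h1 v hv)
  have h10 := sq_le_of_disj (W := Fx V {y}) (g := e) fun w hw h10 =>
    hE (e⁻¹ * (y * e * y⁻¹)) (E.mul_mem (E.inv_mem he) (Normal.conj_mem ‹_› e he y))
      (fun k => h9 (by rw [inv_mul_eq_one, eq_mul_inv_iff_mul_eq] at k; exact k)) w (by
        rw [mul_smul, mul_smul, inv_smul_eq_iff.2 (hw y rfl).symm, mul_smul, h10 y rfl, inv_smul_smul])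
  have := Nat.card_pos (α := Fx V {y})
  exact hn.not_ge ((Nat.pow_le_pow_left (by omega) 2).trans h10)

omit [Finite V] [FaithfulSMul H V] in
theorem index_le [Nontrivial V] (hBE : B ≤ E) (hc : B ≤ centralizer (B : Set H))
    (hf : ∀ f ∈ E, f ∈ centralizer (B : Set H) → f ^ s = 1 → ∃ j : ℕ, z ^ j * f ∈ B) :
    A.relIndex E ≤ (s * Nat.card B) ^ 2 := by
  obtain ⟨M, ⟨h1, h2, h3⟩, h4⟩ := exists_maximal_of_wellFoundedGT
    (fun M => A ⊔ B ≤ M ∧ M ≤ E ∧ M ≤ centralizer (M : Set H)) ⟨A ⊔ B, le_rfl, sup_le h.leE hBE,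
      sup_le (fun a ha x hx => (h.cA ha (sup_le h.leE hBE hx)).eq.symm) (le_centralizer_iff.1
        (sup_le (fun a ha x hx => (h.cA ha (hBE hx)).eq.symm) hc))⟩
  have h5 : centralizer (M : Set H) ⊓ E ≤ M := fun x hx => h4 ⟨h1.trans le_sup_left,
    sup_le h2 (zpowers_le_of_mem hx.2), sup_le (le_centralizer_iff.1 (sup_le h3
      (zpowers_le_of_mem hx.1))) (le_centralizer_iff.1 (sup_le (le_centralizer_iff.1
        (zpowers_le_of_mem hx.1)) (le_centralizer _)))⟩ le_sup_left (mem_sup_right (mem_zpowers x))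
  have hA := le_sup_left.trans h1
  have h6 := cent_le' (h.leC.trans inf_le_right) (h.pS.to_le (h2.trans h.le)) hA
    fun x hx => h.cj_le h.leC x (h2 hx)
  rw [← inf_relIndex_right] at h6
  replace h6 := (relIndex_le_of_le_left h5 (relIndex_ne_zero' _ _)).trans h6
  let φ : M →* H := MonoidHom.mk' (fun f => (f : H) ^ s) fun a b =>
    Commute.mul_pow (h3 b.2 a a.2) s
  have h7 : Nat.card φ.ker ≤ s * Nat.card B := by
    choose j hj using fun f : φ.ker => hf f.1 (h2 f.1.2)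
      (centralizer_le (show B ≤ M from le_sup_right.trans h1) (h3 f.1.2)) f.2
    rw [← h.ord, ← Nat.card_zpowers, ← Nat.card_prod]
    refine Nat.card_le_card_of_injective (fun f => ((⟨_, pow_mem (mem_zpowers z) (j f)⟩,
      ⟨_, hj f⟩) : zpowers z × B)) fun f f' e => ?_
    simp only [Prod.mk.injEq, Subtype.mk.injEq] at e
    exact Subtype.ext (Subtype.ext (mul_left_cancel (e.1 ▸ e.2)))
  have h8 : Nat.card φ.range ≤ Nat.card A := card_le_of_le (by
    rintro _ ⟨f, rfl⟩; exact h.pow _ (h2 f.2))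
  have h9 := φ.ker.card_mul_index
  rw [index_ker, ← CF.Transfer.card_mul_relIndex hA, mul_comm] at h9
  have h10 := Nat.le_of_mul_le_mul_left (h9.ge.trans (Nat.mul_le_mul h8 h7)) Nat.card_pos
  rw [← relIndex_mul_relIndex A M E hA h2, sq]
  exact Nat.mul_le_mul h10 (h6.trans h10)

omit [Finite V] [FaithfulSMul H V] in
theorem ncard_le [Nontrivial V] [A.Normal] :
    {x | x ∈ E ∧ x ^ s = 1}.ncard ≤ s * A.relIndex E := by
  classical
  rw [Set.ncard_eq_toFinset_card _]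
  refine (card_le_mul_card_image (f := QuotientGroup.mk' A) _ s fun q hq => ?_).trans
    (Nat.mul_le_mul_left _ ?_)
  · obtain ⟨x, hx, rfl⟩ := mem_image.1 hq
    rw [Set.Finite.mem_toFinset] at hx
    conv_rhs => rw [← h.ord, ← Nat.card_zpowers, ← SetLike.coe_sort_coe, Nat.card_coe_set_eq]
    rw [← Set.ncard_coe_finset]
    refine le_trans (Set.ncard_le_ncard fun y hy => ?_) (Set.ncard_image_le (f := (x * ·)))
    rw [mem_coe, mem_filter, Set.Finite.mem_toFinset] at hy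
    have h1 := QuotientGroup.eq.1 hy.2.symm
    have := (h.cA h1 hx.1).symm.mul_pow s
    rw [mul_inv_cancel_left, hx.2, hy.1.2, one_mul] at this
    exact ⟨_, h.om h1 this.symm, mul_inv_cancel_left _ _⟩
  · conv_rhs => rw [← QuotientGroup.ker_mk' A, relIndex_ker, ← SetLike.coe_sort_coe,
      Nat.card_coe_set_eq]
    rw [← Set.ncard_coe_finset]
    refine Set.ncard_le_ncard fun q hq => ?_
    obtain ⟨x, hx, rfl⟩ := mem_image.1 hq
    exact ⟨x, ((Set.Finite.mem_toFinset _).1 hx).1, rfl⟩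

include hD hn in
omit [FaithfulSMul H V] in
theorem case3 [E.Normal] [A.Normal] (hS : S ≤ D) {C : ℕ} (hC : ∀ t j m N : ℕ, 3 ≤ t → 2 ≤ m →
    2 ^ j ≤ t → N ≤ (t ^ 5) ^ j → m ^ t < (m * N) ^ 2 → m * N ≤ C) (hd : C ≤ D.index) {e : H}
    (he : e ∈ E) (h1 : e ≠ 1) {v : V} (hv : e • v = v) : v = 1 := by
  by_contra h2
  have : Nontrivial V := ⟨v, 1, h2⟩
  obtain ⟨v, hv, h2, h3⟩ := max_stab he h1 h2 hv
  set B := E ⊓ stabilizer H v with hB'
  have hBE : B ≤ E := inf_le_left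
  have hB : v ∈ Fx V (B : Set H) := fun b hb => hb.2
  have hm : 1 < Nat.card (Fx V (B : Set H)) :=
    (one_lt_card_iff_ne_bot _).2 fun e => hv (mem_bot.1 (e.le hB))
  have k0 : ∀ a ∈ A, a ∈ B → a = 1 := fun a ha hb => by_contra fun e => hv (h.sr a ha e v hb.2)
  have k1 : normalizer (B : Set H) ⊓ E ≤ centralizer (B : Set H) := fun g hg b hb => by
    have := k0 _ (h.comm b (hBE hb) g (h.le hg.2))
      (B.mul_mem (conj_mem_of_mem_normalizer hg.1 hb) (B.inv_mem hb))
    rwa [mul_inv_eq_one, mul_inv_eq_iff_eq_mul, eq_comm] at this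
  have k2 : B ≤ centralizer (B : Set H) := (le_inf le_normalizer hBE).trans k1
  have k3 := pow_le hBE le_normalizer h3 fun g hg b hb b' hb' => by
    rw [← inv_mul_cancel_right (g * b * g⁻¹) b]
    exact (h.cA (h.comm b (hBE hb) g (h.le hg)) (hBE hb')).mul_left (k2 hb' b hb)
  rw [← inf_relIndex_right] at k3
  replace k3 := (Nat.pow_le_pow_right hm.le
    (relIndex_le_of_le_left k1 (relIndex_ne_zero' _ _))).trans k3
  have k4 := cent_le' (Γ := B) (A := centralizer (B : Set H) ⊓ E) (le_centralizer_iff.1 inf_le_left)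
    (h.pS.to_le h.le) inf_le_right (h.cj_le (hBE.trans h.leC))
  rw [inf_relIndex_right, ← inf_relIndex_right, (eq_bot_iff (a := _ ⊓ B)).2 fun g hg =>
    k0 g (h.eqA.ge ⟨hBE hg.2, hg.1⟩) hg.2, relIndex_bot_left] at k4
  set t := (centralizer (B : Set H)).relIndex E
  have pB := h.pS.to_le (hBE.trans h.le)
  obtain ⟨j, hj⟩ := IsPGroup.iff_card.1 pB
  have k5 : s ≤ Nat.card B := hj ▸ Nat.le_self_pow (by
    rintro rfl; exact h2 (card_eq_one.1 hj)) s
  have k6 : ∀ f ∈ E, f ∈ centralizer (B : Set H) → f ^ s = 1 → ∃ j : ℕ, z ^ j * f ∈ B :=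
    fun f hf h4 h5 => by
      obtain ⟨j, w, h6, h7, h8⟩ := h.fix hBE hv hB hf h4 h5
      exact ⟨j, h3 w h6 h7 _ (E.mul_mem (E.pow_mem (h.leE h.zA) j) hf) h8⟩
  have k7 : ∀ b ∈ B, b ^ s = 1 := fun b hb => k0 _ (h.pow b (hBE hb)) (B.pow_mem hb s)
  have s2 := hs.out.two_le
  by_cases ht : 3 ≤ t
  · have k8 := cent_le (Γ := ⊤) (A := ⊥) (c := t ^ 5) (by rintro g - _ rfl; simp) j B pB bot_le
      (fun b hb => (conj_le (T := {x | x ∈ E ∧ x ^ s = 1}) fun g _ => ⟨Normal.conj_mem ‹_› b (hBE hb) g, by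
        rw [conj_pow, k7 b hb, mul_one, mul_inv_cancel]⟩).trans (h.ncard_le.trans
          ((Nat.mul_le_mul (k5.trans k4) ((h.index_le hBE k2 k6).trans (Nat.pow_le_pow_left
            (Nat.mul_le_mul (k5.trans k4) k4) 2))).trans_eq (by ring))))
      (by rw [relIndex_bot_left, hj]; exact Nat.pow_lt_pow_right s2 j.lt_succ_self)
    have k9 := orb_le hD bot_le (K := centralizer (B : Set H)) (fun g => Fx_cent) hB hv
    rw [relIndex_top_right] at k8
    rw [relIndex_bot_right, one_mul, Nat.sub_mul, one_mul] at k9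
    have := Nat.pos_of_ne_zero (FiniteIndex.index_ne_zero (H := centralizer (B : Set H)))
    have k10 : D.index + 1 ≤ Nat.card (Fx V (B : Set H)) * (centralizer (B : Set H)).index := by
      have := Nat.mul_pos (zero_lt_one.trans hm) this
      omega
    have := hC t j _ _ ht hm ((Nat.pow_le_pow_left s2 j).trans (hj ▸ k4)) k8
      ((k3.trans_lt hn).trans_le (Nat.pow_le_pow_left k10 2))
    omega
  obtain rfl : s = 2 := by omega
  obtain ⟨y, hy, h4⟩ := (bot_or_exists_ne_one B).resolve_left h2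
  have k8 : ∀ b ∈ B, b ≠ 1 → b = y := fun b hb h5 => by
    obtain ⟨u, -, hu⟩ := (Nat.card_eq_two_iff' (1 : B)).1 (by omega)
    exact congrArg Subtype.val ((hu ⟨b, hb⟩ fun e => h5 (congrArg Subtype.val e)).trans
      (hu ⟨y, hy⟩ fun e => h4 (congrArg Subtype.val e)).symm)
  have k9 : centralizer {y} ≤ centralizer (B : Set H) := fun g hg b hb => by
    by_cases h5 : b = 1
    · simp [h5]
    · exact hg b (k8 b hb h5)
  have k10 := orb_le hD (h.le.trans hS) (fun g hg => Fx_cent (k9 hg)) hB hv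
  have k11 := conj_le (Γ := ⊤) (x := y) (T := Set.range fun g => g * y * g⁻¹) fun g _ => ⟨g, rfl⟩
  have k12 : ∀ g, (g * y * g⁻¹) ^ 2 = 1 := fun g => by
    rw [conj_pow, k7 y hy, mul_one, mul_inv_cancel]
  have k13 : ∀ g, g * y * g⁻¹ ∉ A := fun g e =>
    h4 (k0 y (by simpa [mul_assoc] using Normal.conj_mem' ‹_› _ e g) hy)
  have k14 := Set.ncard_le_ncard (t := E) (s := (Set.range fun g => g * y * g⁻¹) ∪
      (· * y) '' Set.range fun g => g * y * g⁻¹) (by
    rintro _ (⟨g, rfl⟩ | ⟨_, ⟨g, rfl⟩, rfl⟩)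
    exacts [Normal.conj_mem ‹_› y (hBE hy) g, E.mul_mem (Normal.conj_mem ‹_› y (hBE hy) g) (hBE hy)])
  rw [Set.ncard_union_eq (Set.disjoint_left.2 (by
    rintro _ ⟨g', rfl⟩ ⟨_, ⟨g, rfl⟩, e⟩
    have h5 := k12 g'
    have h6 := k12 g
    have h7 := k7 y hy
    have h8 := k13 g'
    have h9 := k13 g
    have h10 := Normal.conj_mem ‹E.Normal› y (hBE hy) g
    simp only at e
    rw [← e] at h5 h8
    generalize g * y * g⁻¹ = x at *
    obtain ⟨i, hi⟩ := k6 x h10 (k9 (mem_centralizer_singleton_iff.2 (by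
      rw [sq, mul_eq_one_iff_eq_inv] at h5 h6 h7
      rw [h5, mul_inv_rev, ← h6, ← h7]))) h6
    have h11 := A.pow_mem h.zA i
    have := k8 _ hi fun e => h9 (eq_inv_of_mul_eq_one_right e ▸ A.inv_mem h11)
    apply h8
    rw [← this, ← mul_assoc, ← (h.cA h11 h10).eq, mul_assoc, ← sq, h6, mul_one]
    exact h11)), Set.ncard_image_of_injective _ (mul_left_injective y), ← Nat.card_coe_set_eq (E : Set H),
    SetLike.coe_sort_coe, ← CF.Transfer.card_mul_relIndex hBE, hB', inf_relIndex_left, ← hB',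
    show Nat.card B = 2 by omega] at k14
  rw [relIndex_top_right] at k11
  have k15 := Nat.le_of_mul_le_mul_left (k10.trans ((Nat.mul_le_mul_left _
    (show _ ≤ (stabilizer H v).relIndex E by omega)).trans_eq (mul_comm _ _)))
      (Nat.pos_of_ne_zero (relIndex_ne_zero' _ _))
  exact hn.not_ge (((Nat.pow_le_pow_left (by omega) 2).trans
    (Nat.pow_le_pow_right hm.le (by omega))).trans k3)

end Crit

theorem aff : ∃ C : ℕ, ∀ (V : Type*) [CommGroup V] [Finite V] (n : ℕ) (H : Type u) [Group H]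
    [Finite H] [MulDistribMulAction H V] [FaithfulSMul H V] (D : Subgroup H) [D.Normal],
    Nat.card H = n → (∀ g ∉ D, ∀ v : V, g • v = v → v = 1) → Nat.card V < (D.index + 1) ^ 2 →
      C ≤ D.index → ∀ g : H, g ≠ 1 → ∀ v : V, g • v = v → v = 1 := by
  obtain ⟨C, hC⟩ := bound
  refine ⟨C, fun V _ _ n => ?_⟩
  induction n using Nat.strong_induction_on with | _ n ih
  intro H _ _ _ _ D _ hH hD hn hd g hg v hv
  by_contra h0
  obtain ⟨s, hs, h1⟩ := Nat.exists_prime_and_dvd (mt orderOf_eq_one_iff.1 hg)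
  have := Fact.mk hs
  have h2 := orderOf_pow_orderOf_div (orderOf_pos g).ne' h1
  have h3 : g ^ (orderOf g / s) • v = v := (stabilizer H v).pow_mem hv _
  generalize g ^ (orderOf g / s) = y at h2 h3
  have h4 : y ≠ 1 := fun e => hs.one_lt.ne' (by rw [← h2, e, orderOf_one])
  obtain ⟨S, h5, hS⟩ := exists_isSylowIn_ge (isPGroup_zpowers (h2.trans (pow_one s).symm))
    (zpowers_le_of_mem (by_contra fun e => h0 (hD y e v h3)))
  have hy := h5 (mem_zpowers y)
  have h6 := frat (top_sup_eq D) le_rfl (normalizer_eq_top D).ge hS le_rfl le_top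
  rw [inf_top_eq] at h6
  have : S.Normal := normalizer_eq_top_iff.1 (by_contra fun e => h0
    (ih _ ((card_lt_of_lt (lt_top_iff_ne_top.2 e)).trans_eq (card_top.trans hH)) (normalizer (S : Set H))
      (D.subgroupOf _) rfl (fun g hg => hD g hg) (by rwa [← relIndex, relIndex_sp h6])
      (by rwa [← relIndex, relIndex_sp h6]) ⟨y, le_normalizer hy⟩
      (fun e => h4 (congrArg Subtype.val e)) v h3))
  obtain ⟨E, e1, -, e2, e3, e4, e5⟩ := exists_critical_subgroup hS.2
  have : E.Normal := normalizer_eq_top_iff.1 (eq_top_iff.2 ((normalizer_eq_top S).ge.trans e2))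
  set A := E ⊓ centralizer (E : Set H) with hA
  have h7 : A ≠ ⊥ := fun e => by
    have : S ≤ centralizer (E : Set H) :=
      le_centralizer_iff.1 (commutator_eq_bot_iff_le_centralizer.1 (eq_bot_iff.2 (e ▸ e4)))
    exact h4 (mem_bot.1 (e.le ⟨e5 ⟨hy, this hy⟩, this hy⟩))
  obtain ⟨k, hk⟩ := IsPGroup.iff_card.1 (hS.2.to_le (inf_le_left.trans e1 : A ≤ S))
  obtain ⟨z, hz⟩ := exists_prime_orderOf_dvd_card' (G := A) s (hk ▸ dvd_pow_self s (by
    rintro rfl; exact h7 (card_eq_one.1 hk)))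
  have h8 := hS.2.card_modEq_card_fixedPoints V
  rw [show Nat.card (fixedPoints S V) = 1 from Nat.card_eq_one_iff_exists.2 ⟨⟨1, fun g => smul_one g⟩,
    fun w => Subtype.ext (mem_bot.1 ((irr hD hn S fun e => h4 (mem_bot.1 (e.le hy))).le
      fun b hb => w.2 ⟨b, hb⟩))⟩] at h8
  have h : Crit V s S E A z := ⟨hS.2, e1, hA, e3, fun x hx u hu => by
      simpa [mul_assoc, commutatorElement_def] using A.inv_mem (e4 (commutator_mem_commutator hx hu)), e5,
    fun a ha h9 v => case1 (A := A) hD hn (fun a ha b hb => hb.2 a ha.1) (inf_le_left.trans (e1.trans hS.1))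
      ha h9, by rw [Nat.Coprime, h8.gcd_eq, Nat.gcd_one_left], z.2, by rw [← hz, orderOf_coe]⟩
  exact h0 (h.case2 hD hn hS.1 (fun e he h9 v => h.case3 hD hn hS.1 hC hd he h9) hy h4 h3)

end CF.Dg
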