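import Cfsg.Agent.Perm.Dg1
import Cfsg.Agent.Perm.Dg4

/-!
# The derangement subgroup, V: its index is at most `√n - 1`
-/

namespace CF.Dg

open MulAction Subgroup CF.Transfer CF.Perm

universe u

variable {G : Type u} [Group G] [Finite G] {Ω : Type*} [MulAction G Ω] [Finite Ω] [FaithfulSMul G Ω]
  [IsPretransitive G Ω] [Nontrivial Ω] {D : Subgroup G} [hD : D.Normal]

omit [FaithfulSMul G Ω] in
theorem rank_ge (h : U1 D Ω) {N : Subgroup G} (hN : N ≤ D) :
    D.index + 1 ≤ Nat.card (orbitRel.Quotient N (Ω × Ω)) := by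
  obtain ⟨b, a, hab⟩ := exists_pair_ne Ω
  have h1 : ∀ q : G ⧸ D, ∃ g ∈ stabilizer G a, (g : G ⧸ D) = q := fun q => by
    obtain ⟨g, hg, n, hn, e⟩ := mem_sup_of_normal_right.1 ((stab_sp h a).ge (mem_top q.out))
    exact ⟨g, hg, by rw [← q.out_eq', ← e]; exact (QuotientGroup.mk_mul_of_mem g hn).symm⟩
  choose σ h1 h2 using h1
  have h3 : ∀ q, σ q • b ≠ a := fun q e => hab (smul_left_cancel _ (e.trans (h1 q).symm))
  rw [index, ← Finite.card_option]
  refine Nat.card_le_card_of_injective (fun o => Quotient.mk _ (a, o.elim a fun q => σ q • b)) ?_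
  rintro (_ | q) (_ | q') e <;> obtain ⟨n, hn⟩ := Quotient.exact e <;>
    simp only [Prod.smul_mk, Prod.mk.injEq, Option.elim] at hn
  · rfl
  · exact (h3 q' (smul_left_cancel n (hn.2.trans hn.1.symm))).elim
  · exact (h3 q (hn.2.symm.trans hn.1)).elim
  · have h4 : (σ q)⁻¹ * n * σ q' ∈ D := h.le hab ⟨(stabilizer G a).mul_mem ((stabilizer G a).mul_mem
      ((stabilizer G a).inv_mem (h1 q)) hn.1) (h1 q'), by
        change (_ * _ * _) • b = b
        rw [mul_smul, mul_smul, inv_smul_eq_iff]; exact hn.2⟩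
    rw [← h2 q, ← h2 q', QuotientGroup.eq.2 (by
      simpa [mul_assoc] using D.mul_mem (D.inv_mem (hD.conj_mem' _ (hN n.2) (σ q))) h4)]

theorem normal_of {r e : ℕ} [Fact r.Prime] (he : Nat.card Ω = r ^ e) (h : U1 D Ω)
    (hn : Nat.card Ω < (D.index + 1) ^ 2) (hd : 3 ≤ D.index) (R : Sylow r G)
    (hC : ∀ u ∈ R, u ≠ 1 → centralizer {u} ≤ (R : Subgroup G)) : (R : Subgroup G).Normal := by
  classical
  obtain ⟨h1, h2, h3⟩ := regular h hn he R
  have hR := sylow_isPretransitive he R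
  set N := normalClosure ((R : Subgroup G) : Set G)
  have h4 : (R : Subgroup G) ≤ N := le_normalClosure
  by_contra h5
  obtain ⟨g, hg, h6⟩ := SetLike.not_le_iff_exists.1 fun k =>
    h5 ((le_of_burnside he R hR h2 h4 k).antisymm h4 ▸ normalClosure_normal)
  have := Fintype.ofFinite N
  have := Fintype.ofFinite ((R : Subgroup G).subgroupOf N)
  have h7 : ∀ u ∈ R, u ≠ 1 → centralizer {u} = (R : Subgroup G) := fun u hu k =>
    (hC u hu k).antisymm fun v hv => mem_centralizer_singleton_iff.2 (h2 v hv u hu)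
  have h8 : Nat.card Ω = Nat.card ((R : Subgroup G).subgroupOf N) := by
    obtain ⟨a⟩ : Nonempty Ω := inferInstance
    rw [Nat.card_congr (subgroupOfEquivOfLe h4).toEquiv,
      ← card_mul_card_stabilizer (G := (R : Subgroup G)) a,
      (stabilizer_subgroup_eq_bot_iff _ a).2 fun u hu => h3 u hu a, card_bot, mul_one]
  refine char_main (Ω := Ω) (A := (R : Subgroup G).subgroupOf N) (k := ((R : Subgroup G).subgroupOf
    N).relIndex (normalizer _)) ⟨fun a ha b hb => Subtype.ext (h2 _ ha _ hb), fun g x hx k hg => ?_,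
    fun g hg k c hc => ?_, by rw [mul_comm, CF.Transfer.card_mul_relIndex le_normalizer]⟩
    (fun K _ hK => eq_top_iff.2 fun x _ => ?_) (g := ⟨g, hg.2⟩)
    (by rw [← subgroupOf_normalizer_eq h4]; exact hg.1) h6 h8
    (fun x hx a ha => Subtype.ext (h3 _ hx a ha)) hd (h8 ▸ hn) (rank_ge h (normalClosure_le_normal h1))
  · rw [← subgroupOf_normalizer_eq h4]
    refine mem_normalizer_iff_cj.2 ?_
    have k' : (x : G) ≠ 1 := fun e => k (Subtype.ext e)
    conv_lhs => rw [← h7 _ hx k', ← centralizer_conj_image, Set.image_singleton]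
    exact h7 _ hg (by simpa [mul_inv_eq_one] using k')
  · obtain ⟨a, ha⟩ := Finite.surjective_of_injective (f := fun a : (R : Subgroup G).subgroupOf N =>
      (⟨a * (g * a⁻¹ * g⁻¹), mul_mem a.2 (conj_mem_of_mem_normalizer hg (inv_mem a.2))⟩ :
        (R : Subgroup G).subgroupOf N)) (fun a b e => by_contra fun k' => k (hC (b⁻¹ * a : N)
          (mul_mem (inv_mem b.2) a.2) (fun e => k' (Subtype.ext (Subtype.ext
            (inv_mul_eq_one.1 e).symm))) (mem_centralizer_singleton_iff.2 (by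
        have := congrArg (fun x : (R : Subgroup G).subgroupOf N => (b : G)⁻¹ * x * g * a) e
        simpa [mul_assoc] using this.symm)))) ⟨c, hc⟩
    exact ⟨a, a.2, by rw [← show _ = c from congrArg Subtype.val ha]; simp [mul_assoc]⟩
  · have h9 : N ≤ K.map N.subtype := (closure_le _).2 fun y hy => by
      obtain ⟨u, hu, k⟩ := Group.mem_conjugatesOfSet_iff.1 hy
      obtain ⟨g, rfl⟩ := isConj_iff.1 k
      obtain ⟨n, hn, k⟩ := (isSylowIn_of_le R h4).exists_cj_eq ((isSylowIn_of_le R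
        h4).cj_of_mem_normalizer ((normalizer_eq_top N).ge (mem_top g)))
      obtain ⟨v, hv, k⟩ := mem_cj'.1 (k.ge (conj_mem_cj hu))
      exact ⟨_, Normal.conj_mem ‹_› ⟨v, h4 hv⟩ (hK hv) ⟨n, hn⟩, k⟩
    obtain ⟨y, hy, k⟩ := h9 x.2
    rwa [← Subtype.ext k]

theorem frob : ∃ C : ℕ, ∀ (G : Type u) [Group G] [Finite G] (Ω : Type*) [MulAction G Ω] [Finite Ω]
    [FaithfulSMul G Ω] [IsPretransitive G Ω] [Nontrivial Ω] (D : Subgroup G) [D.Normal], U1 D Ω →
      Nat.card Ω < (D.index + 1) ^ 2 → C + 3 ≤ D.index →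
        ∀ g : G, ∀ b c : Ω, g ≠ 1 → g • b = b → g • c = c → b = c := by
  obtain ⟨C, hC⟩ := aff.{u, u}
  refine ⟨C, fun G _ _ Ω _ _ _ _ _ D _ h hn hd => ?_⟩
  obtain ⟨r, e, hr, he⟩ := prime_pow h (fun k => by rw [k, index_top] at hd; omega) hn
  have := Fact.mk hr
  let R : Sylow r G := default
  obtain ⟨h1, h2, h3⟩ := regular h hn he R
  have hR := sylow_isPretransitive he R
  have hR' := (isPretransitive_subgroup_iff _).1 hR
  obtain ⟨a⟩ : Nonempty Ω := inferInstance
  set M := normalizer ((R : Subgroup G) : Set G)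
  have h4 : M ⊓ stabilizer G a ⊔ D = ⊤ := eq_top_iff.2 ((R.normalizer_sup_eq_top' h1).ge.trans
    (sup_le (sup_of_trans (fun g _ b => (hR' b (g • b)).imp fun n hn =>
      ⟨⟨h1 hn.1, le_normalizer hn.1⟩, hn.2⟩) a) le_sup_right))
  have h5 : ∀ g : G, g • a = a → ∀ u : G, g * u * g⁻¹ = u → g • u • a = u • a := fun g hg u k => by
    rw [← mul_smul, mul_inv_eq_iff_eq_mul.1 k, mul_smul, hg]
  letI : CommGroup R := { (inferInstance : Group R) with
    mul_comm := fun u v => Subtype.ext (h2 _ u.2 _ v.2) }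
  letI := MulDistribMulAction.compHom (R : Subgroup G) (inclusion (inf_le_left (b := stabilizer G a)) :
    (M ⊓ stabilizer G a : Subgroup G) →* M)
  have : FaithfulSMul (M ⊓ stabilizer G a : Subgroup G) R := ⟨fun {g g'} k => Subtype.ext
    (eq_of_smul_eq_smul fun b : Ω => by
      obtain ⟨u, hu, rfl⟩ := hR' a b
      have k1 : (g : G) * u * (g : G)⁻¹ = g' * u * (g' : G)⁻¹ := congrArg Subtype.val (k ⟨u, hu⟩)
      rw [← mul_smul, mul_inv_eq_iff_eq_mul.1 k1, mul_smul, g.2.2, mul_smul, mul_smul,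
        inv_smul_eq_iff.2 g'.2.2.symm])⟩
  have h6 := hC R _ (M ⊓ stabilizer G a : Subgroup G) (D.subgroupOf _) rfl
    (fun g hg u k => Subtype.ext (h3 _ u.2 a ((h g hg).unique
      (h5 g g.2.2 u (congrArg Subtype.val k)) g.2.2)))
    (by rwa [← relIndex, relIndex_sp h4, ← card_mul_card_stabilizer a,
      (stabilizer_subgroup_eq_bot_iff _ a).2 fun u hu => h3 u hu a, card_bot, mul_one])
    (by rw [← relIndex, relIndex_sp h4]; omega)
  have h7 : ∀ u ∈ R, u ≠ 1 → centralizer {u} ≤ (R : Subgroup G) := fun u hu k =>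
    le_of_burnside he R hR h2 (fun v hv => mem_centralizer_singleton_iff.2 (h2 v hv u hu))
      fun g hg => by
        obtain ⟨w, hw, k1⟩ := hR' a (g • a)
        by_contra k2
        refine k (congrArg Subtype.val (h6 ⟨w⁻¹ * g, M.mul_mem (M.inv_mem (le_normalizer hw)) hg.1, by
          change (_ * _) • a = a
          rw [mul_smul, ← k1, inv_smul_smul]⟩ (fun e => k2 (inv_mul_eq_one.1
            (congrArg Subtype.val e) ▸ hw)) ⟨u, hu⟩ (Subtype.ext ?_)))
        change w⁻¹ * g * u * (w⁻¹ * g)⁻¹ = u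
        rw [mul_assoc w⁻¹, ← hg.2 u rfl, ← mul_assoc, h2 _ (inv_mem hw) u hu, mul_assoc u,
          mul_inv_cancel_right]
  have h8 := normal_of he h hn (by omega) R h7
  intro g b c hg hb hc
  obtain ⟨u, hu, rfl⟩ := hR' b c
  by_contra k
  refine hg (h3 g (h7 u hu (fun e => k (by rw [e, one_smul])) (mem_centralizer_singleton_iff.2 ?_))
    b hb)
  have := h3 _ (mul_mem (inv_mem hu) (h8.conj_mem u hu g)) b (by
    rw [mul_smul, mul_smul, inv_smul_eq_iff.2 hb.symm, mul_smul, hc, inv_smul_smul])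
  rwa [inv_mul_eq_one, eq_mul_inv_iff_mul_eq, eq_comm] at this

theorem main : ∃ N : ℕ, ∀ (G : Type u) (Ω : Type*) [Group G] [Finite G] [MulAction G Ω]
    [FaithfulSMul G Ω] [Fintype Ω], IsPretransitive G Ω → N ≤ Fintype.card Ω →
    (IsPreprimitive G Ω ∧ (IsPretransitive G Ω ∧ (∃ g : G, g ≠ 1 ∧ ∃ ω : Ω, g • ω = ω) ∧
      ∀ g : G, g ≠ 1 → Nat.card (fixedBy Ω g) ≤ 1)) ∨
    ((closure {g : G | ∀ ω : Ω, g • ω ≠ ω}).index : ℝ) ≤ Real.sqrt (Fintype.card Ω) - 1 := by
  obtain ⟨C, hC⟩ := frob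
  refine ⟨(C + 3) ^ 2, fun G Ω _ _ _ _ _ _ hN => ?_⟩
  set D := closure {g : G | ∀ ω : Ω, g • ω ≠ ω} with hD
  have : D.Normal := by
    rw [show D = normalClosure _ from congrArg Subgroup.closure (Group.subset_conjugatesOfSet.antisymm
      fun y hy => ?_)]
    · infer_instance
    obtain ⟨u, hu, k⟩ := Group.mem_conjugatesOfSet_iff.1 hy
    obtain ⟨g, rfl⟩ := isConj_iff.1 k
    exact fun a e => hu (g⁻¹ • a) (by rwa [mul_smul, mul_smul, ← eq_inv_smul_iff] at e)
  refine or_iff_not_imp_right.2 fun h => ?_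
  have hn : Fintype.card Ω < (D.index + 1) ^ 2 := lt_of_not_ge fun k => h (by
    rw [le_sub_iff_add_le]
    exact Real.le_sqrt_of_sq_le (by exact_mod_cast k))
  have hd := lt_of_pow_lt_pow_left₀ 2 (Nat.zero_le _) (hN.trans_lt hn)
  have : Nontrivial Ω := Fintype.one_lt_card_iff_nontrivial.1 (by nlinarith)
  rw [← Nat.card_eq_fintype_card] at hn
  have h1 : ∀ g ∉ D, ∃ a : Ω, g • a = a := fun g hg => by_contra fun k =>
    hg (subset_closure (not_exists.1 k))
  have h2 := (u1_of h1).1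
  obtain ⟨g, -, hg⟩ := exists_not_mem (D := D) (fun k => by rw [k, index_top] at hd; omega)
    (top_sup_eq D)
  exact ⟨prim h2 hn, ‹_›, ⟨g, fun e => hg (e ▸ D.one_mem), h1 g hg⟩, fun g hg =>
    Finite.card_le_one_iff_subsingleton.2 ⟨fun b c =>
      Subtype.ext (hC G Ω D h2 hn (by omega) g b c hg b.2 c.2)⟩⟩

end CF.Dg
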