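import Cfsg.Agent.Perm.LinTrans
import Cfsg.Agent.Invol.Four

/-! A maximal abelian normal subgroup `A` and the class two normal subgroup `M` above it. -/

set_option autoImplicit false

namespace CF.Perm

open Subgroup CF.Transfer
open scoped commutatorElement

variable {G : Type*} [Group G]

theorem card_mulAut_dvd (H : Type*) [Group H] [Finite H] :
    Nat.card (MulAut H) ∣ (Nat.card H - 1).factorial := by
  have h1 : Nat.card {x : H // x ≠ 1} = Nat.card H - 1 := by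
    have := Set.ncard_add_ncard_compl ({1} : Set H)
    rw [← this, Set.ncard_singleton, Nat.add_sub_cancel_left]; rfl
  rw [← h1, ← Nat.card_perm]
  refine card_dvd_of_injective (MonoidHom.mk' (fun f : MulAut H =>
    Equiv.Perm.subtypePerm (p := fun x => x ≠ 1) f.toEquiv (by simp)) fun _ _ => rfl)
    fun f g e => MulEquiv.ext fun x => ?_
  by_cases hx : x = 1
  · simp [hx]
  · exact congrArg Subtype.val (DFunLike.congr_fun e ⟨x, hx⟩)

theorem exists_dvd_of_prime_dvd_card_mulAut {H : Type*} [Group H] [Finite H] {r : ℕ} (hr : r.Prime)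
    (h : r ∣ Nat.card (MulAut H)) : ∃ e < Nat.card H, e ∣ Nat.card H ∧ r ∣ Nat.card H - e := by
  have := Fact.mk hr
  obtain ⟨f, hf⟩ := exists_prime_orderOf_dvd_card' r h
  have h1 := (IsPGroup.of_card (n := 1) (by rw [Nat.card_zpowers, hf, pow_one]) :
    IsPGroup r (zpowers f)).card_modEq_card_fixedPoints H
  have h2 := card_subgroup_dvd_card (FixedPoints.subgroup (zpowers f) H)
  refine ⟨_, (Nat.le_of_dvd Nat.card_pos h2).lt_of_ne fun e => hr.one_lt.ne ?_, h2,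
    (Nat.modEq_iff_dvd' (Nat.le_of_dvd Nat.card_pos h2)).1 h1.symm⟩
  rw [← hf, eq_comm, orderOf_eq_one_iff]
  exact MulEquiv.ext fun x => (eq_top_of_card_eq _ e).ge (mem_top x) ⟨f, mem_zpowers f⟩

/-- `A` is a maximal abelian normal subgroup, `M / A` is abelian and self-centralising in
`C(A) / A` -/
structure AM (A M : Subgroup G) : Prop where
  An : A.Normal
  Mn : M.Normal
  le : A ≤ M
  cen : M ≤ centralizer (A : Set G)
  comm : ∀ x ∈ M, ∀ y ∈ M, ⁅x, y⁆ ∈ A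
  Amax : ∀ B : Subgroup G, B.Normal → IsMulCommutative B → A ≤ B → B ≤ A
  Mmax : ∀ c ∈ centralizer (A : Set G), (∀ m ∈ M, ⁅c, m⁆ ∈ A) → c ∈ M

theorem inf_centralizer_le {A M : Subgroup G} [M.Normal] (le : A ≤ M)
    (cen : M ≤ centralizer (A : Set G))
    (h : ∀ B : Subgroup G, B.Normal → IsMulCommutative B → A ≤ B → B ≤ A) :
    M ⊓ centralizer (M : Set G) ≤ A :=
  h _ inferInstance ⟨⟨fun a b => Subtype.ext (b.2.2 a a.2.1)⟩⟩ (le_inf le (le_centralizer_iff.1 cen))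

theorem exists_max_abelian [Finite G] : ∃ A : Subgroup G, A.Normal ∧ IsMulCommutative A ∧
    ∀ B : Subgroup G, B.Normal → IsMulCommutative B → A ≤ B → B ≤ A := by
  obtain ⟨A, h⟩ := exists_maximal_of_wellFoundedGT (fun A : Subgroup G => A.Normal ∧
    IsMulCommutative A) ⟨⊥, inferInstance, inferInstance⟩
  exact ⟨A, h.1.1, h.1.2, fun B h1 h2 h3 => h.2 ⟨h1, h2⟩ h3⟩

theorem exists_AM [Finite G] [Group.IsSolvable G] (A : Subgroup G) [hA : A.Normal]
    [IsMulCommutative A] (hm : ∀ B : Subgroup G, B.Normal → IsMulCommutative B → A ≤ B → B ≤ A) :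
    ∃ M, AM A M := by
  let π := QuotientGroup.mk' A
  have h0 : ∀ B D : Subgroup G, ⁅B, D⁆ ≤ A ↔ B.map π ≤ centralizer (D.map π) := fun B D => by
    rw [← commutator_eq_bot_iff_le_centralizer, ← map_commutator, Subgroup.map_eq_bot_iff,
      QuotientGroup.ker_mk']
  obtain ⟨M, ⟨hn, hle, hc, hM⟩, h⟩ := exists_maximal_of_wellFoundedGT (fun M : Subgroup G =>
    M.Normal ∧ A ≤ M ∧ M ≤ centralizer (A : Set G) ∧ ⁅M, M⁆ ≤ A)
    ⟨A, hA, le_rfl, le_centralizer A, commutator_le_left _ _⟩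
  have h1 : ∀ B : Subgroup G, B.Normal → B ≤ centralizer (A : Set G) → ⁅B, M⁆ ≤ A → ⁅B, B⁆ ≤ A →
      B ≤ M := fun B h1 h2 h3 h4 => le_sup_left.trans (h ⟨inferInstance, le_sup_of_le_right hle,
    sup_le h2 hc, by
      have h5 := commutator_comm B M ▸ h3
      simp only [h0, Subgroup.map_sup, sup_le_iff] at *
      constructor <;> rw [← le_centralizer_iff, sup_le_iff] <;> exact ⟨‹_›, ‹_›⟩⟩ le_sup_right)
  have h2 : centralizer (M : Set G) ≤ A := by
    by_contra h2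
    obtain ⟨B, ⟨h3, h4, h5⟩, h6⟩ := exists_minimal_of_wellFoundedLT (fun B : Subgroup G =>
      B.Normal ∧ B ≤ centralizer (M : Set G) ∧ ¬ B ≤ A) ⟨_, inferInstance, le_rfl, h2⟩
    have h7 := Group.IsSolvable.commutator_lt_of_ne_bot (H := B) fun e => h5 (e ▸ bot_le)
    refine h5 ((le_inf (h1 B h3 (h4.trans (centralizer_le hle)) ?_ (by_contra fun h8 =>
      h7.not_ge (h6 ⟨inferInstance, h7.le.trans h4, h8⟩ h7.le))) h4).trans
      (inf_centralizer_le hle hc hm))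
    exact (commutator_eq_bot_iff_le_centralizer.2 h4).trans_le bot_le
  refine ⟨M, hA, hn, hle, hc, commutator_le.1 hM, hm, fun c h3 h4 => ?_⟩
  let D := centralizer (A : Set G) ⊓ (centralizer (M.map π : Set (G ⧸ A))).comap π
  have h5 : ⁅D, M⁆ ≤ A := (h0 _ _).2 (map_le_iff_le_comap.2 inf_le_right)
  have h6 : ⁅A, D⁆ = ⊥ := commutator_eq_bot_iff_le_centralizer.2 (le_centralizer_iff.1 inf_le_left)
  refine h1 D inferInstance inf_le_left h5 (le_trans (commutator_eq_bot_iff_le_centralizer.1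
    (commutator_commutator_eq_bot_of_rotate (eq_bot_mono (commutator_mono h5 le_rfl) h6)
    (eq_bot_mono (commutator_mono (commutator_comm D M ▸ h5) le_rfl) h6))) h2) ⟨h3, ?_⟩
  rintro _ ⟨m, hm, rfl⟩
  rw [eq_comm, ← commutatorElement_eq_one_iff_mul_comm, ← map_commutatorElement]
  exact (QuotientGroup.eq_one_iff _).2 (h4 m hm)

namespace AM

variable {A M : Subgroup G} (h : AM A M)
include h

theorem mem {x : G} (hx : x ∈ centralizer (M : Set G)) : x ∈ A :=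
  have := h.Mn
  inf_centralizer_le h.le h.cen h.Amax ⟨h.Mmax x (centralizer_le h.le hx) fun m hm =>
    commutatorElement_eq_one_iff_mul_comm.2 (hx m hm).symm ▸ one_mem A, hx⟩

theorem commute {a x : G} (ha : a ∈ A) (hx : x ∈ M) : Commute x a := (h.cen hx a ha).symm

/-- the commutator map -/
def br {x : G} (hx : x ∈ M) : M →* A := MonoidHom.mk' (fun m => ⟨⁅x, m⁆, h.comm x hx m m.2⟩)
  fun a b => Subtype.ext (by
    change ⁅x, (a : G) * b⁆ = ⁅x, (a : G)⁆ * ⁅x, (b : G)⁆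
    rw [commutatorElement_mul_right', (h.commute (h.comm x hx b b.2) a.2).mul_inv_cancel])

theorem pow_mem_iff {x : G} (hx : x ∈ M) (n : ℕ) : x ^ n ∈ A ↔ ∀ m ∈ M, ⁅x, m⁆ ^ n = 1 := by
  simp +contextual only [← commutatorElement_pow_left' (h.commute (h.comm x hx _ _) hx),
    commutatorElement_eq_one_iff_mul_comm]
  exact ⟨fun h1 m hm => (h.commute h1 hm).symm, fun h1 => h.mem fun m hm => (h1 m hm).symm⟩

theorem pow_card_mem {x : G} (hx : x ∈ M) : x ^ Nat.card A ∈ A :=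
  (h.pow_mem_iff hx _).2 fun m hm =>
    congrArg Subtype.val (pow_card_eq_one' (x := h.br hx ⟨m, hm⟩))

theorem relIndex_dvd_pow [Finite G] : A.relIndex M ∣ Nat.card A ^ A.relIndex M := by
  have := h.An
  refine (Nat.dvd_pow_self_iff index_ne_zero_of_finite Nat.card_pos.ne').2 fun p hp => ?_
  have := Fact.mk (Nat.prime_of_mem_primeFactors hp)
  obtain ⟨q, hq⟩ := exists_prime_orderOf_dvd_card' (G := M ⧸ A.subgroupOf M) p
    (Nat.dvd_of_mem_primeFactors hp)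
  obtain ⟨x, rfl⟩ := QuotientGroup.mk_surjective q
  exact Nat.mem_primeFactors.2 ⟨this.out, hq ▸ orderOf_dvd_of_pow_eq_one
    ((QuotientGroup.eq_one_iff (x ^ _)).2 (h.pow_card_mem x.2)), Nat.card_pos.ne'⟩

theorem relIndex_dvd [Finite G] : M.relIndex (centralizer (A : Set G)) ∣
    (A.relIndex M - 1).factorial ∧ ∀ r : ℕ, r.Prime → r ∣ M.relIndex (centralizer (A : Set G)) →
    ∃ e < A.relIndex M, e ∣ A.relIndex M ∧ r ∣ A.relIndex M - e := by
  have := h.An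
  have := h.Mn
  let π := QuotientGroup.mk' A
  have := h.Mn.map π (QuotientGroup.mk'_surjective A)
  let φ := (MulAut.conjNormal (H := M.map π)).comp π
  rw [show A.relIndex M = Nat.card (M.map π) by rw [← relIndex_ker, QuotientGroup.ker_mk']]
  suffices h1 : _ ∣ Nat.card (MulAut (M.map π)) from ⟨h1.trans (card_mulAut_dvd _),
    fun r hr h2 => exists_dvd_of_prime_dvd_card_mulAut hr (h2.trans h1)⟩
  refine (relIndex_dvd_of_le_left _ (?_ : φ.ker ⊓ centralizer (A : Set G) ≤ M)).trans ?_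
  · refine fun c hc => h.Mmax c hc.2 fun m hm => (QuotientGroup.eq_one_iff _).1 ?_
    exact mul_inv_eq_one.2 (congrArg Subtype.val (DFunLike.congr_fun hc.1 ⟨π m, m, hm, rfl⟩))
  · rw [inf_relIndex_right, relIndex_ker]
    exact card_subgroup_dvd_card _

theorem le_of_comm (S : Subgroup G) [S.Normal] (hA : A ≤ S) (hS : S ≤ M) {H : Type*} [Group H]
    [IsCyclic H] (f : S →* H) (hf : ∀ x, f x = 1 → (x : G) ∈ A) : S ≤ A :=
  h.Amax S inferInstance (f.isMulCommutative_of_isCyclic_of_ker_le_center fun x hx =>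
    mem_center_iff.2 fun y => Subtype.ext (h.commute (hf x hx) (hS y.2))) hA

theorem le_of_eq_top (hM : M = ⊤) : M ≤ A := fun x hx => by
  have := h.An
  have h1 : (A ⊔ zpowers x).Normal := ⟨fun y hy g => by
    rw [show g * y * g⁻¹ = ⁅g, y⁆ * y by simp [commutatorElement_def]]
    exact mul_mem (mem_sup_left (h.comm _ (hM ▸ mem_top _) _ (hM ▸ mem_top _))) hy⟩
  have : IsCyclic ((A ⊔ zpowers x).map (QuotientGroup.mk' A)) := by
    rw [Subgroup.map_sup, QuotientGroup.map_mk'_self, bot_sup_eq, MonoidHom.map_zpowers]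
    infer_instance
  exact h.le_of_comm _ le_sup_left (hM ▸ le_top) ((QuotientGroup.mk' A).subgroupMap _)
    (fun y hy => (QuotientGroup.eq_one_iff _).1 (congrArg Subtype.val hy))
    (mem_sup_right (mem_zpowers x))

theorem le_of_pow [IsCyclic A] {n k : ℕ} (hn : Nat.card A ∣ n) (hk : k ∣ n.choose 2)
    (h1 : ∀ x ∈ M, x ^ n = 1 → x ∈ A) {x : G} (hx : x ∈ M) (h2 : x ^ k ∈ A) : x ∈ A := by
  have := h.An
  have := h.Mn
  let S : Subgroup G :=
    { carrier := {x | x ∈ M ∧ x ^ k ∈ A}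
      one_mem' := by simp
      inv_mem' := fun {a} hx => ⟨inv_mem hx.1, inv_pow a k ▸ inv_mem hx.2⟩
      mul_mem' := fun {a b} ha hb => ⟨mul_mem ha.1 hb.1, by
        have h3 := h.comm b hb.1 a ha.1
        rw [mul_pow_of_class_two (h.commute h3 ha.1) (h.commute h3 hb.1)]
        exact mul_mem (mul_mem ha.2 hb.2) (pow_mem h3 _)⟩ }
  have : S.Normal := ⟨fun y hy g => ⟨h.Mn.conj_mem y hy.1 g, by
    rw [conj_pow]; exact h.An.conj_mem _ hy.2 g⟩⟩
  obtain ⟨j, rfl⟩ := hn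
  refine h.le_of_comm S (fun a ha => ⟨h.le ha, pow_mem ha k⟩) (fun _ hy => hy.1) (MonoidHom.mk'
    (fun y : S => (⟨y ^ (Nat.card A * j), pow_mul (y : G) _ j ▸ pow_mem (h.pow_card_mem y.2.1) j⟩ : A))
    fun a b => Subtype.ext ?_) (fun y hy => h1 y y.2.1 (congrArg Subtype.val hy)) ⟨hx, h2⟩
  have h3 := h.comm b b.2.1 a a.2.1
  obtain ⟨l, hl⟩ := hk
  simp only [coe_mul]
  rw [mul_pow_of_class_two (h.commute h3 a.2.1) (h.commute h3 b.2.1), hl, pow_mul ⁅(b : G), (a : G)⁆,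
    (h.pow_mem_iff b.2.1 k).1 b.2.2 a a.2.1, one_pow, mul_one]

theorem relIndex_le_four [Finite G] [IsCyclic A] {n : ℕ} (hn : Nat.card A ∣ n)
    (h1 : ∀ x ∈ M, x ^ n = 1 → x ∈ A) : M ≤ A ∨ (n % 4 = 2 ∧ A.relIndex M ≤ 4) := by
  refine or_iff_not_imp_left.2 fun h2 => ?_
  obtain ⟨x, hx, hxA⟩ := SetLike.not_le_iff_exists.1 h2
  have h3 : ∀ y ∈ M, y ^ n ∈ A := fun y hy => by
    obtain ⟨j, rfl⟩ := hn
    exact pow_mul y _ j ▸ pow_mem (h.pow_card_mem hy) j
  obtain ⟨k, rfl⟩ : Even n := Nat.not_odd_iff_even.1 fun ⟨k, hk⟩ => hxA (h.le_of_pow hn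
    ⟨k, by rw [Nat.choose_two_right, hk, Nat.add_sub_cancel, mul_left_comm,
      Nat.mul_div_cancel_left _ two_pos]⟩ h1 hx (h3 x hx))
  have h4 : ∀ y ∈ M, y ^ k ∈ A → y ∈ A := fun y => h.le_of_pow hn ⟨k + k - 1, by
    rw [Nat.choose_two_right, ← two_mul, mul_assoc, Nat.mul_div_cancel_left _ two_pos]⟩ h1
  have h5 : ∀ y ∈ M, y ^ 2 ∈ A := fun y hy => h4 _ (pow_mem hy 2) (by
    rw [← pow_mul, two_mul]; exact h3 y hy)
  have h6 : Odd k := Nat.not_even_iff_odd.1 fun ⟨j, hj⟩ => hxA (h4 x hx (by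
    rw [hj, ← two_mul, pow_mul]; exact pow_mem (h5 x hx) j))
  refine ⟨by obtain ⟨j, rfl⟩ := h6; omega, ?_⟩
  have h7 : ∀ a ∈ A, ∀ b ∈ A, a ^ 2 = 1 → b ^ 2 = 1 → a ≠ 1 → b ≠ 1 → a * b = 1 :=
    fun a ha b hb h7 h8 h9 h10 => by
      rw [CF.Invol.eq_of_invol_of_isCyclic ‹_› ha hb (orderOf_eq_prime h7 h9)
        (orderOf_eq_prime h8 h10), ← sq, h8]
  have h8 : ∀ y ∈ M, (y ^ (k + k)) ^ 2 = 1 := fun y hy => by
    rw [← pow_mul, mul_comm, pow_mul]
    exact orderOf_dvd_iff_pow_eq_one.1 ((A.orderOf_dvd_natCard (h5 y hy)).trans hn)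
  have h9 := (h.pow_mem_iff hx 2).1 (h5 x hx)
  obtain ⟨a, ha, h10⟩ : ∃ a ∈ M, ⁅x, a⁆ ≠ 1 := by
    by_contra! h10
    exact hxA (h.mem fun m hm => (commutatorElement_eq_one_iff_mul_comm.1 (h10 m hm)).symm)
  rw [← relIndex_mul_relIndex A (M ⊓ centralizer {x}) M (le_inf h.le fun a ha y hy =>
    hy ▸ h.commute ha hx) inf_le_left]
  refine Nat.mul_le_mul (Nat.le_of_dvd two_pos ?_) (Nat.le_of_dvd two_pos ?_)
  · refine relIndex_dvd_two_iff.2 ⟨x, ⟨hx, fun y hy => hy ▸ rfl⟩,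
      fun b hb => or_iff_not_imp_right.2 fun hb' => h1 _ (mul_mem hb.1 hx) ?_⟩
    rw [(show Commute b x from (hb.2 x rfl).symm).mul_pow]
    exact h7 _ (h3 _ hb.1) _ (h3 _ hx) (h8 _ hb.1) (h8 _ hx) (mt (h1 _ hb.1) hb') (mt (h1 _ hx) hxA)
  · refine relIndex_dvd_two_iff.2 ⟨a, ha, fun b hb => or_iff_not_imp_right.2
      fun hb' => ⟨mul_mem hb ha, fun y hy => hy ▸ commutatorElement_eq_one_iff_mul_comm.1 ?_⟩⟩
    refine (congrArg Subtype.val ((h.br hx).map_mul ⟨b, hb⟩ ⟨a, ha⟩)).trans (h7 _ (h.comm _ hx _ hb) _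
      (h.comm _ hx _ ha) (h9 _ hb) (h9 _ ha) (fun e => hb' ⟨hb, fun y hy => hy ▸ ?_⟩) h10)
    exact commutatorElement_eq_one_iff_mul_comm.1 e

end AM

end CF.Perm
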