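import Cfsg.Agent.Perm.Huppert

/-! Huppert's theorem on solvable linear groups transitive on non-zero vectors. -/

set_option autoImplicit false

namespace CF.Perm

open Subgroup CF.Transfer Polynomial
open scoped commutatorElement

variable {G V K : Type*} [Group G] [AddCommGroup V] [DistribMulAction G V] [Field K] [Module K V]
  {A M : Subgroup G} {σ : G →* RingAut K}

theorem dedekind {N ι : Type*} [MulOneClass N] [Fintype ι] (ψ : ι → N →* K)
    (hψ : Function.Injective ψ) (w : ι → V) (h : ∀ m, ∑ i, ψ i m • w i = 0) (i : ι) : w i = 0 :=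
  (Module.forall_dual_apply_eq_zero_iff K _).1 fun l => Fintype.linearIndependent_iff.1
    ((linearIndependent_monoidHom N K).comp ψ hψ) (fun i => l (w i))
    (funext fun m => by simpa [mul_comm] using congrArg l (h m)) i

theorem exists_eigen_of_pow [Finite K] [Finite V] [Nontrivial V] {f : Module.End K V}
    (hf : f ^ (Nat.card K - 1) = 1) : ∃ (c : K) (v : V), v ≠ 0 ∧ f v = c • v := by
  have := Fintype.ofFinite K
  have h1 : (X ^ Fintype.card K - X : K[X]).Splits := splits_iff_card_roots.2 (by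
    rw [FiniteField.roots_X_pow_card_sub_X, FiniteField.X_pow_card_sub_X_natDegree_eq K
      Fintype.one_lt_card]; rfl)
  have h2 : minpoly K f ∣ X ^ Fintype.card K - X := minpoly.dvd _ _ (by
    rw [← Nat.card_eq_fintype_card, ← Nat.sub_add_cancel (Nat.card_pos (α := K)), pow_succ]
    simp [hf, -Nat.card_eq_fintype_card])
  obtain ⟨c, hc⟩ := (h1.of_dvd (FiniteField.X_pow_card_sub_X_ne_zero K Fintype.one_lt_card)
    h2).exists_eval_eq_zero (minpoly.degree_pos (Algebra.IsIntegral.isIntegral f)).ne'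
  obtain ⟨v, hv⟩ := (Module.End.hasEigenvalue_of_isRoot hc).exists_hasEigenvector
  exact ⟨c, v, hv.2, hv.apply_eq_smul⟩

theorem sq_le_four_mul_pow {b s : ℕ} (hb : 1 ≤ b) (hs : 2 ≤ s) :
    (s * b + 2) ^ 2 ≤ 4 * (b + 1) ^ s := by
  induction s, hs using Nat.le_induction with
  | base => exact le_of_eq (by ring)
  | succ s hs ih =>
    have h1 : 2 * b ≤ s * b := Nat.mul_le_mul_right _ hs
    rw [pow_succ (b + 1), ← mul_assoc, add_one_mul, add_right_comm]
    obtain ⟨a, ha⟩ : ∃ a, s * b + 2 = a + 2 * b + 2 := ⟨s * b - 2 * b, by omega⟩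
    rw [ha] at ih ⊢
    refine le_trans ?_ (Nat.mul_le_mul_right _ ih)
    obtain ⟨c, rfl⟩ := Nat.exists_eq_add_of_le' hb
    nlinarith [Nat.zero_le (a * c), Nat.zero_le (a * a * c), Nat.zero_le (a * c * c),
      Nat.zero_le (c * c * c)]

set_option synthInstance.maxSize 4096 in
set_option synthInstance.maxHeartbeats 200000 in
theorem huppert_num {Q d i k c e a : ℕ} (hk : 2 ≤ k) (hQ : Q = k ^ i) (hd : 2 ≤ d) (hi : 0 < i)
    (hc0 : 0 < c) (he0 : 0 < e) (h : Q ^ d - 1 ∣ i * (c * (e * a))) (ha : a ∣ Q - 1)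
    (he : e ∣ a ^ e) (hc : c ∣ (e - 1).factorial)
    (hr : ∀ r : ℕ, r.Prime → r ∣ c → ∃ e' < e, e' ∣ e ∧ r ∣ e - e') (hed : e ≤ d ^ 2)
    (hcase : Q ^ d ≤ (2 * e - 3) ^ 2 ∨ e = 1 ∨ ((Q - 1) % 4 = 2 ∧ e ≤ 4)) :
    i = 1 ∧ ((d = 2 ∧ (Q = 3 ∨ Q = 5 ∨ Q = 7 ∨ Q = 11 ∨ Q = 23)) ∨ (d = 4 ∧ Q = 3)) := by
  have h1 : 2 ^ i ≤ Q := hQ ▸ Nat.pow_le_pow_left hk i
  have h2 : k ≤ Q := hQ ▸ Nat.le_self_pow hi.ne' k
  suffices h3 : (d = 2 ∧ (Q = 3 ∨ Q = 5 ∨ Q = 7 ∨ Q = 11 ∨ Q = 23)) ∨ (d = 4 ∧ Q = 3) from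
    ⟨(((by rcases h3 with ⟨-, rfl | rfl | rfl | rfl | rfl⟩ | ⟨-, rfl⟩ <;> norm_num :
      Q.Prime).pow_eq_iff).1 hQ.symm).2, h3⟩
  by_cases h3 : e = 1 ∨ ((Q - 1) % 4 = 2 ∧ e ≤ 4)
  · have h4 : c * e ∣ 24 := (mul_dvd_mul_right hc e).trans (by
      rw [mul_comm, Nat.mul_factorial_pred he0.ne']
      exact Nat.factorial_dvd_factorial (show e ≤ 4 by omega))
    have h5 : Q ^ d - 1 ∣ i * (24 * (Q - 1)) :=
      h.trans (mul_dvd_mul_left _ (mul_assoc c e a ▸ mul_dvd_mul h4 ha))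
    have h6 : Q ^ (d - 1) ≤ 24 * i := by
      have h6 := Nat.le_of_dvd (Nat.mul_pos hi (by omega)) h5
      have h7 : 0 < Q ^ (d - 1) := Nat.pow_pos (by omega)
      rw [← Nat.sub_add_cancel (show 1 ≤ d by omega), pow_succ, ← mul_assoc, mul_comm i] at h6
      refine Nat.le_of_mul_le_mul_right (le_trans ?_ h6) (show 0 < Q - 1 by omega)
      rw [Nat.mul_sub_one]
      omega
    have h7 : Q ≤ 24 * i := (Nat.le_self_pow (by omega) Q).trans h6
    have h8 : i < 8 := by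
      by_contra! h8
      refine absurd (h1.trans h7) (not_le.2 ?_)
      clear * - h8
      induction i, h8 using Nat.le_induction with
      | base => norm_num
      | succ d hd ih => omega
    have h9 : d - 1 < 8 := (Nat.pow_lt_pow_iff_right one_lt_two).1
      ((Nat.pow_le_pow_left (by omega) _).trans_lt (h6.trans_lt (by omega)))
    have key : ∀ i < 8, ∀ k < 169, ∀ d < 9, (0 < i ∧ 2 ≤ k ∧ 2 ≤ d ∧
        (k ^ i) ^ d - 1 ∣ i * (24 * (k ^ i - 1))) → ¬ (k ^ i) ^ d - 1 ∣ i * (k ^ i - 1) ∧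
        ((k ^ i - 1) % 4 = 2 → d = 2 ∧ (k ^ i = 3 ∨ k ^ i = 7 ∨ k ^ i = 11 ∨ k ^ i = 23)) := by
      decide +kernel
    subst hQ
    obtain ⟨h10, h11⟩ := key i h8 k (by omega) d (by omega) ⟨hi, hk, hd, h5⟩
    rcases h3 with rfl | h3
    · rw [Nat.dvd_one.1 hc, one_mul, one_mul] at h
      exact absurd (h.trans (mul_dvd_mul_left _ ha)) h10
    · have := h11 h3.1
      omega
  · have h4 := hcase.resolve_right h3
    have h5 : 3 ≤ Q := by
      by_contra h5
      obtain rfl : Q = 2 := by omega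
      rw [Nat.dvd_one.1 ha, one_pow, Nat.dvd_one] at he
      exact h3 (.inl he)
    have h6 : Q ^ d ≤ (2 * d ^ 2 - 3) ^ 2 := h4.trans (Nat.pow_le_pow_left (by omega) 2)
    have h7 : d < 10 := by
      by_contra! h7
      refine absurd ((Nat.pow_le_pow_left h5 d).trans (h6.trans (Nat.pow_le_pow_left
        (Nat.sub_le _ _) 2))) (not_le.2 ?_)
      clear * - h7
      induction d, h7 using Nat.le_induction with
      | base => norm_num
      | succ d hd ih =>
        have h1 : 10 * (d + 1) ≤ 11 * d := by omega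
        have h2 := Nat.pow_le_pow_left h1 4
        rw [pow_succ 3]
        nlinarith
    have h8 : Q < 160 := by
      have : d ^ 2 ≤ 9 ^ 2 := Nat.pow_le_pow_left (by omega) 2
      exact Nat.lt_succ_of_le ((Nat.pow_le_pow_iff_left two_ne_zero).1 ((Nat.pow_le_pow_right
        (by omega) hd).trans (h6.trans (Nat.pow_le_pow_left (by omega) 2))))
    have key : ∀ d < 10, ∀ Q < 160, 2 ≤ d → 3 ≤ Q → Q ^ d ≤ (2 * d ^ 2 - 3) ^ 2 →
        ((d = 2 ∧ (Q = 3 ∨ Q = 5 ∨ Q = 7 ∨ Q = 11 ∨ Q = 23)) ∨ (d = 4 ∧ Q = 3)) ∨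
        ∃ r ∈ [5, 7, 11, 13, 17, 31, 41, 43, 757, 1093], r ∣ Q ^ d - 1 ∧ ¬ r ∣ Q - 1 ∧ Q < 2 ^ r ∧
          ∀ e ≤ d ^ 2, e ∣ (Q - 1) ^ e → ∀ e' < e, e' ∣ e → ¬ r ∣ e - e' := by decide +kernel
    refine (key d h7 Q h8 hd h5 h6).resolve_right fun ⟨r, r1, r2, r3, r4, r5⟩ => ?_
    have r6 : r.Prime := by fin_cases r1 <;> norm_num
    have h9 := he.trans (pow_dvd_pow_of_dvd ha e)
    rcases (r6.dvd_mul.1 (r2.trans h)).imp_right r6.dvd_mul.1 with h10 | h10 | h10
    · exact r4.not_ge ((Nat.pow_le_pow_right two_pos (Nat.le_of_dvd hi h10)).trans h1)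
    · obtain ⟨e', e1, e2, e3⟩ := hr r r6 h10
      exact r5 e hed h9 e' e1 e2 e3
    · exact r3 ((r6.dvd_mul.1 h10).elim (fun h => r6.dvd_of_dvd_pow (h.trans h9)) (·.trans ha))

theorem AM.card_eq (hM : AM A M) : Nat.card G = (centralizer (A : Set G)).index *
    (M.relIndex (centralizer (A : Set G)) * (A.relIndex M * Nat.card A)) := by
  rw [mul_comm (A.relIndex M), card_mul_relIndex hM.le, mul_comm _ (Nat.card M),
    card_mul_relIndex hM.cen, index_mul_card]

namespace FS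

variable [Nontrivial V] [FaithfulSMul G V] (h : FS V K A σ) (hM : AM A M)
include h hM

omit [Nontrivial V] [FaithfulSMul G V] hM in
theorem lin_pow {g : G} (hg : g ∈ centralizer (A : Set G)) (n : ℕ) (v : V) :
    (h.lin hg ^ n) v = g ^ n • v := by
  induction n with
  | zero => simp
  | succ n ih => rw [pow_succ', pow_succ', mul_smul, ← ih]; rfl

theorem exists_psi : ∃ ψ : M → M →* Kˣ, (∀ (x m : M) (v : V), (x : G) • (m : G) • v =
    (ψ x m : K) • (m : G) • (x : G) • v) ∧ (∀ x y, ψ x = ψ y → (x : G)⁻¹ * y ∈ A) ∧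
    ∀ x n, (∀ m, ψ x m ^ n = 1) → (x : G) ^ n ∈ A := by
  obtain ⟨χ, h1, h2⟩ := h.exists_chi
  refine ⟨fun x => χ.comp (hM.br x.2), fun x m v => ?_, fun x y e => hM.mem fun m hm => ?_,
    fun x n e => (hM.pow_mem_iff x.2 n).2 fun m hm =>
      congrArg Subtype.val (h1 ((map_pow χ _ n).trans ((e ⟨m, hm⟩).trans χ.map_one.symm)))⟩
  · rw [MonoidHom.comp_apply, ← h2]
    simp [AM.br, ← mul_smul, commutatorElement_def]
  · have h3 : ⁅(x : G), m⁆ = ⁅(y : G), m⁆ :=
      congrArg Subtype.val (h1 (DFunLike.congr_fun e (⟨m, hm⟩ : M)))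
    simp only [commutatorElement_def, mul_left_inj] at h3
    calc m * ((x : G)⁻¹ * y) = (x : G)⁻¹ * (x * m * (x : G)⁻¹) * y := by group
      _ = _ := by rw [h3]; group

theorem relIndex_le_sq [Finite G] [Finite V] : A.relIndex M ≤ Module.finrank K V ^ 2 := by
  obtain ⟨ψ, h1, h2, -⟩ := h.exists_psi hM
  have := Fintype.ofFinite (M ⧸ A.subgroupOf M)
  have h3 : LinearIndependent K fun q : M ⧸ A.subgroupOf M => h.lin (hM.cen q.out.2) := by
    refine Fintype.linearIndependent_iff.2 fun c hc q => ?_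
    obtain ⟨v, hv⟩ := exists_ne (0 : V)
    refine (smul_eq_zero.1 (dedekind (fun q : M ⧸ A.subgroupOf M =>
      (Units.coeHom K).comp (ψ q.out)) (fun q r e => ?_) (fun q => c q • (q.out : G) • v)
      (fun m => (smul_eq_zero_iff_eq (m : G)).1 ?_) q)).resolve_right
      (mt (smul_eq_zero_iff_eq _).1 hv)
    · rw [← q.out_eq, ← r.out_eq]
      exact QuotientGroup.eq.2 (h2 _ _ (MonoidHom.ext fun m => Units.ext (DFunLike.congr_fun e m)))
    · have := DFunLike.congr_fun hc ((m : G) • v)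
      rw [LinearMap.sum_apply] at this
      rw [Finset.smul_sum]
      refine (Finset.sum_congr rfl fun q _ => ?_).trans this
      rw [LinearMap.smul_apply, lin_apply, h1, h.comm (hM.cen m.2), h.comm (hM.cen m.2), smul_comm]
      rfl
  simpa [Module.finrank_linearMap, sq, relIndex, index] using h3.fintype_card_le_finrank

theorem ncard_eigen [Finite K] [Finite V] {x : G} (hx : x ∈ M) (hxA : x ∉ A) :
    ({v : V | v ≠ 0 ∧ ∃ c : K, x • v = c • v}.ncard + 2) ^ 2 ≤ 4 * Nat.card V := by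
  obtain ⟨ψ, h1, -, h3⟩ := h.exists_psi hM
  rcases {v : V | v ≠ 0 ∧ ∃ c : K, x • v = c • v}.eq_empty_or_nonempty with h4 | ⟨v, hv, μ, hμ⟩
  · have := Nat.card_pos (α := V)
    rw [h4, Set.ncard_empty]; omega
  let R := (ψ ⟨x, hx⟩).range
  have := Fintype.ofFinite R
  have h4 : x ^ Nat.card R ∈ A := h3 ⟨x, hx⟩ _ fun m =>
    congrArg Subtype.val (pow_card_eq_one' (x := (⟨_, m, rfl⟩ : R)))
  have h5 : 2 ≤ Nat.card R := Nat.lt_of_le_of_ne Nat.card_pos fun e => hxA (by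
    rwa [← e, pow_one] at h4)
  have h6 : ∀ (c : K) (w : V), x • w = c • w → ∀ n : ℕ, x ^ n • w = c ^ n • w := fun c w hw n => by
    induction n with
    | zero => simp
    | succ n ih => rw [pow_succ', mul_smul, ih, h.comm (hM.cen hx), hw, pow_succ, mul_smul]
  have h7 : μ ≠ 0 := fun e => hv ((smul_eq_zero_iff_eq x).1 (by simpa [e] using hμ))
  choose m hm using fun ρ : R => ρ.2
  let W := Module.End.eigenspace (h.lin (hM.cen hx)) μ
  have hW : ∀ w, w ∈ W ↔ x • w = μ • w := fun w => Module.End.mem_eigenspace_iff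
  have h8 : Nat.card W ^ Nat.card R ≤ Nat.card V := by
    rw [← Nat.card_fun]
    refine Nat.card_le_card_of_injective (AddMonoidHom.mk' (fun f : R → W => ∑ ρ, (m ρ : G) • (f ρ : V))
      (by simp [Finset.sum_add_distrib])) ((injective_iff_map_eq_zero _).2 fun f hf => funext
      fun ρ => Subtype.ext ((smul_eq_zero_iff_eq (m ρ : G)).1 (dedekind (fun ρ : R =>
        powersHom K ((ρ : Kˣ) * μ)) (fun a b e => ?_) (fun ρ => (m ρ : G) • (f ρ : V))
        (fun n => ?_) ρ)))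
    · exact Subtype.ext (Units.ext (mul_right_cancel₀ h7 ((powersHom K).injective e)))
    · have := congrArg (x ^ n.toAdd • ·) hf
      simp only [AddMonoidHom.mk'_apply, Finset.smul_sum, smul_zero] at this
      refine (Finset.sum_congr rfl fun ρ _ => (h6 _ _ ?_ _).symm).trans this
      rw [h1 ⟨x, hx⟩, hm, (hW _).1 (f ρ).2, h.comm (hM.cen (m ρ).2), ← mul_smul]; rfl
  have h9 : 2 ≤ Nat.card W := Finite.one_lt_card_iff_nontrivial.2 ⟨⟨v, (hW v).2 hμ⟩, 0, by simpa⟩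
  have h10 : {v : V | v ≠ 0 ∧ ∃ c : K, x • v = c • v}.ncard ≤ Nat.card R * (Nat.card W - 1) := by
    have h10 := Set.ncard_add_ncard_compl ({0} : Set W)
    rw [← h10, Set.ncard_singleton, Nat.add_sub_cancel_left, ← Set.ncard_univ, ← Set.ncard_prod]
    refine (Set.ncard_le_ncard ?_).trans (Set.ncard_image_le (f := fun p : R × W => (m p.1 : G) • (p.2 : V)))
    rintro w ⟨hw, c, hc⟩
    obtain ⟨k, hk⟩ := h.scal _ h4
    have h11 : c ^ Nat.card R = μ ^ Nat.card R := (smul_left_injective K hw ((h6 _ _ hc _).symm.trans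
      (hk w))).trans (smul_left_injective K hv ((hk v).symm.trans (h6 _ _ hμ _)))
    have h12 : c ≠ 0 := fun e => hw ((smul_eq_zero_iff_eq x).1 (by simpa [e] using hc))
    have : NeZero (Nat.card R) := ⟨by omega⟩
    have h13 : Units.mk0 (c / μ) (div_ne_zero h12 h7) ∈ R := (eq_of_le_of_card_ge (fun ρ hρ =>
      congrArg Subtype.val (pow_card_eq_one' (x := (⟨ρ, hρ⟩ : R)))) (card_rootsOfUnity K _)).ge
      (Units.ext (by simp [div_pow, h11, h7, -Nat.card_eq_fintype_card]))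
    refine ⟨(⟨_, h13⟩, ⟨(m ⟨_, h13⟩ : G)⁻¹ • w, (hW _).2 ?_⟩), ⟨trivial, fun e => hw ?_⟩, by simp⟩
    · rw [← coe_inv, h1 ⟨x, hx⟩, map_inv, hm, hc, h.comm (hM.cen (m _)⁻¹.2), ← mul_smul]
      simp [h12]
    · exact (smul_eq_zero_iff_eq _).1 (congrArg Subtype.val e)
  have h11 := sq_le_four_mul_pow (b := Nat.card W - 1) (by omega) h5
  rw [Nat.sub_add_cancel (by omega)] at h11
  exact (Nat.pow_le_pow_left (by omega) 2).trans (h11.trans (by omega))

theorem card_le_of_eigen [Finite G] [Finite K] [Finite V] (ht : Tr G V) {x : G} (hx : x ∈ M)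
    (hxA : x ∉ A) {v : V} (hv : v ≠ 0) {c : K} (hc : x • v = c • v) :
    Nat.card V ≤ (2 * A.relIndex M - 3) ^ 2 := by
  classical
  have := Fintype.ofFinite (M ⧸ A.subgroupOf M)
  have := Fintype.ofFinite V
  have := hM.An
  have h1 : (Finset.univ.erase (0 : V)) ⊆ (Finset.univ.erase (1 : M ⧸ A.subgroupOf M)).biUnion
      fun q => {v : V | v ≠ 0 ∧ ∃ c : K, (q.out : G) • v = c • v}.toFinset := fun w hw => by
    obtain ⟨g, rfl⟩ := ht v w hv (Finset.ne_of_mem_erase hw)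
    let y : M := ⟨g * x * g⁻¹, hM.Mn.conj_mem x hx g⟩
    obtain ⟨a, ha⟩ := QuotientGroup.mk_out_eq_mul (A.subgroupOf M) y
    obtain ⟨k, hk⟩ := h.scal (a : M) a.2
    refine Finset.mem_biUnion.2 ⟨y, Finset.mem_erase.2 ⟨fun e => hxA ?_, Finset.mem_univ _⟩,
      Set.mem_toFinset.2 ⟨Finset.ne_of_mem_erase hw, k * σ g c, ?_⟩⟩
    · simpa [mul_assoc, y] using hM.An.conj_mem _ ((QuotientGroup.eq_one_iff y).1 e) g⁻¹
    · rw [ha, Subgroup.coe_mul, mul_smul, hk, h.comm (hM.cen y.2), mul_smul k, ← h.semi, ← hc]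
      simp [y, mul_smul]
  have h2 := (Finset.card_le_card h1).trans (Finset.card_biUnion_le_card_mul _ _
    (Nat.sqrt (4 * Nat.card V) - 2) fun q hq => by
      have := Nat.le_sqrt'.2 (h.ncard_eigen hM q.out.2 fun e => Finset.ne_of_mem_erase hq
        (q.out_eq ▸ (QuotientGroup.eq_one_iff _).2 e))
      rw [← Set.ncard_eq_toFinset_card']
      omega)
  rw [Finset.card_erase_of_mem (Finset.mem_univ _), Finset.card_erase_of_mem (Finset.mem_univ _),
    Finset.card_univ, Finset.card_univ, ← Nat.card_eq_fintype_card, ← Nat.card_eq_fintype_card] at h2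
  have h3 := Nat.sqrt_le' (4 * Nat.card V)
  have h4 : 1 < Nat.card V := Finite.one_lt_card
  change _ ≤ (A.relIndex M - 1) * _ at h2
  generalize Nat.card V = n at *
  generalize Nat.sqrt (4 * n) = t at *
  generalize A.relIndex M = e at *
  obtain ⟨t, rfl⟩ : ∃ u, t = u + 3 := ⟨t - 3, by
    by_contra h5
    rw [show t - 2 = 0 by omega] at h2
    omega⟩
  obtain ⟨e, rfl⟩ : ∃ u, e = u + 2 := ⟨e - 2, by
    by_contra h5
    rw [show e - 1 = 0 by omega] at h2
    omega⟩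
  rw [show e + 2 - 1 = e + 1 from rfl, show t + 3 - 2 = t + 1 from rfl] at h2
  rw [show 2 * (e + 2) - 3 = 2 * e + 1 from rfl]
  have h5 : (t + 1) * (t + 1) ≤ (t + 1) * (4 * e) := by
    rw [Nat.sub_le_iff_le_add] at h2
    nlinarith
  have h6 := Nat.mul_le_mul_left (e + 1) (Nat.le_of_mul_le_mul_left h5 t.succ_pos)
  rw [Nat.sub_le_iff_le_add] at h2
  nlinarith

theorem cases [Finite G] [Finite K] [Finite V] (ht : Tr G V) (hd : Module.finrank K V ≠ 1) :
    centralizer (A : Set G) = ⊤ ∧ ((Module.finrank K V = 2 ∧ (Nat.card K = 3 ∨ Nat.card K = 5 ∨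
      Nat.card K = 7 ∨ Nat.card K = 11 ∨ Nat.card K = 23)) ∨
      (Module.finrank K V = 4 ∧ Nat.card K = 3)) := by
  obtain ⟨k, hk, hQ⟩ := h.exists_pow_index
  have := h.isCyclic
  rw [← index_eq_one]
  refine huppert_num hk hQ (Nat.lt_of_le_of_ne Module.finrank_pos hd.symm)
    (Nat.pos_of_ne_zero index_ne_zero_of_finite) (Nat.pos_of_ne_zero index_ne_zero_of_finite)
    (Nat.pos_of_ne_zero index_ne_zero_of_finite) ?_ h.card_dvd hM.relIndex_dvd_pow hM.relIndex_dvd.1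
    hM.relIndex_dvd.2 (h.relIndex_le_sq hM) (or_iff_not_imp_left.2 fun h1 => ?_)
  · rw [← Module.natCard_eq_pow_finrank]
    exact ht.card_dvd.trans hM.card_eq.dvd
  · refine (hM.relIndex_le_four h.card_dvd fun x hx h2 => by_contra fun hxA => h1 ?_).imp_left
      relIndex_eq_one.2
    obtain ⟨c, v, hv, hc⟩ := exists_eigen_of_pow (f := h.lin (hM.cen hx)) (LinearMap.ext fun v => by
      rw [h.lin_pow, h2, one_smul]; rfl)
    exact Module.natCard_eq_pow_finrank (K := K) (V := V) ▸ h.card_le_of_eigen hM ht hx hxA hv hc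

end FS

end CF.Perm
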