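import Cfsg.Agent.GW.Quat
import Cfsg.Agent.JR.Pk0
import Cfsg.Agent.Recog.Tools
import Cfsg.Agent.Perm.EqF

/-! The order formula for groups with a Klein four Sylow 2-subgroup, and counting lemmas for subgroups that are
doubly transitive on an invariant subset. -/

set_option autoImplicit false

namespace CF.Kf

open MulAction Subgroup Cfsg CF.BG CF.GW CF.JR

section E4

variable {G : Type*} [Group G] [Finite G] {H : Subgroup G} {a z c x : G}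

theorem norm_cent (f : FP a z) (hS : Syl 2 (V4 a z) H) (hx : x ∈ H) (n : x ∈ 𝐍 (V4 a z)) (k : x ∈ 𝐂₁ a) :
    x ∈ 𝐂 (V4 a z) := by
  obtain ⟨y, w, hy, hw, py, pw, rfl⟩ := exists_piPart {2} x
  refine mul_mem (f.abel (hS.mem_of_norm (zpowers_le.2 hx hy) (zpowers_le.2 n hy) py)) ?_
  exact f.cent_of_odd (zpowers_le.2 n hw) (odd_iff_piElt.2 pw) (left_mem_V4 a z) f.l.ne_one (zpowers_le.2 k hw)

theorem dc_V4 (f : FP a z) : DC (V4 a z) := by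
  refine ⟨a, left_mem_V4 a z, fun x hx _ => ⟨f.sq hx, ?_⟩, fun x hx y hy nx ny => ?_⟩
  · rw [conj_eq_of_comm (f.abel.mul_comm hx (left_mem_V4 a z)), f.l.inv_eq]
  · rw [f.l.mem_zpowers] at nx ny ⊢
    rcases f.mem.1 hx with h | h | h | h <;> rcases f.mem.1 hy with k | k | k | k <;>
      simp only [h, k, true_or, or_true, not_true] at nx ny ⊢
    · exact .inl f.r.sq
    · exact .inr f.mul_mul'
    · exact .inr (by rw [mul_assoc, f.r.sq, mul_one])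
    · exact .inl f.iv.sq

/-- the order formula -/
def E4F (u v n c : ℕ) : Prop := n = u ^ 2 * ((4 * v + 1) * (2 * v + 1)) * c ∨ n = u ^ 2 * ((4 * v - 1) * (2 * v - 1)) * c

theorem e4_core (f : FP a z) (hS : Syl 2 (V4 a z) H) (hc : c ∈ H) (l : c * a * c⁻¹ = z) (r : c * z * c⁻¹ = a * z)
    (h0 : 𝐎 {2}ᶜ H = ⊥) : ∃ v, 0 < v ∧ ♯(H ⊓ 𝐂₁ a : Subgroup G) = v * ♯(H ⊓ 𝐂 (V4 a z) : Subgroup G) ∧
      E4F 1 v (♯H) (♯(H ⊓ 𝐂₁ a : Subgroup G)) := by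
  have ha : a ∈ H := hS.le (left_mem_V4 a z)
  rcases (dg_of_syl hS (dc_V4 f)).cases' h0 with k | ⟨-, ⟨e⟩⟩ | ⟨L, q, n, -, d, -, -, o, hL⟩
  · have := f.abel.mul_comm ((hS.eq_of_pi k).symm ▸ hc : c ∈ V4 a z) (left_mem_V4 a z)
    exact absurd ((conj_eq_of_comm this).symm.trans l) f.ne
  · have h8 := hS.dvd_card (n := 2 ^ 3) (by
      rw [Nat.card_congr e.toEquiv, Nat.card_eq_fintype_card, card_alternatingGroup]; decide) (piNat_pow_self Nat.prime_two 3)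
    rw [f.card] at h8
    exact absurd h8 (by decide)
  have hL : IsL q L := hL
  have m3 : a * z ∈ L := d (by
    rw [f.comm, ← l, ← f.l.inv_eq, f.l.inv_eq, mul_assoc _ c⁻¹, ← mul_assoc]
    nth_rewrite 2 [← f.l.inv_eq]
    exact commutator_mem_commutator hc ha)
  have m2 : z ∈ L := by
    have := n.conj_mem' hc m3
    rwa [← r, show c⁻¹ * (c * z * c⁻¹) * c = z by group] at this
  have m1 : a ∈ L := by
    have := n.conj_mem' hc m2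
    rwa [← l, show c⁻¹ * (c * a * c⁻¹) * c = a by group] at this
  have vL : V4 a z ≤ L ⊓ 𝐂₁ a := le_inf (V4_le.2 ⟨m1, m2⟩) f.V4_le
  obtain ⟨v, hv⟩ : 4 ∣ ♯(L ⊓ 𝐂₁ a : Subgroup G) := f.card ▸ card_dvd vL
  have v0 : 0 < v := Nat.pos_of_ne_zero fun e => card_ne_zero' (L ⊓ 𝐂₁ a) (by rw [hv, e])
  have e1 : L ⊔ (H ⊓ 𝐂₁ a) = H := le_antisymm (sup_le n.le inf_le_left) fun x hx => by
    obtain ⟨g, hg, e⟩ := hL.one o (n.conj_mem hx m1) m1 (f.l.conj x) f.l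
    have : g * x ∈ H ⊓ 𝐂₁ a := ⟨mul_mem (n.le hg) hx, mem_cent1.2 (by
      rw [← e, show g * (x * a * x⁻¹) * g⁻¹ * (g * x) = g * x * a by group, e])⟩
    simpa using mul_mem (mem_sup_left (inv_mem hg)) (mem_sup_right this : g * x ∈ L ⊔ (H ⊓ 𝐂₁ a))
  have n2 : L ⊓ 𝐂₁ a ⊴ H ⊓ 𝐂₁ a := ⟨inf_le_inf_right _ n.le, norm_inf (inf_le_left.trans n.norm)
    (norm_of_le inf_le_right)⟩
  have e2 : (L ⊓ 𝐂₁ a) ⊔ (H ⊓ 𝐂 (V4 a z)) = H ⊓ 𝐂₁ a := by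
    refine le_antisymm (sup_le n2.le (inf_le_inf_left _ (cent_le_cent1 (left_mem_V4 a z)))) ?_
    conv_lhs => rw [← (hS.of_le vL (inf_le_left.trans n.le)).syl_frattini_sup n2]
    exact sup_le_sup_left (fun x hx => ⟨hx.1.1, norm_cent f hS hx.1.1 hx.2 hx.1.2⟩) _
  have c1 := card_sup_mul_card_inf (H := L) (K := H ⊓ 𝐂₁ a) (.inr (inf_le_left.trans n.norm))
  have c2 := card_sup_mul_card_inf (H := L ⊓ 𝐂₁ a) (K := H ⊓ 𝐂 (V4 a z))
    (.inr ((inf_le_inf_left _ (cent_le_cent1 (left_mem_V4 a z))).trans n2.norm))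
  rw [e1, ← inf_assoc, inf_eq_left.2 n.le, hv] at c1
  rw [e2, show (L ⊓ 𝐂₁ a) ⊓ (H ⊓ 𝐂 (V4 a z)) = V4 a z from le_antisymm (fun x hx => hL.four o m1 m2 f ⟨hx.1.1, hx.2.2⟩)
    (le_inf vL (le_inf hS.le f.abel)), f.card, hv] at c2
  refine ⟨v, v0, Nat.eq_of_mul_eq_mul_right (show 0 < 4 by decide) (by rw [c2]; ring), ?_⟩
  have c3 := hL.card o
  have c4 := hL.card_iv o m1 f.l
  rw [hv] at c4
  generalize ♯H = N at *
  generalize ♯(H ⊓ 𝐂₁ a : Subgroup G) = C at *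
  generalize ♯L = M at *
  rcases c4 with rfl | c4
  · refine .inl (Nat.eq_of_mul_eq_mul_right (show 0 < 8 * v by omega) ?_)
    rw [show (4 * v + 1) ^ 2 - 1 = 8 * v * (2 * v + 1) from Nat.sub_eq_of_eq_add (by ring)] at c3
    calc N * (8 * v) = 2 * M * C := by rw [mul_assoc, ← c1]; ring
      _ = _ := by rw [c3]; ring
  · obtain ⟨v, rfl⟩ : ∃ w, v = w + 1 := ⟨v - 1, by omega⟩
    obtain rfl : q = 4 * v + 3 := by omega
    refine .inr (Nat.eq_of_mul_eq_mul_right (show 0 < 8 * (v + 1) by omega) ?_)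
    rw [show (4 * v + 3) ^ 2 - 1 = 8 * (v + 1) * (2 * v + 1) from Nat.sub_eq_of_eq_add (by ring)] at c3
    rw [show 4 * (v + 1) - 1 = 4 * v + 3 by omega, show 2 * (v + 1) - 1 = 2 * v + 1 by omega]
    calc N * (8 * (v + 1)) = 2 * M * C := by rw [mul_assoc, ← c1]; ring
      _ = _ := by rw [c3]; ring

theorem e4 (f : FP a z) (hS : Syl 2 (V4 a z) H) (hc : c ∈ H) (l : c * a * c⁻¹ = z) (r : c * z * c⁻¹ = a * z) :
    ∃ u v, 0 < u ∧ 0 < v ∧ ♯(H ⊓ 𝐂₁ a : Subgroup G) = u * v * ♯(H ⊓ 𝐂 (V4 a z) : Subgroup G) ∧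
      E4F u v (♯H) (♯(H ⊓ 𝐂₁ a : Subgroup G)) := by
  have n := O_normal {2}ᶜ H
  have o := odd_O H
  have h0 := O_qt_O {2}ᶜ H
  generalize 𝐎 {2}ᶜ H = O at n o h0
  have ha : a ∈ H := hS.le (left_mem_V4 a z)
  have hz : z ∈ H := hS.le (right_mem_V4 a z)
  have na := n.norm ha
  have nz := n.norm hz
  have nc := n.norm hc
  obtain ⟨v, v0, h1, h2⟩ := e4_core (f.qe na nz o) (qt_V4 na nz ▸ hS.qt n.norm) (qe_mem_qt hc nc)
    (by rw [← qe_conj nc na, l]) (by rw [← qe_conj nc nz, r, qe_mul na nz]) h0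
  rw [← qt_cent1 f.l na (le_norm_self H ha) o] at h1 h2
  rw [← qt_V4 na nz, ← qt_inf_cent' (hS.le.trans n.norm) (norm_of_le hS.le) (f.coprime o) (.inl f.abel.sol)] at h1
  have k : ∀ X : Subgroup G, ♯(H ⊓ X : Subgroup G) = ♯(O ⊓ X : Subgroup G) * ♯(qt O (H ⊓ X)) := fun X => by
    rw [card_qt (inf_le_left.trans n.norm), ← card_inf_mul_relIndex O (H ⊓ X), ← inf_assoc, inf_eq_left.2 n.le]
  have k0 : ♯H = ♯O * ♯(qt O H) := by rw [card_qt n.norm, card_mul_relIndex n.le]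
  have w := Recog.four_formula f.l.sq f.r.sq f.comm f.l.ne_one f.r.ne_one f.ne na nz o
  have w1 : ♯(O ⊓ 𝐂₁ z : Subgroup G) = ♯(O ⊓ 𝐂₁ a : Subgroup G) := by
    rw [← l, ← cj_cent1, ← card_cj c (O ⊓ 𝐂₁ a), cj_inf, cj_of_norm nc]
  have w2 : ♯(O ⊓ 𝐂₁ (a * z) : Subgroup G) = ♯(O ⊓ 𝐂₁ z : Subgroup G) := by
    rw [← r, ← cj_cent1, ← card_cj c (O ⊓ 𝐂₁ z), cj_inf, cj_of_norm nc]
  change ♯(O ⊓ 𝐂₁ a : Subgroup G) * ♯(O ⊓ 𝐂₁ z : Subgroup G) * ♯(O ⊓ 𝐂₁ (a * z) : Subgroup G) =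
    ♯O * ♯(O ⊓ (𝐂₁ a ⊓ 𝐂₁ z) : Subgroup G) ^ 2 at w
  rw [w2, w1, ← cent_V4] at w
  obtain ⟨u, hu⟩ := card_dvd (inf_le_inf_left O (cent_le_cent1 (left_mem_V4 a z)))
  have p := card_pos' (O ⊓ 𝐂 (V4 a z))
  have u0 : 0 < u := Nat.pos_of_ne_zero fun e => card_ne_zero' (O ⊓ 𝐂₁ a) (by rw [hu, e, mul_zero])
  have hO : ♯O = u ^ 2 * ♯(O ⊓ 𝐂₁ a : Subgroup G) :=
    Nat.eq_of_mul_eq_mul_right (pow_pos p 2) (by rw [← w, hu]; ring)
  refine ⟨u, v, u0, v0, by rw [k, k, h1, hu]; ring, ?_⟩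
  rw [k0, k, hO]
  exact h2.imp (fun e => by rw [e]; ring) fun e => by rw [e]; ring

end E4

section TT

variable {G Ω : Type*} [Group G] [Finite G] [MulAction G Ω] [Finite Ω] {R : Subgroup G} {Δ : Set Ω} {T : Set G}
  {a b x : Ω}

/-- `R` is doubly transitive on the invariant set `Δ` -/
structure TT (R : Subgroup G) (Δ : Set Ω) : Prop where
  inv : ∀ g ∈ R, ∀ x ∈ Δ, g • x ∈ Δ
  tr : ∀ x ∈ Δ, ∀ y ∈ Δ, ∀ x' ∈ Δ, ∀ y' ∈ Δ, x ≠ y → x' ≠ y' → ∃ g ∈ R, g • x = x' ∧ g • y = y'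

omit [Finite Ω] in
theorem orb_card (h : ∀ x, x ∈ Δ ↔ ∃ g ∈ R, g • a = x) :
    ♯R = Δ.ncard * ♯(R ⊓ stabilizer G a : Subgroup G) := by
  have e : Δ = orbit R a := Set.ext fun x => (h x).trans ⟨fun ⟨g, hg, e⟩ => ⟨⟨g, hg⟩, e⟩, fun ⟨g, e⟩ => ⟨g, g.2, e⟩⟩
  rw [← Perm.card_orbit_mul_card_stabilizer (G := R) a, e, ← Nat.card_coe_set_eq, inf_comm,
    ← OdT.card_sub R (stabilizer G a)]
  rfl

theorem sum_ncard {α β : Type*} (A : Set α) (B : Set β) (hA : A.Finite) (hB : B.Finite) (P : α → β → Prop) :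
    ∑ x ∈ hA.toFinset, {y ∈ B | P x y}.ncard = ∑ y ∈ hB.toFinset, {x ∈ A | P x y}.ncard := by
  classical
  have k : ∀ Q : β → Prop, {y ∈ B | Q y}.ncard = (hB.toFinset.filter Q).card := fun Q => by
    rw [← Set.ncard_coe_finset]; congr 1; ext; simp
  have k' : ∀ Q : α → Prop, {y ∈ A | Q y}.ncard = (hA.toFinset.filter Q).card := fun Q => by
    rw [← Set.ncard_coe_finset]; congr 1; ext; simp
  simp only [k, k', Finset.card_filter]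
  exact Finset.sum_comm

theorem sum_two {β : Type*} {B : Set β} (hB : B.Finite) {a : β} (ha : a ∈ B) (φ : β → ℕ) {k : ℕ}
    (h : ∀ y ∈ B, y ≠ a → φ y = k) : ∑ y ∈ hB.toFinset, φ y = φ a + (B.ncard - 1) * k := by
  classical
  rw [← Finset.add_sum_erase _ _ (hB.mem_toFinset.2 ha), Finset.sum_const_nat (m := k) fun y hy =>
    h y (hB.mem_toFinset.1 (Finset.mem_of_mem_erase hy)) (Finset.ne_of_mem_erase hy),
    Finset.card_erase_of_mem (hB.mem_toFinset.2 ha), Set.ncard_eq_toFinset_card B hB]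

omit [Finite G] [Finite Ω] in
theorem ncard_conj (hT : ∀ g ∈ R, ∀ σ ∈ T, g * σ * g⁻¹ ∈ T) {g : G} (hg : g ∈ R) (x y u v : Ω) :
    {σ ∈ T | σ • g • x = g • y ∧ σ • g • u = g • v}.ncard = {σ ∈ T | σ • x = y ∧ σ • u = v}.ncard := by
  symm
  exact Set.ncard_congr (fun σ _ => g * σ * g⁻¹) (fun σ h => ⟨hT g hg σ h.1, by simp [mul_smul, h.2.1, h.2.2]⟩)
    (fun σ τ _ _ e => by simpa using e) fun τ h => ⟨g⁻¹ * τ * g, ⟨by simpa using hT _ (inv_mem hg) τ h.1,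
      by simp [mul_smul, h.2.1, h.2.2]⟩, by group⟩

namespace TT

variable (h : TT R Δ) (ha : a ∈ Δ) (hb : b ∈ Δ) (hab : a ≠ b)
include h

omit [Finite G] [Finite Ω] in
theorem ne {g : G} {x y : Ω} (n : x ≠ y) : g • x ≠ g • y := fun e => n (smul_left_cancel g e)

include ha hb hab

omit [Finite G] [Finite Ω] in
theorem one (hx : x ∈ Δ) : ∃ g ∈ R, g • a = x := by
  by_cases e : x = a
  · exact ⟨1, one_mem _, by simp [e]⟩
  · obtain ⟨g, hg, e, -⟩ := h.tr a ha b hb x hx a ha hab e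
    exact ⟨g, hg, e⟩

omit [Finite Ω] in
theorem card1 : ♯R = Δ.ncard * ♯(R ⊓ stabilizer G a : Subgroup G) :=
  orb_card fun _ => ⟨h.one ha hb hab, fun ⟨g, hg, e⟩ => e ▸ h.inv g hg a ha⟩

theorem card2 : ♯(R ⊓ stabilizer G a : Subgroup G) =
    (Δ.ncard - 1) * ♯(R ⊓ (stabilizer G a ⊓ stabilizer G b) : Subgroup G) := by
  rw [← inf_assoc, ← Set.ncard_diff_singleton_of_mem ha]
  refine orb_card fun x => ⟨fun hx => ?_, ?_⟩
  · obtain ⟨g, hg, e1, e2⟩ := h.tr a ha b hb a ha x hx.1 hab (Ne.symm hx.2)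
    exact ⟨g, ⟨hg, e1⟩, e2⟩
  · rintro ⟨g, hg, rfl⟩
    exact ⟨h.inv g hg.1 b hb, fun e => hab (smul_left_cancel g ((show g • a = a from hg.2).trans e.symm))⟩

theorem two_le : 2 ≤ Δ.ncard := (Set.one_lt_ncard (Set.toFinite Δ)).2 ⟨a, ha, b, hb, hab⟩

/-- counting an invariant set of elements each of which fixes `r` points -/
theorem dc (hR : T ⊆ R) (hT : ∀ g ∈ R, ∀ σ ∈ T, g * σ * g⁻¹ ∈ T) {r : ℕ}
    (hr : ∀ σ ∈ T, {x ∈ Δ | σ • x = x}.ncard = r) :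
    {σ ∈ T | σ • a = a}.ncard * Δ.ncard =
      ({σ ∈ T | σ • a = a}.ncard + (Δ.ncard - 1) * {σ ∈ T | σ • a = b}.ncard) * r ∧
    {σ ∈ T | σ • a = a}.ncard * r =
      {σ ∈ T | σ • a = a}.ncard + (Δ.ncard - 1) * {σ ∈ T | σ • a = a ∧ σ • b = b}.ncard := by
  have fT := Set.toFinite T
  have fD := Set.toFinite Δ
  have s : ∀ {A : Set G} (hA : A.Finite) {k : ℕ} {φ : G → ℕ}, (∀ σ ∈ A, φ σ = k) →
      ∑ σ ∈ hA.toFinset, φ σ = A.ncard * k := fun hA k φ e => by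
    rw [Finset.sum_const_nat (m := k) fun σ hσ => e σ (hA.mem_toFinset.1 hσ), Set.ncard_eq_toFinset_card _ hA]
  have e1 := sum_ncard T Δ fT fD fun σ y => σ • a = y
  rw [s fT (k := 1) fun σ hσ => Set.ncard_eq_one.2 ⟨σ • a, Set.ext fun y =>
    ⟨fun e => e.2.symm, fun e => by rw [e]; exact ⟨h.inv σ (hR hσ) a ha, rfl⟩⟩⟩, mul_one,
    sum_two fD ha _ (k := {σ ∈ T | σ • a = b}.ncard) fun y hy n => by
      obtain ⟨g, hg, e1, e2⟩ := h.tr a ha b hb a ha y hy hab n.symm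
      simpa [e1, e2] using ncard_conj hT hg a b a b] at e1
  have e2 := sum_ncard T Δ fT fD fun σ y => σ • y = y
  rw [s fT hr, sum_two fD ha _ (k := {σ ∈ T | σ • a = a}.ncard) fun y hy n => by
      obtain ⟨g, hg, e1⟩ := h.one ha hb hab hy
      simpa [e1] using ncard_conj hT hg a a a a] at e2
  have e3 := sum_ncard {σ ∈ T | σ • a = a} Δ (Set.toFinite _) fD fun σ y => σ • y = y
  rw [s _ fun σ hσ => hr σ hσ.1, sum_two fD ha _ (k := {σ ∈ T | σ • a = a ∧ σ • b = b}.ncard) fun y hy n => by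
      obtain ⟨g, hg, e1, e2⟩ := h.tr a ha b hb a ha y hy hab n.symm
      simpa [e1, e2, and_assoc] using ncard_conj hT hg a a b b] at e3
  have t := h.two_le ha hb hab
  refine ⟨?_, by simpa using e3⟩
  rw [← e1, e2]
  obtain ⟨N, e⟩ : ∃ N, Δ.ncard = N + 1 := ⟨Δ.ncard - 1, by omega⟩
  rw [e, Nat.add_sub_cancel]; ring

/-- the sharply 2-transitive case -/
theorem sharp (hs : ∀ g ∈ R, ∀ x ∈ Δ, ∀ y ∈ Δ, x ≠ y → g • x = x → g • y = y → ∀ u ∈ Δ, g • u = u) :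
    (∃ p j : ℕ, p.Prime ∧ 1 ≤ j ∧ Δ.ncard = p ^ j) ∧ (Odd Δ.ncard → ∀ y ∈ R, ∀ z ∈ R, y • a = a → z • a = a →
      y • b ≠ b → z • b ≠ b → (∀ u ∈ Δ, y • y • u = u) → (∀ u ∈ Δ, z • z • u = u) → ∀ u ∈ Δ, y • z • u = u) := by
  letI : MulAction R Δ :=
    { smul g x := ⟨(g : G) • (x : Ω), h.inv g g.2 x x.2⟩
      one_smul x := Subtype.ext (one_smul G _)
      mul_smul g k x := Subtype.ext (mul_smul (g : G) k _) }
  have cs : ∀ (g : R) (x : Δ), ((g • x : Δ) : Ω) = (g : G) • (x : Ω) := fun _ _ => rfl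
  let X := (toPermHom R Δ).range
  have : Nontrivial Δ := ⟨⟨a, ha⟩, ⟨b, hb⟩, fun e => hab (congrArg Subtype.val e)⟩
  have sh : ∀ x y : Δ, x ≠ y → ∀ g : X, g • x = x → g • y = y → g = 1 := by
    rintro x y n ⟨_, g, rfl⟩ e1 e2
    exact Subtype.ext (Equiv.ext fun u => Subtype.ext (hs g g.2 x x.2 y y.2 (fun e => n (Subtype.ext e))
      (congrArg Subtype.val e1) (congrArg Subtype.val e2) u u.2))
  obtain ⟨N, nN, tN, rN, -, cN, p, j, hp, hj, e, hN⟩ := Perm.sharp2_kernel (G := X) (α := Δ)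
    (Perm.twoTrans_iff.2 fun x y x' y' n n' => by
      obtain ⟨g, hg, e1, e2⟩ := h.tr x x.2 y y.2 x' x'.2 y' y'.2 (fun e => n (Subtype.ext e)) fun e => n' (Subtype.ext e)
      exact ⟨⟨_, ⟨g, hg⟩, rfl⟩, Subtype.ext e1, Subtype.ext e2⟩) (Perm.sharp_two_iff.2 sh)
  refine ⟨⟨p, j, hp, hj, e⟩, fun o y hy z hz ya za yb zb yy zz u hu => ?_⟩
  have oN : Odd (♯N) := by rwa [Perm.card_eq_of_regular N ⟨a, ha⟩ (rN _)]
  have k : ∀ y (hy : y ∈ R), y • a = a → y • b ≠ b → (∀ u ∈ Δ, y • y • u = u) →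
      Inv (⟨_, ⟨y, hy⟩, rfl⟩ : X) N := fun y hy ya yb yy => by
    have y1 : (⟨_, ⟨y, hy⟩, rfl⟩ : X) ≠ 1 := fun e =>
      yb (congrArg (fun g : X => ((g • (⟨b, hb⟩ : Δ) : Δ) : Ω)) e)
    refine inv_of_cent_bot (.mk' y1 (Subtype.ext (Equiv.ext fun u => Subtype.ext (yy u u.2))))
      ((normalIn_top.2 nN).norm trivial) oN (eq_bot_iff.2 fun n hn => by_contra fun n1 => y1 ?_)
    have ya' : (⟨_, ⟨y, hy⟩, rfl⟩ : X) • (⟨a, ha⟩ : Δ) = ⟨a, ha⟩ := Subtype.ext ya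
    refine sh ⟨a, ha⟩ (n • ⟨a, ha⟩) (fun e => n1 ?_) _ ya' (by rw [← mul_smul, ← mem_cent1.1 hn.2, mul_smul, ya'])
    have : (⟨n, hn.1⟩ : N) ∈ stabilizer N (⟨a, ha⟩ : Δ) := e.symm
    rw [rN] at this
    exact congrArg Subtype.val (mem_bot.1 this)
  have c := (k y hy ya yb yy).mul_cent (k z hz za zb zz)
  obtain ⟨n, hn⟩ := tN.exists_smul_eq ⟨a, ha⟩ ⟨u, hu⟩
  have f : ((⟨_, ⟨y, hy⟩, rfl⟩ : X) * ⟨_, ⟨z, hz⟩, rfl⟩) • (⟨a, ha⟩ : Δ) = ⟨a, ha⟩ :=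
    Subtype.ext (show y • z • a = a by rw [za, ya])
  have : ((⟨_, ⟨y, hy⟩, rfl⟩ : X) * ⟨_, ⟨z, hz⟩, rfl⟩) • (⟨u, hu⟩ : Δ) = ⟨u, hu⟩ := by
    rw [← hn]
    change _ • (n : X) • (⟨a, ha⟩ : Δ) = (n : X) • (⟨a, ha⟩ : Δ)
    rw [← mul_smul, ← mem_cent.1 c n n.2, mul_smul, f]
  exact congrArg Subtype.val this

end TT

end TT

end CF.Kf
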