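import Cfsg.Agent.Perm.Kf1

/-! Doubly transitive groups with two-point stabilizer `A₄` or `A₅`: the basic counts. -/

set_option autoImplicit false
set_option linter.unusedSectionVars false

namespace CF.Kf

open MulAction Subgroup Cfsg CF.BG CF.GW CF.JR CF.Small

theorem par {α : Type*} {A : Set α} (hA : A.Finite) (φ : α → α) (m : ∀ x ∈ A, φ x ∈ A) (i : ∀ x ∈ A, φ (φ x) = x) :
    A.ncard % 2 = {x ∈ A | φ x = x}.ncard % 2 := by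
  classical
  haveI := hA.fintype
  haveI := Fact.mk Nat.prime_two
  have := Equiv.Perm.card_fixedPoints_modEq (f := (fun x => ⟨φ x, m x x.2⟩ : Function.End A)) (p := 2) (n := 1)
    (funext fun x => Subtype.ext (i x x.2))
  rw [← Nat.card_eq_fintype_card, ← Nat.card_eq_fintype_card, Nat.card_coe_set_eq, Nat.card_coe_set_eq,
    ← Set.ncard_image_of_injective _ Subtype.val_injective] at this
  refine this.trans (congrArg (fun B : Set α => B.ncard % 2) (Set.ext fun x => ⟨?_, fun h => ⟨⟨x, h.1⟩, Subtype.ext h.2, rfl⟩⟩))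
  rintro ⟨y, hy, rfl⟩
  exact ⟨y.2, congrArg Subtype.val hy⟩

theorem ex_fix {α : Type*} {A : Set α} (hA : A.Finite) (φ : α → α) (m : ∀ x ∈ A, φ x ∈ A) (i : ∀ x ∈ A, φ (φ x) = x)
    (o : Odd A.ncard) : ∃ x ∈ A, φ x = x := by
  have := par hA φ m i
  rw [Nat.odd_iff.1 o] at this
  exact Set.nonempty_of_ncard_ne_zero (s := {x ∈ A | φ x = x}) fun e => by rw [e] at this; omega

theorem even_of {α : Type*} {A : Set α} (hA : A.Finite) (φ : α → α) (m : ∀ x ∈ A, φ x ∈ A) (i : ∀ x ∈ A, φ (φ x) = x)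
    (n : ∀ x ∈ A, φ x ≠ x) : Even A.ncard :=
  Nat.not_odd_iff_even.1 fun o => let ⟨x, hx, e⟩ := ex_fix hA φ m i o; n x hx e

theorem num_dc {α β γ M N : ℕ} (l : 1 ≤ N) (e1 : α * (N + 1) = (α + N * β) * (M + 1)) (e2 : α * (M + 1) = α + N * γ) :
    (β * (M + 1) + γ) * M = N * γ ∧ α = β * (M + 1) + γ := by
  have : α = β * (M + 1) + γ := Nat.eq_of_mul_eq_mul_right l (by nlinarith)
  exact ⟨by rw [← this]; nlinarith, this⟩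

variable {G Ω : Type*} [Group G] [Finite G] [MulAction G Ω] [Finite Ω] {q i : ℕ} {a b x y : Ω} {t w c σ τ g : G}

variable (G Ω) in
/-- the hypothesis -/
structure Hy (q i : ℕ) : Prop where
  faith : ∀ g : G, (∀ x : Ω, g • x = x) → g = 1
  tr : ∀ x y x' y' : Ω, x ≠ y → x' ≠ y' → ∃ g : G, g • x = x' ∧ g • y = y'
  qi : (q = 3 ∧ i = 3) ∨ (q = 5 ∧ i = 15)
  isL : ∀ x y : Ω, x ≠ y → IsL q (stab2 G x y)

/-- the hypothesis with a choice of points and of a four-group -/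
structure D (q i : ℕ) (a b : Ω) (t w c : G) : Prop extends Hy G Ω q i where
  ne : a ≠ b
  cy : Cy t w c
  mt : t ∈ stab2 G a b
  mw : w ∈ stab2 G a b
  mc : c ∈ stab2 G a b

variable (Ω) in
/-- involutions with at least two fixed points -/
def Gd (σ : G) : Prop := Iv σ ∧ ∃ x y : Ω, x ≠ y ∧ σ • x = x ∧ σ • y = y

variable (Ω) in
/-- the fixed points of a four-group -/
def F2 (t w : G) : Set Ω := {x | t • x = x ∧ w • x = x}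

theorem conj_fix (h : σ • x = y) (g : G) : (g * σ * g⁻¹) • g • x = g • y := by simp [mul_smul, h]

theorem conj_stab (h : σ ∈ stab2 G x y) (g : G) : g * σ * g⁻¹ ∈ stab2 G (g • x) (g • y) :=
  ⟨conj_fix h.1 g, conj_fix h.2 g⟩

theorem smul_ne (n : x ≠ y) (g : G) : g • x ≠ g • y := fun e => n (smul_left_cancel g e)

theorem Gd.conj (h : Gd Ω σ) (g : G) : Gd Ω (g * σ * g⁻¹) :=
  let ⟨j, _, _, n, e, e'⟩ := h; ⟨j.conj g, _, _, smul_ne n g, conj_fix e g, conj_fix e' g⟩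

theorem gd_conj : Gd Ω (g * σ * g⁻¹) ↔ Gd Ω σ := ⟨fun h => by simpa [mul_assoc] using h.conj g⁻¹, fun h => h.conj g⟩

theorem cent_fix (h : g ∈ 𝐂₁ t) (e : t • x = x) : t • g • x = g • x := by rw [← mul_smul, ← mem_cent1.1 h, mul_smul, e]

theorem sw_of (j : Iv σ) (e : σ • x = y) : σ • y = x := by rw [← e, ← mul_smul, j.sq, one_smul]

theorem V4_fix (hg : g ∈ V4 t w) (h : x ∈ F2 Ω t w) : g • x = x :=
  (V4_le.2 ⟨h.1, h.2⟩ : V4 t w ≤ stabilizer G x) hg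

namespace Hy

variable (h : Hy G Ω q i)
include h

theorem odd : Odd q := by rcases h.qi with e | e <;> simp [e.1, Nat.odd_iff]

theorem oi : Odd i := by rcases h.qi with e | e <;> simp [e.2, Nat.odd_iff]

theorem card (n : x ≠ y) : ♯(stab2 G x y) = 4 * i := by
  have := (h.isL x y n).card h.odd
  rcases h.qi with ⟨rfl, rfl⟩ | ⟨rfl, rfl⟩ <;> omega

theorem ex (n : x ≠ y) (hσ : σ ∈ stab2 G x y) (j : Iv σ) : ∃ v ρ, D q i x y σ v ρ := by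
  obtain ⟨v, hv, u, hu, ρ, hρ, k⟩ := (h.isL x y n).a4 h.odd
  obtain ⟨g, hg, rfl⟩ := (h.isL x y n).one h.odd hv hσ k.fp.l j
  exact ⟨g * u * g⁻¹, g * ρ * g⁻¹, h, n, k.map (f := (MulAut.conj g).toMonoidHom) (conj_inj g), hσ,
    mul_mem (mul_mem hg hu) (inv_mem hg), mul_mem (mul_mem hg hρ) (inv_mem hg)⟩

theorem ex0 (n : x ≠ y) : ∃ u v ρ : G, D q i x y u v ρ :=
  let ⟨v, hv, u, hu, ρ, hρ, k⟩ := (h.isL x y n).a4 h.odd; ⟨v, u, ρ, h, n, k, hv, hu, hρ⟩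

theorem tt : TT (⊤ : Subgroup G) (Set.univ : Set Ω) :=
  ⟨fun _ _ _ _ => trivial, fun x _ y _ x' _ y' _ n n' => let ⟨g, e⟩ := h.tr x y x' y' n n'; ⟨g, trivial, e⟩⟩

theorem moves (n : σ ≠ 1) : ∃ x : Ω, σ • x ≠ x := by
  by_contra k
  exact n (h.faith σ (by simpa using k))

end Hy

namespace D

variable (h : D q i a b t w c)
include h

theorem fp : FP t w := h.cy.fp

theorem vK : V4 t w ≤ stab2 G a b := V4_le.2 ⟨h.mt, h.mw⟩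

theorem aF : a ∈ F2 Ω t w := ⟨h.mt.1, h.mw.1⟩

theorem bF : b ∈ F2 Ω t w := ⟨h.mt.2, h.mw.2⟩

theorem gd : Gd Ω t := ⟨h.fp.l, a, b, h.ne, h.mt.1, h.mt.2⟩

theorem one (hσ : σ ∈ stab2 G a b) (j : Iv σ) : ∃ g ∈ stab2 G a b, g * t * g⁻¹ = σ :=
  (h.isL a b h.ne).one h.odd h.mt hσ h.fp.l j

theorem cK : 𝐂₁ t ⊓ stab2 G a b = V4 t w := by
  have := (h.isL a b h.ne).card_iv h.odd h.mt h.fp.l
  have l : V4 t w ≤ 𝐂₁ t ⊓ stab2 G a b := le_inf h.fp.V4_le h.vK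
  have d := card_dvd l
  rw [inf_comm] at this
  rw [h.fp.card] at d
  refine (eq_of_le_of_card_ge l ?_).symm
  rw [h.fp.card]
  rcases h.qi with ⟨rfl, -⟩ | ⟨rfl, -⟩ <;> omega

theorem mem (hg : g ∈ 𝐂₁ t) (e : g • a = a) (e' : g • b = b) : g = 1 ∨ g = t ∨ g = w ∨ g = t * w :=
  h.fp.mem.1 (h.cK.le ⟨hg, e, e'⟩)

theorem at' (hx : x ∈ F2 Ω t w) (hy : y ∈ F2 Ω t w) (n : x ≠ y) : 𝐂₁ t ⊓ stab2 G x y = V4 t w := by
  obtain ⟨v, ρ, k⟩ := h.ex n ⟨hx.1, hy.1⟩ h.fp.l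
  refine (eq_of_le_of_card_ge (le_inf h.fp.V4_le (V4_le.2 ⟨mem_inf.2 ⟨hx.1, hy.1⟩, mem_inf.2 ⟨hx.2, hy.2⟩⟩)) ?_).symm
  rw [k.cK, k.fp.card, h.fp.card]

theorem conj (g : G) : D q i (g • a) (g • b) (g * t * g⁻¹) (g * w * g⁻¹) (g * c * g⁻¹) :=
  ⟨h.toHy, smul_ne h.ne g, h.cy.map (f := (MulAut.conj g).toMonoidHom) (conj_inj g), conj_stab h.mt g,
    conj_stab h.mw g, conj_stab h.mc g⟩

theorem sq4 (hg : g ∈ stab2 G a b) (e : g * g * (g * g) = 1) : g * g = 1 := by_contra fun n => by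
  obtain ⟨v, ρ, k⟩ := h.ex h.ne (mul_mem hg hg) (.mk' n e)
  exact n (k.fp.sq (k.cK.le ⟨mem_cent1.2 (mul_assoc _ _ _).symm, hg⟩))

theorem ncard_iv : {σ ∈ {σ : G | Gd Ω σ} | σ • a = a ∧ σ • b = b}.ncard = i := by
  have e : {σ ∈ {σ : G | Gd Ω σ} | σ • a = a ∧ σ • b = b} = Ab2.cls (stab2 G a b) t := Set.ext fun σ =>
    ⟨fun k => h.one k.2 k.1.1, fun ⟨g, hg, e⟩ => e ▸ ⟨h.gd.conj g, mul_mem (mul_mem hg h.mt) (inv_mem hg)⟩⟩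
  have := card_inf_mul_relIndex (𝐂₁ t) (stab2 G a b)
  rw [h.cK, h.fp.card, h.card h.ne, ← Ab2.ncard_cls, ← e] at this
  omega

theorem gd_conj (k : Gd Ω σ) : ∃ g, g * t * g⁻¹ = σ := by
  obtain ⟨j, x, y, n, e, e'⟩ := k
  obtain ⟨g, rfl, rfl⟩ := h.tr a b x y h.ne n
  obtain ⟨k, -, e⟩ := (h.conj g).one ⟨e, e'⟩ j
  exact ⟨k * g, by rw [← e]; group⟩

theorem tt : TT (𝐂₁ t) (fixedBy Ω t) := by
  have k : ∀ x ∈ fixedBy Ω t, ∀ y ∈ fixedBy Ω t, x ≠ y → ∃ g ∈ 𝐂₁ t, g • a = x ∧ g • b = y := fun x hx y hy n => by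
    obtain ⟨g, rfl, rfl⟩ := h.tr a b x y h.ne n
    obtain ⟨k, hk, e⟩ := (h.conj g).one ⟨hx, hy⟩ h.fp.l
    exact ⟨k * g, mem_cent1.2 (mul_inv_eq_iff_eq_mul.1 (.trans (by group) e)), by rw [mul_smul]; exact hk.1,
      by rw [mul_smul]; exact hk.2⟩
  refine ⟨fun g hg x hx => cent_fix hg hx, fun x hx y hy x' hx' y' hy' n n' => ?_⟩
  obtain ⟨g, hg, rfl, rfl⟩ := k x hx y hy n
  obtain ⟨g', hg', rfl, rfl⟩ := k x' hx' y' hy' n'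
  exact ⟨g' * g⁻¹, mul_mem hg' (inv_mem hg), by simp [mul_smul], by simp [mul_smul]⟩

theorem ttV : TT (𝐂₁ t ⊓ 𝐍 (V4 t w)) (F2 Ω t w) := by
  refine ⟨fun g hg x hx => ⟨cent_fix hg.1 hx.1, ?_⟩, fun x hx y hy x' hx' y' hy' n n' => ?_⟩
  · have := V4_fix (conj_mem_of_norm' hg.2 (right_mem_V4 t w)) hx
    rwa [mul_smul, mul_smul, inv_smul_eq_iff] at this
  · obtain ⟨g, hg, rfl, rfl⟩ := h.tt.tr x hx.1 y hy.1 x' hx'.1 y' hy'.1 n n'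
    refine ⟨g, ⟨hg, mem_norm_of_cj_le ?_⟩, rfl, rfl⟩
    rw [cj_V4, conj_eq_of_comm (mem_cent1.1 hg), V4_le, ← h.at' hx' hy' n']
    exact ⟨⟨mem_cent1.2 rfl, hx'.1, hy'.1⟩, mem_inf.2 ⟨mul_mem (mul_mem hg (h.fp.V4_le (right_mem_V4 t w))) (inv_mem hg),
      conj_fix hx.2 g, conj_fix hy.2 g⟩⟩

theorem cardC : ♯(𝐂₁ t) = (fixedBy Ω t).ncard * ♯(𝐂₁ t ⊓ stabilizer G a : Subgroup G) ∧
    ♯(𝐂₁ t ⊓ stabilizer G a : Subgroup G) = ((fixedBy Ω t).ncard - 1) * 4 :=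
  ⟨h.tt.card1 h.mt.1 h.mt.2 h.ne, by rw [h.tt.card2 h.mt.1 h.mt.2 h.ne, h.cK, h.fp.card]⟩

theorem cardR : ♯(𝐂₁ t ⊓ 𝐍 (V4 t w) : Subgroup G) =
      (F2 Ω t w).ncard * ♯(𝐂₁ t ⊓ 𝐍 (V4 t w) ⊓ stabilizer G a : Subgroup G) ∧
    ♯(𝐂₁ t ⊓ 𝐍 (V4 t w) ⊓ stabilizer G a : Subgroup G) = ((F2 Ω t w).ncard - 1) * 4 :=
  ⟨h.ttV.card1 h.aF h.bF h.ne, by
    rw [h.ttV.card2 h.aF h.bF h.ne, inf_right_comm, h.cK, inf_eq_left.2 (le_norm_self _), h.fp.card]⟩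

theorem cardG : Nat.card G = Nat.card Ω * ♯(stabilizer G a) ∧
    ♯(stabilizer G a) = (Nat.card Ω - 1) * (4 * i) := by
  have h1 := h.toHy.tt.card1 (Set.mem_univ a) (Set.mem_univ b) h.ne
  have h2 := h.toHy.tt.card2 (Set.mem_univ a) (Set.mem_univ b) h.ne
  rw [top_inf_eq, Set.ncard_univ] at h1 h2
  rw [top_inf_eq, h.card h.ne] at h2
  exact ⟨card_top'.symm.trans h1, h2⟩

theorem shV (hg : g ∈ 𝐂₁ t) (hx : x ∈ F2 Ω t w) (hy : y ∈ F2 Ω t w) (n : x ≠ y) (e : g • x = x) (e' : g • y = y) :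
    g ∈ V4 t w := (h.at' hx hy n).le ⟨hg, e, e'⟩

theorem sharp : (∃ p j : ℕ, p.Prime ∧ 1 ≤ j ∧ (F2 Ω t w).ncard = p ^ j) ∧ (Odd (F2 Ω t w).ncard →
    ∀ y ∈ 𝐂₁ t ⊓ 𝐍 (V4 t w), ∀ z ∈ 𝐂₁ t ⊓ 𝐍 (V4 t w), y • a = a → z • a = a → y ∉ V4 t w → z ∉ V4 t w →
      y * y ∈ V4 t w → z * z ∈ V4 t w → y * z ∈ V4 t w) := by
  have := h.ttV.sharp h.aF h.bF h.ne fun g hg x hx y hy n e e' u hu => V4_fix (h.shV hg.1 hx hy n e e') hu
  refine ⟨this.1, fun o y hy z hz ya za ny nz yy zz => ?_⟩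
  have k := this.2 o y hy z hz ya za (fun e => ny (h.shV hy.1 h.aF h.bF h.ne ya e))
    (fun e => nz (h.shV hz.1 h.aF h.bF h.ne za e)) (fun u hu => by rw [← mul_smul, V4_fix yy hu])
    fun u hu => by rw [← mul_smul, V4_fix zz hu]
  exact h.shV (mul_mem hy.1 hz.1) h.aF h.bF h.ne (by rw [mul_smul, k a h.aF]) (by rw [mul_smul, k b h.bF])

theorem fx_gd (k : Gd Ω σ) : {x ∈ (Set.univ : Set Ω) | σ • x = x}.ncard = (fixedBy Ω t).ncard := by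
  obtain ⟨g, rfl⟩ := h.gd_conj k
  rw [Set.sep_univ]
  exact EqF.fx_conj g t

/-- the count of the good involutions -/
theorem cnt : ∃ M N, (fixedBy Ω t).ncard = M + 1 ∧ Nat.card Ω = N + 1 ∧ 1 ≤ M ∧
    ({σ ∈ {σ : G | Gd Ω σ} | σ • a = b}.ncard * (M + 1) + i) * M = N * i := by
  obtain ⟨e1, e2⟩ := h.toHy.tt.dc (Set.mem_univ a) (Set.mem_univ b) h.ne (T := {σ : G | Gd Ω σ}) (fun _ _ => trivial)
    (fun g _ σ k => k.conj g) fun σ k => h.fx_gd k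
  have l := h.tt.two_le h.mt.1 h.mt.2 h.ne
  have l' := h.toHy.tt.two_le (Set.mem_univ a) (Set.mem_univ b) h.ne
  rw [h.ncard_iv] at e2
  rw [Set.ncard_univ] at e1 e2 l'
  obtain ⟨M, hM⟩ : ∃ M, (fixedBy Ω t).ncard = M + 1 := ⟨_, (Nat.sub_add_cancel (by omega)).symm⟩
  obtain ⟨N, hN⟩ : ∃ N, Nat.card Ω = N + 1 := ⟨_, (Nat.sub_add_cancel (by omega)).symm⟩
  refine ⟨M, N, hM, hN, by omega, ?_⟩
  rw [hM, hN, Nat.add_sub_cancel] at e1 e2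
  exact (num_dc (by omega) e1 e2).1

end D

end CF.Kf
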