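import Cfsg.Agent.Perm.Kf2

/-! Doubly transitive groups with two-point stabilizer `A₄` or `A₅`: elements interchanging two points. -/

set_option autoImplicit false
set_option linter.unusedSectionVars false

namespace CF.Kf

open MulAction Subgroup Cfsg CF.BG CF.GW CF.JR CF.Small

variable {G Ω : Type*} [Group G] [Finite G] [MulAction G Ω] [Finite Ω] {q i : ℕ} {a b x y : Ω} {t w c s σ τ g : G}

theorem TT.dc1 {R : Subgroup G} {Δ : Set Ω} {T : Set G} (h : TT R Δ) (ha : a ∈ Δ) (hb : b ∈ Δ) (hab : a ≠ b)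
    (o : Odd Δ.ncard) (hR : T ⊆ R) (hT : ∀ g ∈ R, ∀ σ ∈ T, g * σ * g⁻¹ ∈ T) (h2 : ∀ σ ∈ T, ∀ x ∈ Δ, σ • σ • x = x)
    (h1 : ∀ σ ∈ T, ∀ x ∈ Δ, ∀ y ∈ Δ, σ • x = x → σ • y = y → x = y) :
    {σ ∈ T | σ • a = a}.ncard = {σ ∈ T | σ • a = b}.ncard := by
  have := (h.dc ha hb hab hR hT (r := 1) fun σ hσ => by
    obtain ⟨x, hx, e⟩ := ex_fix (Set.toFinite Δ) (σ • ·) (h.inv σ (hR hσ)) (h2 σ hσ) o
    exact Set.ncard_eq_one.2 ⟨x, Set.ext fun y => ⟨fun k => h1 σ hσ y k.1 x hx k.2 e, fun k => k ▸ ⟨hx, e⟩⟩⟩).1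
  have l := h.two_le ha hb hab
  obtain ⟨N, e⟩ : ∃ N, Δ.ncard = N + 1 := ⟨_, (Nat.sub_add_cancel (by omega)).symm⟩
  rw [e, Nat.add_sub_cancel] at this
  exact Nat.eq_of_mul_eq_mul_left (show 0 < N by omega) (by linarith)

variable (Ω) in
/-- involutions of `C(t)` with two fixed points in common with `t` -/
def Tp (t : G) : Set G := {τ | τ ∈ 𝐂₁ t ∧ Iv τ ∧ τ ≠ t ∧ ∃ x y : Ω, x ≠ y ∧ x ∈ F2 Ω t τ ∧ y ∈ F2 Ω t τ}

theorem F2_mul : F2 Ω t (t * w) = F2 Ω t w := Set.ext fun x => and_congr_right fun e => by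
  rw [mul_smul, smul_eq_iff_eq_inv_smul, inv_smul_eq_iff.2 e.symm]

theorem F2_conj : x ∈ F2 Ω t w → g • x ∈ F2 Ω (g * t * g⁻¹) (g * w * g⁻¹) := fun h => ⟨conj_fix h.1 g, conj_fix h.2 g⟩

theorem ncard_F2 (g : G) : (F2 Ω (g * t * g⁻¹) (g * w * g⁻¹)).ncard = (F2 Ω t w).ncard := by
  symm
  exact Set.ncard_congr (fun x _ => g • x) (fun _ => F2_conj) (fun _ _ _ _ => smul_left_cancel g) fun y hy =>
    ⟨g⁻¹ • y, by simpa [mul_assoc] using F2_conj (g := g⁻¹) hy, smul_inv_smul g y⟩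

theorem conj_t (hg : g ∈ 𝐂₁ t) : g * t * g⁻¹ = t := conj_eq_of_comm (mem_cent1.1 hg)

theorem Tp.conj (h : τ ∈ Tp Ω t) (hg : g ∈ 𝐂₁ t) : g * τ * g⁻¹ ∈ Tp Ω t := by
  obtain ⟨h1, h2, h3, x, y, n, hx, hy⟩ := h
  refine ⟨mul_mem (mul_mem hg h1) (inv_mem hg), h2.conj g, fun e => h3 ?_, g • x, g • y, smul_ne n g, ?_, ?_⟩
  · simpa using e.trans (conj_t hg).symm
  · simpa only [conj_t hg] using F2_conj (g := g) hx
  · simpa only [conj_t hg] using F2_conj (g := g) hy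

theorem Tp.mul (j : Iv t) (h : τ ∈ Tp Ω t) : t * τ ∈ Tp Ω t := by
  obtain ⟨h1, h2, h3, x, y, n, hx, hy⟩ := h
  exact ⟨mul_mem (self_mem_cent1 t) h1, j.mul h2 (mem_cent1.1 h1).symm h3.symm, fun e => h2.ne_one (by simpa using e),
    x, y, n, by rwa [F2_mul], by rwa [F2_mul]⟩

theorem Tp.gd (h : τ ∈ Tp Ω t) : Gd Ω τ := let ⟨_, h2, _, x, y, n, hx, hy⟩ := h; ⟨h2, x, y, n, hx.2, hy.2⟩

namespace D

variable (h : D q i a b t w c)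
include h

theorem c3 : c * c * c = 1 := by rw [← h.cy.cube, pow_three']

theorem ctw : c * (t * w) * c⁻¹ = t := by
  rw [show c * (t * w) * c⁻¹ = c * t * c⁻¹ * (c * w * c⁻¹) by group, h.cy.l, h.cy.r, h.fp.mul_mul']

theorem mul : D q i a b t (t * w) c⁻¹ :=
  ⟨h.toHy, h.ne, ⟨h.fp.mul, by rw [inv_pow, h.cy.cube, inv_one], by rw [inv_inv, mul_assoc, inv_mul_eq_iff_eq_mul, ← mul_inv_eq_iff_eq_mul.1 h.ctw], by
    rw [h.fp.mul_mul, ← h.cy.r]; group⟩, h.mt, mul_mem h.mt h.mw, inv_mem h.mc⟩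

theorem rot : D q i a b w (t * w) c :=
  ⟨h.toHy, h.ne, ⟨h.fp.mul', h.cy.cube, h.cy.r, by rw [h.ctw, h.fp.mul_mul']⟩, h.mw, mul_mem h.mt h.mw, h.mc⟩

theorem cN : c ∈ 𝐍 (V4 t w) := mem_norm_of_cj_le (by
  rw [cj_V4, h.cy.l, h.cy.r, V4_le]; exact ⟨right_mem_V4 _ _, mul_mem (left_mem_V4 _ _) (right_mem_V4 _ _)⟩)

theorem c_not : c ∉ 𝐂₁ t := fun e => h.fp.ne ((conj_t e).symm.trans h.cy.l)

theorem ordc : orderOf c = 3 :=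
  haveI := Fact.mk Nat.prime_three
  orderOf_eq_prime h.cy.cube fun e => h.c_not (e ▸ one_mem _)

theorem w_tp : w ∈ Tp Ω t := ⟨h.fp.V4_le (right_mem_V4 _ _), h.fp.r, h.fp.ne.symm, a, b, h.ne, h.aF, h.bF⟩

theorem tp_ex (k : τ ∈ Tp Ω t) (n : x ≠ y) (hx : x ∈ F2 Ω t τ) (hy : y ∈ F2 Ω t τ) : ∃ ρ, D q i x y t τ ρ := by
  obtain ⟨v, ρ, d⟩ := h.ex n ⟨hx.1, hy.1⟩ h.fp.l
  rcases d.mem k.1 hx.2 hy.2 with e | e | rfl | rfl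
  exacts [absurd e k.2.1.ne_one, absurd e k.2.2.1, ⟨_, d⟩, ⟨_, d.mul⟩]

theorem tp_card (k : τ ∈ Tp Ω t) : (F2 Ω t τ).ncard = (F2 Ω t w).ncard := by
  obtain ⟨x, y, n, hx, hy⟩ := k.2.2.2
  obtain ⟨g, hg, rfl, rfl⟩ := h.tt.tr a h.mt.1 b h.mt.2 x hx.1 y hy.1 h.ne n
  have d := h.conj g
  rw [← ncard_F2 (t := t) (w := w) g]
  rw [conj_t hg] at d ⊢
  rcases d.mem k.1 hx.2 hy.2 with e | e | rfl | rfl
  exacts [absurd e k.2.1.ne_one, absurd e k.2.2.1, rfl, by rw [F2_mul]]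

theorem tp_ab : {τ ∈ Tp Ω t | τ • a = a ∧ τ • b = b} = {w, t * w} := Set.ext fun τ => ⟨fun k => by
  rcases h.mem k.1.1 k.2.1 k.2.2 with e | e | e | e
  exacts [absurd e k.1.2.1.ne_one, absurd e k.1.2.2.1, .inl e, .inr e], by
  rintro (rfl | rfl)
  exacts [⟨h.w_tp, h.mw⟩, ⟨h.mul.w_tp, h.mul.mw⟩]⟩

/-- the count in `C(t)` -/
theorem cnt2 : ∃ k F, (F2 Ω t w).ncard = F + 1 ∧ 1 ≤ F ∧ (fixedBy Ω t).ncard = (k * (F + 1) + 1) * F + 1 ∧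
    {τ ∈ Tp Ω t | τ • a = b}.ncard = 2 * k ∧ {τ ∈ Tp Ω t | τ • a = a}.ncard = 2 * k * (F + 1) + 2 := by
  obtain ⟨e1, e2⟩ := h.tt.dc h.mt.1 h.mt.2 h.ne (T := Tp Ω t) (fun _ k => k.1) (fun g hg σ k => Tp.conj k hg)
    fun σ k => h.tp_card k
  have l := h.tt.two_le h.mt.1 h.mt.2 h.ne
  have l' := h.ttV.two_le h.aF h.bF h.ne
  rw [h.tp_ab, Set.ncard_pair h.fp.mul'.ne] at e2
  obtain ⟨M, hM⟩ : ∃ M, (fixedBy Ω t).ncard = M + 1 := ⟨_, (Nat.sub_add_cancel (by omega)).symm⟩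
  obtain ⟨F, hF⟩ : ∃ F, (F2 Ω t w).ncard = F + 1 := ⟨_, (Nat.sub_add_cancel (by omega)).symm⟩
  obtain ⟨k, hk⟩ : Even {τ ∈ Tp Ω t | τ • a = b}.ncard := even_of (Set.toFinite _) (t * ·)
    (fun τ k => ⟨Tp.mul h.fp.l k.1, by rw [mul_smul, k.2]; exact h.mt.2⟩)
    (fun τ _ => by simp only [← mul_assoc, h.fp.l.sq, one_mul]) fun τ _ e => h.fp.l.ne_one (by simpa using e)
  rw [hM, hF, Nat.add_sub_cancel, hk] at e1
  rw [hM, hF, Nat.add_sub_cancel] at e2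
  obtain ⟨e3, e4⟩ := num_dc (by omega) e1 e2
  exact ⟨k, F, hF, by omega, by rw [hM]; nlinarith, by omega, by rw [e4]; ring⟩

theorem sw_K (e : σ • a = b) (e' : σ • b = a) (hg : g ∈ stab2 G a b) : σ * g * σ⁻¹ ∈ stab2 G a b := by
  have := conj_stab hg σ
  rw [e, e'] at this
  exact ⟨this.2, this.1⟩

theorem sw_cent (j : Iv σ) (e : σ • a = b) : ∃ k ∈ stab2 G a b, k * σ * k⁻¹ ∈ 𝐂₁ t := by
  obtain ⟨τ, hτ, e1⟩ := ex_fix (Set.toFinite {σ ∈ {σ : G | Gd Ω σ} | σ • a = a ∧ σ • b = b}) (fun τ => σ * τ * σ⁻¹)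
    (fun τ k => ⟨k.1.conj σ, h.sw_K e (sw_of j e) k.2⟩)
    (fun τ _ => by rw [show σ * (σ * τ * σ⁻¹) * σ⁻¹ = σ * σ * τ * (σ * σ)⁻¹ by group, j.sq]; simp)
    (h.ncard_iv.symm ▸ h.oi)
  obtain ⟨g, hg, rfl⟩ := h.one hτ.2 hτ.1.1
  refine ⟨g⁻¹, inv_mem hg, mem_cent1.2 (mul_inv_eq_iff_eq_mul.1 ?_)⟩
  calc _ = g⁻¹ * (σ * (g * t * g⁻¹) * σ⁻¹) * g := by group
    _ = t := by rw [e1]; group

theorem ex_conj (j : Iv σ) {x : Ω} (n : σ • x ≠ x) : ∃ g, g * σ * g⁻¹ ∈ 𝐂₁ t ∧ (g * σ * g⁻¹) • a = b := by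
  obtain ⟨g, e, e'⟩ := h.tr x (σ • x) a b n.symm h.ne
  have e1 : (g * σ * g⁻¹) • a = b := by rw [← e, ← e']; exact conj_fix rfl g
  obtain ⟨k, hk, m⟩ := h.sw_cent (j.conj g) e1
  refine ⟨k * g, by rwa [← EqF.conj_mul_conj_aux], ?_⟩
  have := conj_fix e1 k
  rwa [hk.1, hk.2, EqF.conj_mul_conj_aux] at this

theorem ex_sw : ∃ s ∈ 𝐂₁ t, Gd Ω s ∧ s • a = b :=
  let ⟨_, n⟩ := h.moves h.fp.l.ne_one
  let ⟨g, m, e⟩ := h.ex_conj h.fp.l n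
  ⟨_, m, h.gd.conj g, e⟩

theorem sw_mem (hs : s ∈ 𝐂₁ t) (e : s • a = b) (e' : s • b = a) (hσ : σ ∈ 𝐂₁ t) (k : σ • a = b) (k' : σ • b = a) :
    σ = s ∨ σ = s * t ∨ σ = s * w ∨ σ = s * (t * w) := by
  simpa only [inv_mul_eq_iff_eq_mul, mul_one] using h.mem (mul_mem (inv_mem hs) hσ)
    (by rw [mul_smul, k, inv_smul_eq_iff, e]) (by rw [mul_smul, k', inv_smul_eq_iff, e'])

theorem conj_w (hg : g ∈ 𝐂₁ t) (n : g ∈ 𝐍 (V4 t w)) : g * w * g⁻¹ = w ∨ g * w * g⁻¹ = t * w := by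
  rcases h.fp.mem.1 (conj_mem_of_norm n (right_mem_V4 t w)) with e | e | e | e
  · exact absurd e (h.fp.r.conj g).ne_one
  · exact absurd (by simpa using e.trans (conj_t hg).symm) h.fp.ne.symm
  exacts [.inl e, .inr e]

theorem sw_norm (hs : s ∈ 𝐂₁ t) (e : s • a = b) (e' : s • b = a) : s ∈ 𝐍 (V4 t w) := mem_norm_of_cj_le (by
  rw [cj_V4, conj_t hs, V4_le]
  exact ⟨left_mem_V4 _ _, h.cK.le (mem_inf.2 ⟨mul_mem (mul_mem hs h.w_tp.1) (inv_mem hs), h.sw_K e e' h.mw⟩)⟩)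

theorem cls_card (σ : G) : (Ab2.cls (stab2 G a b) σ).ncard * ♯(𝐂₁ σ ⊓ stab2 G a b : Subgroup G) = 4 * i := by
  rw [Ab2.ncard_cls, mul_comm, card_inf_mul_relIndex, h.card h.ne]

/-- for `A₅`, an element of order three is inverted -/
theorem inv5 (q5 : q = 5) : stab2 G a b ⊓ 𝐂₁ c = zpowers c ∧ ∃ u ∈ stab2 G a b, Iv u ∧ u * c * u⁻¹ = c⁻¹ := by
  subst q5
  have c1 : c ≠ 1 := fun e => h.c_not (e ▸ one_mem _)
  obtain ⟨Θ, k, hc⟩ := (h.isL a b h.ne).tq h.odd h.mc c1 (by rw [h.ordc]; decide)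
  have d := card_dvd (zpowers_le.2 hc)
  rw [Nat.card_zpowers, h.ordc] at d
  have c3 : ♯Θ = 3 := by have := k.card; omega
  have e : zpowers c = Θ := eq_of_le_of_card_ge (zpowers_le.2 hc) (by rw [c3, Nat.card_zpowers, h.ordc])
  refine ⟨e ▸ k.cen hc fun e => c1 (by simpa [e] using h.c3), ?_⟩
  obtain ⟨u, hu, n⟩ : ∃ u ∈ stab2 G a b ⊓ 𝐍 Θ, u ∉ Θ := by
    by_contra! l
    have := card_le_of_le (show stab2 G a b ⊓ 𝐍 Θ ≤ Θ from l)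
    rw [k.nrm, c3] at this
    omega
  obtain ⟨e1, e2⟩ := (k.out c hc c1 u hu.1 (conj_mem_of_norm hu.2 hc)).resolve_left n
  exact ⟨u, hu.1, .mk' (fun e => n (e ▸ one_mem _)) e1, e2 c hc⟩

theorem mem_c (hg : g ∈ zpowers c) : g = 1 ∨ g = c ∨ g = c⁻¹ := by
  classical
  obtain ⟨k, hk, rfl⟩ := (mem_zpowers_iff_mem_range_orderOf.trans Finset.mem_image).1 hg
  rw [h.ordc, Finset.mem_range] at hk
  interval_cases k
  · simp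
  · simp
  · exact .inr (.inr (eq_inv_of_mul_eq_one_left (by rw [pow_two, h.c3])))

end D

end CF.Kf
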