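import Cfsg.Agent.Perm.Kf3

/-! Doubly transitive groups with two-point stabilizer `A₄` or `A₅`: the case where no element interchanging
the two points centralizes the four-group. -/

set_option autoImplicit false
set_option linter.unusedSectionVars false

namespace CF.Kf

open MulAction Subgroup Cfsg CF.BG CF.GW CF.JR CF.Small CF.Invol
open scoped commutatorElement

variable {G Ω : Type*} [Group G] [Finite G] [MulAction G Ω] [Finite Ω] {q i : ℕ} {a b x y : Ω} {t w c s σ τ g : G}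
  {P S V C : Subgroup G}

theorem mem_of_sq (h : ∀ x ∈ C, x * x ∈ V → x ∈ V) (p : PiGrp {2} P) (l : P ≤ C) : P ≤ V := fun g hg => by
  obtain ⟨k, hk⟩ := p.isPGroup ⟨g, hg⟩
  have : ∀ k, ∀ g ∈ C, g ^ 2 ^ k ∈ V → g ∈ V := fun k => by
    induction k with
    | zero => simp
    | succ k ih => exact fun g hg e => h g hg (ih _ (mul_mem hg hg) (by rwa [← pow_two, ← pow_mul, ← pow_succ']))
  exact this k g (l hg) (by rw [show g ^ 2 ^ k = 1 from congrArg Subtype.val hk]; exact one_mem _)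

theorem qd_three {n : ℕ} {α β : ZMod (2 ^ n) → G} (h : QD S n α β) (ht : t ∈ S) (j : Iv t) (l : S ≤ 𝐂₁ t) :
    ∃ y ∈ S, ∃ z ∈ S, y * y = t ∧ z * z = t ∧ y * z ≠ z * y := by
  have o := h.orderOf_zq h.two_le
  have k : ∀ j, ¬ Commute (α (zq n)) (β j) := fun j e => by
    rcases h.commute_ab'.1 e with e | e
    · rw [e, h.a_eq_one.2 rfl, orderOf_one] at o
      omega
    · rw [e, h.orderOf_zh] at o
      omega
  have e : t = α (zh n) := by
    rcases (h.mem t).1 ht with ⟨j', rfl⟩ | ⟨j', rfl⟩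
    · rw [(h.orderOf_a_eq_two h.one_le).1 j]
    · exact absurd (mem_cent1.1 (l (h.a_mem _))) (k j')
  have k' : ∀ {y : G} {j}, orderOf y = 4 → y * y = α j → y * y = t := fun {y j} o e' => by
    have : orderOf (y * y) = 2 := by rw [← pow_two, orderOf_pow, o]; decide
    rw [e'] at this ⊢
    rw [(h.orderOf_a_eq_two h.one_le).1 this, e]
  exact ⟨_, h.a_mem _, _, h.b_mem 1, k' o (h.aa _ _), k' h.orderOf_b_one (h.bb _ _), k 1⟩

theorem conj_K (e : σ • a = b) (hg : g ∈ stab2 G a b) : (g * σ * g⁻¹) • a = b := by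
  have := conj_fix e g
  rwa [hg.1, hg.2] at this

namespace D

variable (h : D q i a b t w c)
include h

theorem sylK : Syl 2 (V4 t w) (stab2 G a b) := syl_mk Nat.prime_two h.vK h.fp.pi fun d => by
  have := card_mul_relIndex h.vK
  rw [h.fp.card, h.card h.ne] at this
  have := Nat.odd_iff.1 h.oi
  omega

theorem sw_N (e : σ • a = b) (e' : σ • b = a) : σ ∈ 𝐍 (stab2 G a b) :=
  mem_norm_of_cj_le fun _ k => by
    obtain ⟨y, hy, rfl⟩ := mem_cj_iff.1 k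
    exact h.sw_K e e' hy

theorem sw_c (q5 : q = 5) (e : σ • a = b) (e' : σ • b = a) : ∃ σ ∈ 𝐂₁ c, Iv σ ∧ σ • a = b := by
  obtain ⟨k, u, hu, -, uc⟩ := h.inv5 q5
  have c3 : ♯(zpowers c) = 3 := by rw [Nat.card_zpowers, h.ordc]
  have y : Syl 3 (zpowers c) (stab2 G a b) := syl_mk Nat.prime_three (zpowers_le.2 h.mc)
    (piGrp_of_card_prime Nat.prime_three c3) fun d => by
      have := card_mul_relIndex (zpowers_le.2 h.mc)
      rw [c3, h.card h.ne] at this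
      rcases h.qi with l | l <;> omega
  obtain ⟨g, hg, e1⟩ := (y.cj_of_norm (h.sw_N e e')).syl_conj y
  obtain ⟨ρ, m, r, r'⟩ : ∃ ρ ∈ 𝐂₁ c, ρ • a = b ∧ ρ • b = a := by
    have r : (g * σ) • a = b := by rw [mul_smul, e]; exact hg.2
    have r' : (g * σ) • b = a := by rw [mul_smul, e']; exact hg.1
    rcases h.mem_c (g := g * σ * c * (g * σ)⁻¹) (by
      rw [← EqF.conj_mul_conj_aux]
      exact e1.ge (mem_cj_iff.2 ⟨_, mem_cj_iff.2 ⟨c, mem_zpowers c, rfl⟩, rfl⟩)) with e | e | e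
    · exact absurd (conj_eq_one_iff.1 e ▸ one_mem _) h.c_not
    · exact ⟨_, mem_cent1.2 (mul_inv_eq_iff_eq_mul.1 e), r, r'⟩
    · refine ⟨u * (g * σ), mem_cent1.2 (mul_inv_eq_iff_eq_mul.1 ?_), by rw [mul_smul, r]; exact hu.2,
        by rw [mul_smul, r']; exact hu.1⟩
      rw [← EqF.conj_mul_conj_aux, e, ← conj_inv, uc, inv_inv]
  have : (ρ * ρ) ^ 3 = 1 := by
    rw [← c3]
    exact congrArg Subtype.val (pow_card_eq_one' (x := (⟨ρ * ρ, k.le ⟨⟨show _ • a = a by rw [mul_smul, r, r'],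
      show _ • b = b by rw [mul_smul, r', r]⟩, mul_mem m m⟩⟩ : zpowers c)))
  have r3 : (ρ * ρ * ρ) • a = b := by rw [mul_smul, mul_smul, r, r', r]
  exact ⟨ρ * ρ * ρ, mul_mem (mul_mem m m) m, .mk' (fun e => h.ne (by simpa [e] using r3)) (by
    rw [← this, pow_three']; simp only [mul_assoc]), r3⟩

end D

/-- the first case -/
structure C1 (q i : ℕ) (a b : Ω) (t w c s : G) : Prop extends D q i a b t w c where
  st : s ∈ 𝐂₁ t
  si : Iv s
  sa : s • a = b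
  sw : s * w * s⁻¹ = t * w

namespace C1

variable (h : C1 q i a b t w c s)
include h

theorem sb : s • b = a := sw_of h.si h.sa

theorem sq1 : s * w * (s * w) = t := by
  rw [show s * w * (s * w) = s * w * s⁻¹ * (s * s) * w by group, h.sw, h.si.sq, mul_one, mul_assoc, h.fp.r.sq, mul_one]

theorem sq2 : s * (t * w) * (s * (t * w)) = t := by
  rw [show s * (t * w) * (s * (t * w)) = s * t * s⁻¹ * (s * w * s⁻¹) * (s * s) * (t * w) by group, h.sw, h.si.sq,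
    conj_t h.st, mul_one, mul_assoc, h.fp.iv.sq, mul_one]

theorem wsw : w * s * w⁻¹ = s * t := by
  rw [h.fp.r.inv_eq, ← h.sq1, ← mul_assoc, ← mul_assoc s, h.si.sq, one_mul, mul_assoc]

theorem w_not : w ∉ 𝐂₁ s := fun e => h.fp.l.ne_one (by simpa [conj_t e] using h.wsw)

theorem iv_c (hσ : σ ∈ 𝐂₁ t) (j : Iv σ) (e : σ • a = b) : σ = s ∨ σ = s * t := by
  rcases h.sw_mem h.st h.sa h.sb hσ e (sw_of j e) with k | k | rfl | rfl
  exacts [.inl k, .inr k, absurd (h.sq1.symm.trans j.sq) h.fp.l.ne_one, absurd (h.sq2.symm.trans j.sq) h.fp.l.ne_one]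

theorem iv_c' (hσ : σ ∈ 𝐂₁ t) (j : Iv σ) (e : σ • a = b) : ∃ k ∈ stab2 G a b, k * s * k⁻¹ = σ := by
  rcases h.iv_c hσ j e with rfl | rfl
  exacts [⟨1, one_mem _, by simp⟩, ⟨w, h.mw, h.wsw⟩]

theorem iv_sw (j : Iv σ) (e : σ • a = b) : ∃ k ∈ stab2 G a b, k * s * k⁻¹ = σ := by
  obtain ⟨g, hg, m⟩ := h.sw_cent j e
  obtain ⟨k, hk, e'⟩ := h.iv_c' m (j.conj g) (conj_K e hg)
  exact ⟨g⁻¹ * k, mul_mem (inv_mem hg) hk, by rw [← EqF.conj_mul_conj_aux, e']; group⟩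

theorem conj_s (j : Iv σ) : ∃ g, g * s * g⁻¹ = σ := by
  obtain ⟨x, n⟩ := h.moves j.ne_one
  obtain ⟨g, m, e⟩ := h.ex_conj j n
  obtain ⟨k, -, e'⟩ := h.iv_c' m (j.conj g) e
  exact ⟨g⁻¹ * k, by rw [← EqF.conj_mul_conj_aux, e']; group⟩

theorem all (j : Iv σ) : Gd Ω σ := by
  obtain ⟨g, e⟩ := h.conj_s h.fp.l
  obtain ⟨k, rfl⟩ := h.conj_s j
  exact (gd_conj.1 (e ▸ h.gd)).conj k

theorem beta : {σ ∈ {σ : G | Gd Ω σ} | σ • a = b}.ncard * ♯(𝐂₁ s ⊓ stab2 G a b : Subgroup G) = 4 * i := by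
  rw [← h.cls_card s]
  congr 2
  exact Set.ext fun σ => ⟨fun k => h.iv_sw k.1.1 k.2, fun ⟨g, hg, e⟩ => e ▸ ⟨h.all (h.si.conj g), conj_K h.sa hg⟩⟩

theorem tX : t ∈ 𝐂₁ s ⊓ stab2 G a b := ⟨mem_cent1_comm.1 h.st, h.mt⟩

theorem two_dvd : 2 ∣ ♯(𝐂₁ s ⊓ stab2 G a b : Subgroup G) := h.fp.l ▸ orderOf_dvd_card' h.tX

theorem not_four : ¬ 4 ∣ ♯(𝐂₁ s ⊓ stab2 G a b : Subgroup G) := fun d => by
  obtain ⟨P, hP, l⟩ := exists_syl_le (zpowers_le.2 h.tX) h.fp.l.piGrp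
  obtain ⟨g, -, e⟩ := h.sylK.syl_le_cj (hP.le.trans inf_le_right) hP.pi
  have l' : P ≤ V4 t w := h.cK ▸ le_inf (fun x hx => mem_cent1.2 (((abel_cj.2 h.fp.abel).mono e).mul_comm hx
    (l (mem_zpowers t)))) (hP.le.trans inf_le_right)
  have := eq_of_card_le l' (h.fp.card ▸ Nat.le_of_dvd (card_pos' P)
    (hP.dvd_card (n := 2 ^ 2) d (piNat_pow_self Nat.prime_two 2)))
  exact h.w_not (hP.le (this ▸ right_mem_V4 t w)).1

theorem beta3 (q3 : q = 3) : {σ ∈ {σ : G | Gd Ω σ} | σ • a = b}.ncard = 6 := by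
  obtain rfl : i = 3 := by rcases h.qi with l | l <;> omega
  have e := h.beta
  have d2 := h.two_dvd
  have d4 := h.not_four
  have d6 : ♯(𝐂₁ s ⊓ stab2 G a b : Subgroup G) ≠ 6 := fun e6 => by
    have := card_inf_mul_relIndex (𝐂₁ s) (stab2 G a b)
    rw [e6, h.card h.ne] at this
    have m : c * c ∈ 𝐂₁ s := mul_self_mem_of_index_two (H := (𝐂₁ s).subgroupOf (stab2 G a b))
      (show relIndex _ _ = 2 by omega) ⟨c, h.mc⟩
    have m := mem_of_sq_mem (by rw [h.ordc]; decide) m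
    exact h.w_not (h.cy.l ▸ mul_mem (mul_mem m h.tX.1) (inv_mem m))
  generalize ♯(𝐂₁ s ⊓ stab2 G a b : Subgroup G) = X at *
  have := Nat.le_of_dvd (by decide) (Dvd.intro_left _ e)
  interval_cases X <;> omega

theorem beta5 (q5 : q = 5) : {σ ∈ {σ : G | Gd Ω σ} | σ • a = b}.ncard = 10 ∨
    {σ ∈ {σ : G | Gd Ω σ} | σ • a = b}.ncard = 2 := by
  obtain rfl : i = 15 := by rcases h.qi with l | l <;> omega
  have e := h.beta
  have d2 := h.two_dvd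
  have d4 := h.not_four
  have d3 : 3 ∣ ♯(𝐂₁ s ⊓ stab2 G a b : Subgroup G) := by
    obtain ⟨σ, m, j, e⟩ := h.sw_c q5 h.sa h.sb
    obtain ⟨k, hk, rfl⟩ := h.iv_sw j e
    rw [← h.ordc, ← BG.orderOf_conj' k⁻¹]
    refine orderOf_dvd_card' (mem_inf.2 ⟨mem_cent1.2 ?_, mul_mem (mul_mem (inv_mem hk) h.mc) (inv_mem (inv_mem hk))⟩)
    calc _ = k⁻¹ * (c * (k * s * k⁻¹)) * k := by group
      _ = _ := by rw [← mem_cent1.1 m]; group
  obtain ⟨X, hX⟩ : 6 ∣ ♯(𝐂₁ s ⊓ stab2 G a b : Subgroup G) := by omega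
  rw [hX] at e d4
  have : X ≤ 10 := by have := Nat.le_of_dvd (by decide) (Dvd.intro_left _ e); omega
  interval_cases X <;> omega

theorem cases : (fixedBy Ω t).ncard = (F2 Ω t w).ncard ∨ (fixedBy Ω t).ncard = (F2 Ω t w).ncard ^ 2 := by
  obtain ⟨k, F, e1, -, e2, e3, -⟩ := h.cnt2
  have := Set.ncard_le_ncard (show {τ ∈ Tp Ω t | τ • a = b} ⊆ {s, s * t} from fun τ k => h.iv_c k.1.1 k.1.2.1 k.2)
  have := Set.ncard_insert_le s {s * t}
  rw [Set.ncard_singleton] at this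
  rw [e1, e2]
  obtain rfl | rfl : k = 0 ∨ k = 1 := by omega
  · exact .inl (by ring)
  · exact .inr (by ring)

theorem cV (p : PiGrp {2} P) (l : P ≤ 𝐂 (V4 t w)) : P ≤ V4 t w := mem_of_sq (fun x hx e => by_contra fun n => by
  have m : x ∈ 𝐂₁ t ⊓ 𝐍 (V4 t w) := ⟨cent_le_cent1 (left_mem_V4 t w) hx, cent_le_norm _ hx⟩
  obtain ⟨u, hu, k⟩ : ∃ u ∈ F2 Ω t w, x • u ≠ u := by
    by_contra! k
    exact n (h.shV m.1 h.aF h.bF h.ne (k a h.aF) (k b h.bF))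
  obtain ⟨g, hg, e1, e2⟩ := h.ttV.tr u hu _ (h.ttV.inv x m u hu) a h.aF b h.bF k.symm h.ne
  have m' : g * x * g⁻¹ ∈ 𝐂 (V4 t w) := conj_mem_of_norm (norm_le_norm_cent _ hg.2) hx
  have k : ∀ v ∈ V4 t w, s * v ∉ 𝐂 (V4 t w) := fun v hv e => h.w_not (mem_cent1_comm.1
    (cent_le_cent1 (right_mem_V4 t w) ((mul_mem_cancel_right (h.fp.abel hv)).1 e)))
  rcases h.sw_mem h.st h.sa h.sb (cent_le_cent1 (left_mem_V4 t w) m') (e1 ▸ e2 ▸ conj_fix rfl g)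
    (e1 ▸ e2 ▸ conj_fix (by rw [← mul_smul, V4_fix e hu]) g) with r | r | r | r <;> rw [r] at m'
  exacts [k 1 (one_mem _) (by rwa [mul_one]), k t (left_mem_V4 _ _) m', k w (right_mem_V4 _ _) m',
    k _ (mul_mem (left_mem_V4 _ _) (right_mem_V4 _ _)) m']) p l

theorem f_two (e : Even (F2 Ω t w).ncard) : (F2 Ω t w).ncard = 2 := by
  obtain ⟨p, j, hp, hj, e1⟩ := h.sharp.1
  obtain rfl : p = 2 := (hp.even_iff.1 (Nat.even_pow.1 (e1 ▸ e)).1)
  obtain ⟨P, hP⟩ := exists_syl 2 (𝐂₁ t ⊓ 𝐍 (V4 t w))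
  have d := Nat.le_of_dvd (card_pos' P) (hP.dvd_card (n := 2 ^ (j + 2)) (by
    rw [h.cardR.1, h.cardR.2, e1, pow_add]; exact Nat.mul_dvd_mul_left _ (dvd_mul_left _ _))
    (piNat_pow_self Nat.prime_two _))
  have c1 := card_inf_mul_relIndex (𝐂₁ w) P
  have c2 := card_le (h.cV (P := 𝐂₁ w ⊓ P) hP.pi.inf_right
    (cent_V4 t w ▸ le_inf (inf_le_right.trans (hP.le.trans inf_le_left)) inf_le_left))
  have c3 := Set.ncard_le_ncard (show Ab2.cls P w ⊆ {w, t * w} by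
    rintro _ ⟨g, hg, rfl⟩; exact h.conj_w (hP.le hg).1 (hP.le hg).2)
  rw [Set.ncard_pair h.fp.mul'.ne, Ab2.ncard_cls] at c3
  rw [h.fp.card] at c2
  have : 2 ^ (j + 2) ≤ 2 ^ 3 := d.trans (c1 ▸ Nat.mul_le_mul c2 c3)
  have := (Nat.pow_le_pow_iff_right (by decide)).1 this
  rw [e1, show j = 1 by omega, pow_one]

variable (o : Odd (fixedBy Ω t).ncard)
include o

theorem dg : DG (⊤ : Subgroup G) := by
  obtain ⟨S, hS, l⟩ := exists_syl_le (M := 𝐂₁ t ⊓ stabilizer G a) (le_inf h.fp.V4_le (h.vK.trans inf_le_left)) h.fp.pi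
  have s1 : Syl 2 S (𝐂₁ t) := hS.trans_idx inf_le_left ((piNat_compl_single Nat.prime_two).2 fun d => by
    have := card_mul_relIndex (inf_le_left : 𝐂₁ t ⊓ stabilizer G a ≤ 𝐂₁ t)
    rw [h.cardC.1, mul_comm] at this
    exact o.not_two_dvd_nat (Nat.eq_of_mul_eq_mul_right (card_pos' _) this ▸ d))
  have s2 : Syl 2 S ⊤ := by
    obtain ⟨T, hT, l'⟩ := exists_syl_le (M := ⊤) le_top hS.pi
    obtain ⟨z, hz, j⟩ := exists_iv_of_two (hT.pi.inf_left (K := 𝐂 T)) (hT.pi.center_ne_bot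
      (ne_bot_of_mem (l' (l (left_mem_V4 t w))) h.fp.l.ne_one))
    obtain ⟨g, rfl⟩ := h.gd_conj (h.all j)
    refine hT.of_card_le le_top hS.pi (card_cj g⁻¹ T ▸ s1.card_le ?_ (hT.pi.cj _))
    rw [← le_cj_iff, cj_cent1]
    exact le_cent1_iff.2 hz.2
  have e : S ⊓ 𝐂₁ w = V4 t w := le_antisymm (h.cV hS.pi.inf_left (cent_V4 t w ▸ inf_le_inf_right _ s1.le))
    (le_inf l (le_cent1_iff.2 (h.fp.abel (right_mem_V4 t w))))
  refine dg_of_syl s2 ?_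
  rcases two_subgroup_cases_of_card_centralizer hS.pi.isPGroup (l (right_mem_V4 t w)) h.fp.r (e ▸ h.fp.card) with
    ⟨n, α, β, -, k⟩ | ⟨n, α, β, k⟩ | k
  · exact dc_of_dh k
  · obtain ⟨y, hy, z, hz, yy, zz, n⟩ := qd_three k (l (left_mem_V4 t w)) h.fp.l s1.le
    have ct : ∀ {y : G}, y * y = t → y ∈ 𝐂₁ t := fun e => e ▸ mem_cent1.2 (mul_assoc _ _ _).symm
    have e := h.tt.dc1 h.mt.1 h.mt.2 h.ne o (T := {y | y * y = t}) (fun y => ct)
      (fun g hg σ k => by rw [Set.mem_setOf, conj_mul, k, conj_t hg]) (fun σ k x hx => by rw [← mul_smul, k, hx])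
      fun σ k x _ y _ e e' => by_contra fun n => by
        obtain ⟨u, v, ρ, d⟩ := h.ex0 n
        exact h.fp.l.ne_one (k.symm.trans (d.sq4 ⟨e, e'⟩ (by rw [k, h.fp.l.sq])))
    have l1 := Set.ncard_le_ncard (show {σ ∈ {y | y * y = t} | σ • a = b} ⊆ {s * w, s * (t * w)} from fun σ k => by
      rcases h.sw_mem h.st h.sa h.sb (ct k.1) k.2 (by rw [← k.2, ← mul_smul, k.1]; exact h.mt.1) with r | r | r | r
      · exact absurd (k.1.symm.trans (r ▸ h.si.sq)) h.fp.l.ne_one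
      · exact absurd (k.1.symm.trans (r ▸ h.wsw ▸ (h.si.conj w).sq)) h.fp.l.ne_one
      exacts [.inl r, .inr r])
    have l2 := Set.ncard_insert_le (s * w) {s * (t * w)}
    have l3 := Set.ncard_le_ncard (show {y, y⁻¹, z} ⊆ {σ ∈ {y | y * y = t} | σ • a = a} by
      rintro _ (rfl | rfl | rfl)
      exacts [⟨yy, (hS.le hy).2⟩, ⟨by rw [Set.mem_setOf, ← mul_inv_rev, yy, h.fp.l.inv_eq], (hS.le (inv_mem hy)).2⟩,
        ⟨zz, (hS.le hz).2⟩])
    rw [Set.ncard_eq_three.2 ⟨_, _, _, fun e => h.fp.l.ne_one (by rw [← yy]; nth_rewrite 1 [e]; simp),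
      fun e => n (by rw [e]), fun e => n (by rw [← e]; simp), rfl⟩] at l3
    rw [Set.ncard_singleton] at l2
    omega
  · exact eq_of_card_eq l (h.fp.card.trans k.symm) ▸ dc_V4 h.fp

theorem a7 (h0 : oddCore G = ⊥) : Nonempty (G ≃* alternatingGroup (Fin 7)) := by
  rcases (h.dg o).cases' ((pPrimeCore_eq Nat.prime_two).symm.trans h0) with
    k | ⟨-, ⟨e⟩⟩ | ⟨L, r, n, -, d, -, -, o', hL⟩
  · exact absurd (k 3 Nat.prime_three (h.ordc ▸ orderOf_dvd_card' (mem_top c))) (by decide)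
  · exact ⟨topEquiv.symm.trans e⟩
  have hL : IsL r L := hL
  have tL : t ∈ L := by
    have : t * w ∈ L := d (by
      rw [h.fp.comm, ← h.cy.l, ← h.fp.l.inv_eq, h.fp.l.inv_eq, mul_assoc _ c⁻¹, ← mul_assoc]
      nth_rewrite 2 [← h.fp.l.inv_eq]
      exact commutator_mem_commutator trivial trivial)
    exact h.ctw ▸ n.conj_mem trivial this
  have k : ∀ σ, Iv σ → σ ∈ L := fun σ j => let ⟨g, e⟩ := h.gd_conj (h.all j); e ▸ n.conj_mem trivial tL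
  obtain ⟨Θ, hΘ, m⟩ := hL.tq o' tL h.fp.l.ne_one (by rw [h.fp.l]; exact Nat.coprime_two_left.2 o')
  have k' : ∀ y ∈ L, y * y = t → y ∈ Θ := fun y hy e => (hΘ.out t m h.fp.l.ne_one y hy (by
    rwa [conj_t (e ▸ mem_cent1.2 (mul_assoc _ _ _).symm)])).resolve_right fun k => h.fp.l.ne_one (e.symm.trans k.1)
  have yL : s * w ∈ L := mul_mem (k s h.si) (k w h.fp.r)
  have yC : s * w ∈ 𝐂₁ t := mul_mem h.st h.w_tp.1
  have ya : (s * w) • a = b := by rw [mul_smul, h.mw.1.out, h.sa]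
  obtain ⟨x, hx, e⟩ := ex_fix (Set.toFinite _) ((s * w) • ·) (h.tt.inv _ yC) (fun x hx => by
    rw [← mul_smul, h.sq1]; exact hx) o
  have xa : x ≠ a := fun r => h.ne (by rw [← ya, ← r, e])
  obtain ⟨g, hg, e1, e2⟩ := h.tt.tr a h.mt.1 b h.mt.2 x hx a h.mt.1 h.ne xa
  have y1 := k' _ yL h.sq1
  have y2 := k' _ (n.conj_mem (mem_top g) yL) (by rw [conj_mul, h.sq1, conj_t hg])
  have := hΘ.cyc.eq_of_card (zpowers_le.2 y2) (zpowers_le.2 y1) (by
    rw [Nat.card_zpowers, Nat.card_zpowers, BG.orderOf_conj'])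
  have : g * (s * w) * g⁻¹ ∈ stabilizer G x := (zpowers_le.2 e : zpowers (s * w) ≤ _) (this ▸ mem_zpowers _)
  exact absurd (this.symm.trans (e1 ▸ e2 ▸ conj_fix ya g)) xa

end C1

end CF.Kf
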