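import Cfsg.Agent.Perm.Kf4
import Cfsg.Agent.Small.O7920

/-! Doubly transitive groups with two-point stabilizer `A₄` or `A₅`: the end of the first case. -/

set_option autoImplicit false
set_option linter.unusedSectionVars false

namespace CF.Kf

open MulAction Subgroup Cfsg CF.BG CF.GW CF.JR CF.Small

variable {G Ω : Type*} [Group G] [Finite G] [MulAction G Ω] [Finite Ω] {q i : ℕ} {a b x y : Ω} {t w c s σ τ g : G}
  {N : Subgroup G}

namespace Hy

variable (h : Hy G Ω q i)
include h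

theorem fs : FaithfulSMul G Ω := ⟨fun {g k} e => inv_mul_eq_one.1 (h.faith _ fun x => by
  rw [mul_smul, ← e, inv_smul_smul])⟩

theorem h2 : IsMultiplyPretransitive G Ω 2 := Perm.twoTrans_iff.2 h.tr

theorem ntr (n : N.Normal) (n1 : N ≠ ⊥) : IsPretransitive N Ω :=
  haveI := h.fs
  Perm.normal_isPretransitive_of_ne_bot (isPreprimitive_of_is_two_pretransitive h.h2) N n1

theorem ndvd (n : N.Normal) (n1 : N ≠ ⊥) (a : Ω) : Nat.card Ω ∣ ♯N :=
  haveI := h.ntr n n1
  Dvd.intro _ (Perm.card_mul_card_stabilizer (G := N) a)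

theorem reg (r : EqF.Reg G Ω) (n : x ≠ y) : ∃ p j : ℕ, p.Prime ∧ Nat.card Ω = p ^ j := by
  obtain ⟨N, nN, tr, r⟩ := r
  have n1 : N ≠ ⊥ := by
    rintro rfl
    obtain ⟨g, hg, e⟩ := tr x y
    exact n (by rw [← e, mem_bot.1 hg, one_smul])
  have r := (Perm.stabilizer_subgroup_eq_bot_iff N x).2 (r x)
  obtain ⟨p, hp, e, -⟩ := Perm.elementaryAbelian_of_regular_normal h.h2 N n1 x r
  haveI := h.ntr nN n1
  obtain ⟨j, hj⟩ := (piGrp_of_forall_elt fun g hg => piElt_of_pow_eq_one hp (e g hg)).card_pow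
  exact ⟨p, j, hp, (Perm.card_eq_of_regular N x r).symm.trans hj⟩

theorem a6 (n : Nat.card Ω = 6) (e : Nat.card G = 360) : Nonempty (G ≃* alternatingGroup (Fin 6)) := by
  haveI := h.fs
  obtain ⟨φ⟩ : Nonempty (Ω ≃ Fin 6) := ⟨Finite.equivFinOfCardEq n⟩
  let f : G →* Equiv.Perm (Fin 6) := φ.permCongrHom.toMonoidHom.comp (toPermHom G Ω)
  have j : Function.Injective f := φ.permCongrHom.injective.comp toPerm_injective
  have k := f.range.index_mul_card
  rw [← Nat.card_congr (MonoidHom.ofInjective j).toEquiv, e, Nat.card_perm, Nat.card_fin] at k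
  exact ⟨(MonoidHom.ofInjective j).trans (MulEquiv.subgroupCongr
    (Equiv.Perm.eq_alternatingGroup_of_index_eq_two (by norm_num [Nat.factorial] at k; omega)))⟩

end Hy

theorem card_a7 (e : Nonempty (G ≃* alternatingGroup (Fin 7))) : Nat.card G = 2520 := by
  obtain ⟨e⟩ := e
  rw [Nat.card_congr e.toEquiv, Nat.card_eq_fintype_card, card_alternatingGroup]; decide

theorem D.simple (h : D q i a b t w c) (q5 : q = 5) (n : Nat.card Ω = 12) (r : ¬ EqF.Reg G Ω) : IsSimpleGroup G := by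
  haveI : Nontrivial G := ⟨_, _, h.fp.l.ne_one⟩
  haveI : Nontrivial Ω := ⟨_, _, h.ne⟩
  obtain rfl : i = 15 := by rcases h.qi with l | l <;> omega
  refine ⟨fun N nN => or_iff_not_imp_left.2 fun n1 => eq_top_iff.2 fun g _ => ?_⟩
  haveI := h.ntr nN n1
  have k : stab2 G a b ≤ N := by
    refine inf_eq_right.1 ((((h.isL a b h.ne).ns h.odd (by omega)).eq_or _
      (normalIn_inf_right (le_top.trans (normalIn_top.2 nN).norm))).resolve_left fun e => r ?_)
    obtain ⟨K, nK, -, tr, k, -⟩ := Perm.exists_regular_normal_kernel h.h2 N fun g hg x y n e1 e2 => by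
      obtain ⟨k, rfl, rfl⟩ := h.tr x y a b n h.ne
      exact conj_eq_one_iff.1 (eq_one_of_mem_bot e ⟨nN.conj_mem g hg k, conj_stab ⟨e1, e2⟩ k⟩)
    exact .of nK tr k
  have k' : stabilizer G a ≤ N := by
    have l : stab2 G a b ≤ N ⊓ stabilizer G a := le_inf k inf_le_left
    have d := card_dvd (inf_le_right : N ⊓ stabilizer G a ≤ _)
    obtain ⟨u, hu⟩ := card_dvd l
    have c := h.cardG.2
    rw [n] at c
    rw [h.card h.ne] at hu
    rw [hu, c, mul_comm, Nat.mul_dvd_mul_iff_right (by decide)] at d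
    rcases (Nat.dvd_prime (p := 11) (by decide)).1 d with rfl | rfl
    · refine absurd (h.faith t fun x => ?_) h.fp.l.ne_one
      by_cases e : x = a
      · exact e ▸ h.mt.1
      obtain ⟨g, e1, e2⟩ := h.tr a x a b (Ne.symm e) h.ne
      have := (eq_of_card_eq l (by rw [hu, h.card h.ne])).ge ⟨nN.conj_mem t (k h.mt) g, show _ • a = a by
        simpa only [e1] using conj_fix (show t • a = a from h.mt.1) g⟩
      refine smul_left_cancel g ?_
      rw [e2, ← this.2.out, ← e2]
      exact (conj_fix rfl g).symm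
    · exact inf_eq_right.1 (eq_of_card_eq inf_le_right (by rw [hu, c]))
  obtain ⟨u, e⟩ := exists_smul_eq N a (g • a)
  simpa using mul_mem u.2 (k' (show (u : G)⁻¹ * g ∈ stabilizer G a by
    rw [mem_stabilizer_iff, mul_smul, inv_smul_eq_iff]; exact e.symm))

namespace C1

variable (h : C1 q i a b t w c s)
include h

theorem n28 (i3 : i = 3) (m : (fixedBy Ω t).ncard = 4) : Nat.card Ω ≠ 28 := fun n => by
  haveI := Fact.mk Nat.prime_three
  haveI : Fact (Nat.Prime 7) := ⟨by decide⟩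
  subst i3
  obtain ⟨c1, c2⟩ := h.cardG
  obtain ⟨c3, c4⟩ := h.cardC
  rw [n] at c2
  rw [n, c2] at c1
  rw [c4, m] at c3
  obtain ⟨p, -, o⟩ := exists_mem_orderOf_eq (H := (⊤ : Subgroup G)) (p := 7) (by decide) (by rw [card_top', c1]; decide)
  have c7 : ♯(zpowers p) = 7 := by rw [Nat.card_zpowers, o]
  have y : Syl 7 (zpowers p) ⊤ := syl_mk (by decide) le_top (piGrp_of_card_prime (by decide) c7) fun d => by
    have := card_mul_relIndex (le_top (a := zpowers p))
    rw [c7, card_top', c1] at this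
    omega
  have d2 : Odd (♯(𝐂 (zpowers p))) := by_contra fun e => by
    obtain ⟨σ, hσ, j⟩ := exists_iv e
    obtain ⟨g, rfl⟩ := h.gd_conj (h.all j)
    have := orderOf_dvd_card' (zp_le_cent.1 (zpowers_le.2 (cent_symm (zpowers_le.2 hσ) (mem_zpowers p)))
      (mem_zpowers _) |> mem_cent1_comm.1)
    rw [o, ← cj_cent1, card_cj, c3] at this
    omega
  have d3 : ¬ 9 ∣ ♯(𝐂 (zpowers p)) := fun d => by
    obtain ⟨Q, hQ⟩ := exists_syl 3 (𝐂 (zpowers p))
    obtain ⟨x, hx⟩ := hQ.pi.isPGroup.nonempty_fixed_point_of_prime_not_dvd_card Ω (by rw [n]; decide)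
    have n' : x ≠ p • x := fun e => by
      obtain ⟨g, -, rfl⟩ := h.toHy.tt.one (Set.mem_univ a) (Set.mem_univ b) h.ne (Set.mem_univ x)
      have := orderOf_dvd_card' (show p ∈ stabilizer G (g • a) from e.symm)
      rw [o, (h.conj g).cardG.2, n] at this
      omega
    have := (hQ.dvd_card (n := 3 ^ 2) d (piNat_pow_self Nat.prime_three 2)).trans (card_dvd
      (show Q ≤ stab2 G x (p • x) from fun g hg => ⟨hx ⟨g, hg⟩, show g • p • x = p • x by
        rw [← mul_smul, ← hQ.le hg p (mem_zpowers p), mul_smul]; exact congrArg _ (hx ⟨g, hg⟩)⟩))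
    rw [h.card n'] at this
    omega
  have d6 := relIndex_cent_dvd_pred (X := zpowers p) (by rw [c7]; decide) le_rfl
  have e1 := card_mul_relIndex (cent_le_norm (zpowers p))
  have e2 := (𝐍 (zpowers p)).index_mul_card
  obtain ⟨u, hu⟩ := card_dvd (abel_zpowers p : zpowers p ≤ _)
  obtain ⟨P, hP⟩ := y.exists_sylow_top
  have e3 := card_sylow_modEq_one 7 G
  rw [P.card_eq_index_normalizer, show (P : Set G) = zpowers p from congrArg SetLike.coe hP] at e3
  have e4 : 𝐍 (zpowers p) ≤ 𝐂 (zpowers p) := by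
    refine relIndex_eq_one.1 ?_
    rw [c7] at d6 hu
    rw [← e1, c1, hu] at e2
    rw [hu] at d2 d3
    generalize (𝐂 (zpowers p)).relIndex (𝐍 (zpowers p)) = e at *
    generalize (𝐍 (zpowers p)).index = k at *
    have du : u ∣ 3 := by
      have : u ∣ 2 ^ 4 * 3 ^ 4 := ⟨k * e, by nlinarith⟩
      obtain ⟨j, hj, rfl⟩ := (Nat.dvd_prime_pow Nat.prime_three).1 ((Nat.Coprime.pow_right 4
        (Nat.coprime_two_right.2 (Odd.of_dvd_nat d2 (dvd_mul_left _ _)))).dvd_of_dvd_mul_left this)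
      interval_cases j <;> simp_all
    have := Nat.le_of_dvd (by decide) du
    have := Nat.le_of_dvd (by decide) d6
    rw [Nat.ModEq] at e3
    interval_cases u <;> interval_cases e <;> omega
  have k := (y.burnside (inf_le_right.trans e4)).sdprod y
  have c5 := k.card
  rw [c7, card_top', c1] at c5
  have := h.ndvd (normalIn_top.1 k.normal) (fun e => by rw [e, card_bot] at c5; omega) a
  rw [n, show ♯(𝐎 {7}ᶜ (⊤ : Subgroup G)) = 1296 by omega] at this
  exact absurd this (by decide)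

theorem even (e : Even (fixedBy Ω t).ncard) : (fixedBy Ω t).ncard = 2 ∨ (fixedBy Ω t).ncard = 4 := by
  rcases h.cases with k | k
  · exact .inl (k.trans (h.f_two (k ▸ e)))
  · exact .inr (by rw [k, h.f_two (Nat.even_pow.1 (k ▸ e)).1]; rfl)

theorem main3 (q3 : q = 3) : (Nat.card Ω = 6 ∧ Nonempty (G ≃* alternatingGroup (Fin 6))) ∨
    (Nat.card Ω = 15 ∧ Nonempty (G ≃* alternatingGroup (Fin 7))) := by
  obtain rfl : i = 3 := by rcases h.qi with l | l <;> omega
  obtain ⟨M, N, e1, e2, l, e3⟩ := h.cnt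
  obtain ⟨c1, c2⟩ := h.cardG
  rw [h.beta3 q3] at e3
  rw [c2, e2, Nat.add_sub_cancel] at c1
  rcases Nat.even_or_odd (fixedBy Ω t).ncard with e | o
  · rcases h.even e with k | k
    · obtain rfl : M = 1 := by omega
      obtain rfl : N = 5 := by omega
      exact .inl ⟨e2, h.a6 e2 c1⟩
    · obtain rfl : M = 3 := by omega
      exact absurd (by omega) (h.n28 rfl k)
  haveI := h.fs
  have k := h.a7 o (EqF.oddCore_bot h.h2 fun r => by
    obtain ⟨p, j, hp, e⟩ := h.reg r h.ne
    have e4 : (M + 1) * (2 * M + 1) = p ^ j := by rw [← e, e2]; nlinarith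
    have k : ∀ u, 1 < u → u ∣ p ^ j → p ∣ u := fun u l d => by
      obtain ⟨k, -, rfl⟩ := (Nat.dvd_prime_pow hp).1 d
      exact dvd_pow_self p fun e => by simp [e] at l
    have := (Nat.dvd_add_right (k _ (by omega) (Dvd.intro_left _ e4))).1
      (show p ∣ 2 * M + 1 + 1 from (k _ (by omega) (Dvd.intro _ e4)).trans ⟨2, by ring⟩)
    exact hp.one_lt.ne' (Nat.dvd_one.1 this))
  refine .inr ⟨?_, k⟩
  rw [card_a7 k] at c1
  obtain rfl : N = 14 := by nlinarith
  exact e2

theorem main5 (q5 : q = 5) (r : ¬ EqF.Reg G Ω) : (Nat.card Ω = 7 ∧ Nonempty (G ≃* alternatingGroup (Fin 7))) ∨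
    (Nat.card Ω = 12 ∧ Spor.IsoM11 G) := by
  obtain rfl : i = 15 := by rcases h.qi with l | l <;> omega
  obtain ⟨M, N, e1, e2, l, e3⟩ := h.cnt
  obtain ⟨c1, c2⟩ := h.cardG
  rw [c2, e2, Nat.add_sub_cancel] at c1
  rcases Nat.even_or_odd (fixedBy Ω t).ncard with e | o
  · obtain rfl : N = 11 := by
      rcases h.even e with k | k
      · obtain rfl : M = 1 := by omega
        rcases h.beta5 q5 with k | k <;> omega
      · obtain rfl : M = 3 := by omega
        rcases h.beta5 q5 with k | k <;> omega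
    haveI := h.simple q5 e2 r
    exact .inr ⟨e2, M11_of_card c1⟩
  haveI := h.fs
  have k := h.a7 o (EqF.oddCore_bot h.h2 r)
  refine .inl ⟨?_, k⟩
  rw [card_a7 k] at c1
  obtain rfl : N = 6 := by nlinarith
  exact e2

end C1

end CF.Kf
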