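import Cfsg.Agent.Perm.Kf5

/-! Doubly transitive groups with two-point stabilizer `A₄` or `A₅`: the case where an involution interchanging
the two points centralizes the stabilizer. -/

set_option autoImplicit false
set_option linter.unusedSectionVars false

namespace CF.Kf

open MulAction Subgroup Cfsg CF.BG CF.GW CF.JR CF.Small

variable {G Ω : Type*} [Group G] [Finite G] [MulAction G Ω] [Finite Ω] {q i : ℕ} {a b x y : Ω} {t w c s σ τ g : G}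

/-- the second case -/
structure C2 (q i : ℕ) (a b : Ω) (t w c s : G) : Prop extends D q i a b t w c where
  si : Iv s
  sa : s • a = b
  sK : stab2 G a b ≤ 𝐂₁ s

namespace D

variable (h : D q i a b t w c)
include h

theorem c2 (j : Iv s) (e : s • a = b) (m : s ∈ 𝐂 (V4 t w)) (k : c ∈ 𝐂₁ s) : C2 q i a b t w c s := by
  refine ⟨h, j, e, inf_eq_right.1 ?_⟩
  have l : V4 t w ⊔ zpowers c ≤ 𝐂₁ s ⊓ stab2 G a b :=
    sup_le (le_inf (le_cent1_iff.2 m) h.vK) (zpowers_le.2 ⟨k, h.mc⟩)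
  have d4 : 4 ∣ ♯(V4 t w ⊔ zpowers c : Subgroup G) := h.fp.card ▸ card_dvd le_sup_left
  have d3 : 3 ∣ ♯(V4 t w ⊔ zpowers c : Subgroup G) := h.ordc ▸ orderOf_dvd_card' (mem_sup_right (mem_zpowers c))
  have p := Nat.le_of_dvd (card_pos' _) (show 12 ∣ ♯(V4 t w ⊔ zpowers c : Subgroup G) by omega)
  have d := card_dvd l
  have d' := card_dvd (inf_le_right : 𝐂₁ s ⊓ stab2 G a b ≤ _)
  refine eq_of_card_le inf_le_right ?_
  rw [h.card h.ne] at d' ⊢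
  rcases h.qi with ⟨-, rfl⟩ | ⟨q5, rfl⟩
  · exact p.trans (card_le l)
  obtain ⟨r, u, hu, ju, uc⟩ := h.inv5 q5
  have sc := conj_eq_of_comm (mem_cent1.1 k).symm
  have su : u ∈ 𝐂₁ s := by
    have n : ∀ v, s * u * s⁻¹ = u * v → s * v * s⁻¹ = v → v * v = 1 := fun v e1 e2 => mul_left_cancel (a := u) (by
      calc _ = s * u * s⁻¹ * (s * v * s⁻¹) := by rw [e1, e2, mul_assoc]
        _ = _ := by rw [conj_mul, ← e1, EqF.conj_mul_conj_aux, j.sq]; simp)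
    have c1 : c * c ≠ 1 := fun e => h.c_not ((show c = 1 by simpa [e] using h.c3) ▸ one_mem _)
    rcases h.mem_c (g := u⁻¹ * (s * u * s⁻¹)) (r.le (mem_inf.2 ⟨mul_mem (inv_mem hu) (h.sw_K e (sw_of j e) hu),
      mem_cent1.2 (mul_inv_eq_iff_eq_mul.1 (by
        calc _ = u⁻¹ * (s * (u * (s⁻¹ * c * s) * u⁻¹) * s⁻¹) * u := by group
          _ = c := by
            rw [show s⁻¹ * c * s = c by rw [mul_assoc, mem_cent1.1 k]; simp, uc, ← conj_inv, sc, ← uc]; group))⟩)) with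
      e1 | e1 | e1 <;> rw [inv_mul_eq_iff_eq_mul] at e1
    · exact mem_cent1.2 (mul_inv_eq_iff_eq_mul.1 (by rwa [mul_one] at e1)).symm
    · exact absurd (n _ e1 sc) c1
    · exact absurd (inv_eq_one.1 (by rw [mul_inv_rev, n _ e1 (by rw [← conj_inv, sc])])) c1
  have n : ♯(𝐂₁ s ⊓ stab2 G a b : Subgroup G) ≠ 12 := fun e => by
    have m : u ∈ V4 t w := h.sylK.mem_of_norm hu ((sup_le (le_norm_self _) (zpowers_le.2 h.cN) :
      V4 t w ⊔ zpowers c ≤ _) ((eq_of_card_le l (e ▸ p)).ge ⟨su, hu⟩)) ju.piElt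
    refine h.c_not (h.fp.V4_le ?_)
    have := mul_mem m (conj_mem_of_norm h.cN (inv_mem m))
    rwa [← mul_assoc, ← mul_assoc, uc, ← mul_inv_rev, ← eq_inv_of_mul_eq_one_right h.c3] at this
  obtain ⟨X, hX⟩ : 12 ∣ ♯(𝐂₁ s ⊓ stab2 G a b : Subgroup G) := by
    have := d4.trans d
    have := d3.trans d
    omega
  rw [hX] at d' n ⊢
  have := Nat.le_of_dvd (by decide) d'
  have : X ≤ 5 := by omega
  interval_cases X <;> omega

theorem cases : (∃ s, C1 q i a b t w c s) ∨ ∃ s, C2 q i a b t w c s := by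
  obtain ⟨s, m, j, e⟩ := h.ex_sw
  refine (h.conj_w m (h.sw_norm m e (sw_of j.1 e))).symm.imp (fun k => ⟨s, h, m, j.1, e, k⟩) fun k => ?_
  let P : G → Prop := fun σ => σ ∈ 𝐂 (V4 t w) ∧ Iv σ ∧ σ • a = b
  have p0 : P s := ⟨cent_V4 t w ▸ ⟨m, mem_cent1.2 (mul_inv_eq_iff_eq_mul.1 k)⟩, j.1, e⟩
  have pc : ∀ {σ}, P σ → P (c * σ * c⁻¹) := fun k =>
    ⟨conj_mem_of_norm (norm_le_norm_cent _ h.cN) k.1, k.2.1.conj c, conj_K k.2.2 h.mc⟩
  have com : ∀ {σ τ}, P σ → P τ → Commute σ τ := fun {σ τ} k l => by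
    have : σ⁻¹ * τ ∈ V4 t w := h.cK.le ⟨cent_le_cent1 (left_mem_V4 t w) (mul_mem (inv_mem k.1) l.1),
      show _ • a = a by rw [mul_smul, l.2.2, k.2.1.inv_eq, sw_of k.2.1 k.2.2],
      show _ • b = b by rw [mul_smul, sw_of l.2.1 l.2.2, k.2.1.inv_eq, k.2.2]⟩
    simpa using (Commute.refl σ).mul_right (show Commute σ _ from (k.1 _ this).symm)
  have p1 := pc p0
  have p2 := pc p1
  have e3 : c * (c * (c * s * c⁻¹) * c⁻¹) * c⁻¹ = s := by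
    rw [EqF.conj_mul_conj_aux, EqF.conj_mul_conj_aux, h.c3]; simp
  generalize e1 : c * s * c⁻¹ = s1 at *
  generalize e2 : c * s1 * c⁻¹ = s2 at *
  have r : (s * s1 * s2) • a = b := by rw [mul_smul, mul_smul, p2.2.2, sw_of p1.2.1 p1.2.2, e]
  refine ⟨s * s1 * s2, h.c2 (.mk' (fun e => h.ne (by simpa [e] using r)) ?_) r (mul_mem (mul_mem p0.1 p1.1) p2.1)
    (mem_cent1.2 (mul_inv_eq_iff_eq_mul.1 ?_))⟩
  · rw [← pow_two, ((com p0 p2).mul_left (com p1 p2)).mul_pow, (com p0 p1).mul_pow, pow_two, pow_two, pow_two,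
      j.1.sq, p1.2.1.sq, p2.2.1.sq]; simp
  · rw [← conj_mul, ← conj_mul, e1, e2, e3, mul_assoc s, ((com p0 p1).mul_right (com p0 p2)).eq]

end D

set_option synthInstance.maxSize 1024 in
theorem num_even {β i k j u v F : ℕ} (hi : i = 3 ∨ i = 15) (hβ : (β = 1 ∧ k = 0) ∨ β = i ∨ β = i + 1) (hk : k ≤ 2)
    (hj : 1 ≤ j) (hF : F + 1 = 2 ^ j) (v0 : 0 < v) (e : u * v = k * (F + 1) + 1)
    (h : E4F u v (β * ((k * (F + 1) + 1) * F + 1) + i) 1) : i = 3 ∧ β = 3 ∧ k = 0 ∧ F = 3 := by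
  have F1 : 2 ∣ F + 1 := hF ▸ dvd_pow_self 2 (by omega)
  rcases Nat.eq_zero_or_pos k with rfl | k0
  · obtain ⟨rfl, rfl⟩ : u = 1 ∧ v = 1 := by simpa using e
    have F12 : F ≠ 11 := by
      rintro rfl
      exact absurd (Nat.prime_three.dvd_of_dvd_pow (hF ▸ (by decide : 3 ∣ 11 + 1))) (by decide)
    simp only [E4F] at h
    rcases hi with rfl | rfl <;> rcases hβ with ⟨rfl, -⟩ | rfl | rfl <;> omega
  exfalso
  obtain ⟨v, rfl⟩ : ∃ w, v = w + 1 := ⟨v - 1, by omega⟩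
  have h' : ∃ ε : ℤ, (ε = 1 ∨ ε = -1) ∧ (4 * (u * (v + 1)) + ε * u) * (2 * (u * (v + 1)) + ε * u) =
      β * (u * (v + 1) * F + 1) + i := by
    rw [← e] at h
    rcases h with h | h
    · exact ⟨1, .inl rfl, by zify at h; linear_combination -h⟩
    · rw [show 4 * (v + 1) - 1 = 4 * v + 3 by omega, show 2 * (v + 1) - 1 = 2 * v + 1 by omega] at h
      exact ⟨-1, .inr rfl, by zify at h; linear_combination -h⟩
  obtain ⟨ε, hε, h⟩ := h'
  have ε2 : ε * ε = 1 := by rcases hε with rfl | rfl <;> rfl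
  have d1 : u ∣ β + i := Int.natCast_dvd_natCast.1 ⟨(4 * (v + 1) + ε) * (2 * (u * (v + 1)) + ε * u) - β * (v + 1) * F,
    by push_cast; linear_combination -h⟩
  have d2 : ((u * (v + 1) : ℕ) : ℤ) ∣ β + i - u * u := ⟨8 * (u * (v + 1)) + 6 * ε * u - β * F,
    by push_cast; linear_combination -h + u * u * ε2⟩
  have hb : β + i = 6 ∨ β + i = 7 ∨ β + i = 30 ∨ β + i = 31 := by omega
  have u1 : u ≤ 31 := by have := Nat.le_of_dvd (by omega) d1; omega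
  have n : ((β : ℤ) + i - u * u) ≠ 0 := fun e => by
    have : β + i = u * u := by zify; linarith
    rw [this] at hb
    interval_cases u <;> omega
  have l := Int.le_of_dvd (abs_pos.2 n) ((dvd_abs _ _).2 d2)
  have l2 : |(β : ℤ) + i - u * u| ≤ 961 := by
    have : u * u ≤ 31 * 31 := Nat.mul_le_mul u1 u1
    rw [← Nat.cast_mul]
    exact abs_le.2 ⟨by omega, by omega⟩
  have j9 : j < 10 := by
    refine (Nat.pow_lt_pow_iff_right (a := 2) (by decide)).1 ?_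
    rw [e] at l
    have : k * (F + 1) + 1 ≤ 961 := by exact_mod_cast l.trans l2
    nlinarith
  have key : ∀ j < 10, ∀ u : ℕ, u < 32 → ∀ k < 3, ∀ i ∈ [(3 : ℕ), 15], ∀ β ∈ [i, i + 1], ∀ ε ∈ [(1 : ℤ), -1], 1 ≤ j → 0 < k →
      u ∣ k * 2 ^ j + 1 → (4 * ((k * 2 ^ j + 1 : ℕ) : ℤ) + ε * u) * (2 * ((k * 2 ^ j + 1 : ℕ) : ℤ) + ε * u) ≠
        (β : ℕ) * (((k * 2 ^ j + 1 : ℕ) : ℤ) * ((2 ^ j - 1 : ℕ) : ℤ) + 1) + (i : ℕ) := by decide +kernel
  refine key j j9 u (by omega) k (by omega) i (by simpa using hi) β (by simp; omega) ε (by simpa using hε) hj k0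
    (hF ▸ e ▸ dvd_mul_right _ _) ?_
  rw [← hF, ← e, Nat.add_sub_cancel]
  exact_mod_cast h

namespace C2

variable (h : C2 q i a b t w c s)
include h

theorem sb : s • b = a := sw_of h.si h.sa

theorem com (hg : g ∈ stab2 G a b) : g * s * g⁻¹ = s := conj_t (h.sK hg)

theorem st : s ∈ 𝐂₁ t := mem_cent1_comm.1 (h.sK h.mt)

theorem sV : s ∈ 𝐂 (V4 t w) := le_cent1_iff.1 (h.vK.trans h.sK)

theorem mul_a (hg : g ∈ stab2 G a b) : (s * g) • a = b := by rw [mul_smul, hg.1.out, h.sa]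

theorem mul_sq (hg : g ∈ stab2 G a b) : s * g * (s * g) = g * g := by
  rw [mul_assoc, ← mul_assoc g, mem_cent1.1 (h.sK hg), ← mul_assoc, ← mul_assoc, h.si.sq, one_mul]

theorem mul_iv (hg : g ∈ V4 t w) : Iv (s * g) :=
  .mk' (fun e => h.ne (by simpa [e] using h.mul_a (h.vK hg))) ((h.mul_sq (h.vK hg)).trans (h.fp.sq hg))

theorem conj_st (hg : g ∈ stab2 G a b) : g * (s * t) * g⁻¹ = s * (g * t * g⁻¹) := by rw [← conj_mul, h.com hg]

theorem iv_sw (j : Iv σ) (e : σ • a = b) : σ = s ∨ σ ∈ Ab2.cls (stab2 G a b) (s * t) := by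
  obtain ⟨k, rfl⟩ : ∃ k, σ = s * k := ⟨s⁻¹ * σ, by simp⟩
  have m : k ∈ stab2 G a b := ⟨smul_left_cancel s (by rw [← mul_smul, e, h.sa]),
    smul_left_cancel s (by rw [← mul_smul, sw_of j e, h.sb])⟩
  refine or_iff_not_imp_left.2 fun n => ?_
  obtain ⟨g, hg, rfl⟩ := h.one m (.mk' (fun e => n (by rw [e, mul_one])) ((h.mul_sq m).symm.trans j.sq))
  exact ⟨g, hg, h.conj_st hg⟩

theorem cls_sw (k : σ ∈ Ab2.cls (stab2 G a b) (s * t)) : σ • a = b ∧ σ ≠ s ∧ (Gd Ω σ ↔ Gd Ω (s * t)) := by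
  obtain ⟨g, hg, rfl⟩ := k
  exact ⟨conj_K (h.mul_a h.mt) hg, fun e => (h.fp.l.conj g).ne_one (by simpa [h.conj_st hg] using e), gd_conj⟩

theorem cls_st : (Ab2.cls (stab2 G a b) (s * t)).ncard = i := by
  have := h.cls_card (s * t)
  rw [show 𝐂₁ (s * t) ⊓ stab2 G a b = 𝐂₁ t ⊓ stab2 G a b from Subgroup.ext fun g => and_congr_left fun hg => by
    change g ∈ 𝐂₁ (s * t) ↔ g ∈ 𝐂₁ t
    rw [mem_cent1, mem_cent1, ← mul_inv_eq_iff_eq_mul, h.conj_st hg, mul_right_inj, mul_inv_eq_iff_eq_mul], h.cK,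
    h.fp.card] at this
  omega

theorem gd_or : Gd Ω s ∨ Gd Ω (s * t) :=
  let ⟨σ, _, j, e⟩ := h.ex_sw
  (h.iv_sw j.1 e).imp (fun k : σ = s => k ▸ j) fun k => (h.cls_sw k).2.2.1 j

theorem beta : (¬ Gd Ω (s * t) ∧ {σ ∈ {σ : G | Gd Ω σ} | σ • a = b}.ncard = 1) ∨
    (¬ Gd Ω s ∧ {σ ∈ {σ : G | Gd Ω σ} | σ • a = b}.ncard = i) ∨
    (Gd Ω s ∧ {σ ∈ {σ : G | Gd Ω σ} | σ • a = b}.ncard = i + 1) := by
  by_cases k : Gd Ω (s * t)
  · by_cases k' : Gd Ω s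
    · refine .inr (.inr ⟨k', ?_⟩)
      rw [← h.cls_st, ← Set.ncard_insert_of_notMem fun e => (h.cls_sw e).2.1 rfl]
      exact congrArg _ (Set.ext fun σ => ⟨fun e => h.iv_sw e.1.1 e.2, fun e => e.elim (fun e => e ▸ ⟨k', h.sa⟩)
        fun e => ⟨(h.cls_sw e).2.2.2 k, (h.cls_sw e).1⟩⟩)
    · refine .inr (.inl ⟨k', ?_⟩)
      rw [← h.cls_st]
      exact congrArg _ (Set.ext fun σ => ⟨fun e => (h.iv_sw e.1.1 e.2).resolve_left fun r => k' (r ▸ e.1),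
        fun e => ⟨(h.cls_sw e).2.2.2 k, (h.cls_sw e).1⟩⟩)
  · exact .inl ⟨k, Set.ncard_eq_one.2 ⟨s, Set.ext fun σ => ⟨fun e => (h.iv_sw e.1.1 e.2).resolve_right
      fun r => k ((h.cls_sw r).2.2.1 e.1), fun e => e ▸ ⟨h.gd_or.resolve_right k, h.sa⟩⟩⟩⟩

theorem four : ({s, s * t, s * w, s * (t * w)} : Set G).ncard = 4 := by
  have := h.fp.card
  rw [← Nat.card_coe_set_eq, ← this]
  symm
  refine Nat.card_congr (Equiv.subtypeEquiv (Equiv.mulLeft s) fun g => ?_)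
  simp [h.fp.mem]

theorem tp_sw (k : τ ∈ {τ ∈ Tp Ω t | τ • a = b}) : τ ∈ ({s, s * t, s * w, s * (t * w)} : Set G) :=
  h.sw_mem h.st h.sa h.sb k.1.1 k.2 (sw_of k.1.2.1 k.2)

theorem gd_st (k : τ ∈ {τ ∈ Tp Ω t | τ • a = b}) : Gd Ω (s * t) := by
  rcases h.tp_sw k with rfl | rfl | rfl | rfl
  · exact mem_cent1.1 h.st ▸ Tp.gd (Tp.mul h.fp.l k.1)
  · exact Tp.gd k.1
  · exact gd_conj.1 (h.conj_st h.mc ▸ h.cy.l.symm ▸ Tp.gd k.1)
  · exact gd_conj.1 (h.conj_st h.mul.mc ▸ h.mul.cy.l.symm ▸ Tp.gd k.1)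

theorem sw_iv (hσ : σ ∈ 𝐂₁ t) (hx : x ∈ fixedBy Ω t) (n : σ • x ≠ x) (e : σ • σ • x = x) : σ * σ = 1 := by
  obtain ⟨g, hg, e1, e2⟩ := h.tt.tr x hx _ (h.tt.inv σ hσ x hx) a h.mt.1 b h.mt.2 n.symm h.ne
  refine conj_eq_one_iff.1 (show g * (σ * σ) * g⁻¹ = 1 from ?_)
  rw [← conj_mul]
  rcases h.sw_mem h.st h.sa h.sb (mul_mem (mul_mem hg hσ) (inv_mem hg)) (e1 ▸ e2 ▸ conj_fix rfl g)
    (e1 ▸ e2 ▸ conj_fix e g) with r | r | r | r <;> rw [r]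
  exacts [h.si.sq, (h.mul_iv (left_mem_V4 _ _)).sq, (h.mul_iv (right_mem_V4 _ _)).sq,
    (h.mul_iv (mul_mem (left_mem_V4 _ _) (right_mem_V4 _ _))).sq]

theorem even (e : Even (Nat.card Ω)) : i = 3 ∧ ¬ Gd Ω s ∧ Nat.card Ω = 16 ∧ (fixedBy Ω t).ncard = 4 ∧
    (F2 Ω t w).ncard = 4 := by
  obtain ⟨M, N, e1, e2, l, e3⟩ := h.cnt
  obtain ⟨k, F, f1, l', f2, f3, -⟩ := h.cnt2
  obtain ⟨p, j, hp, hj, f4⟩ := h.sharp.1
  obtain rfl : M = (k * (F + 1) + 1) * F := by omega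
  have oN : Odd N := by rw [e2] at e; simpa [Nat.even_add_one] using e
  have oF : Odd F := (Nat.odd_mul.1 (Nat.odd_mul.1 (e3 ▸ oN.mul h.oi)).2).2
  obtain rfl : p = 2 := hp.even_iff.1 (Nat.even_pow.1 (f4 ▸ f1 ▸ oF.add_one)).1
  have l4 : V4 t w ≤ stabilizer G a := h.vK.trans inf_le_left
  have c1 := h.cardG.2
  have c2 := h.cardC.2
  have c3 := h.cardR.2
  rw [e2, Nat.add_sub_cancel] at c1
  rw [e1, Nat.add_sub_cancel, inf_comm] at c2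
  rw [f1, Nat.add_sub_cancel] at c3
  have y : Syl 2 (V4 t w) (stabilizer G a) := syl_mk Nat.prime_two l4 h.fp.pi fun d => by
    have := card_mul_relIndex l4
    rw [h.fp.card, c1, mul_left_comm] at this
    exact (oN.mul h.oi).not_two_dvd_nat (Nat.eq_of_mul_eq_mul_left (by decide) this ▸ d)
  obtain ⟨u, v, -, v0, k1, k2⟩ := e4 h.fp y h.mc.1 h.cy.l h.cy.r
  rw [show stabilizer G a ⊓ 𝐂 (V4 t w) = 𝐂₁ t ⊓ 𝐍 (V4 t w) ⊓ stabilizer G a from le_antisymm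
    (fun g hg => ⟨⟨cent_le_cent1 (left_mem_V4 t w) hg.2, cent_le_norm _ hg.2⟩, hg.1⟩)
    fun g hg => ⟨hg.2, norm_cent h.fp y hg.2 hg.1.2 hg.1.1⟩, c2, c3] at k1
  rw [c1, c2] at k2
  have k4 := Set.ncard_le_ncard (fun τ => h.tp_sw (τ := τ))
  rw [h.four, f3] at k4
  have hb := h.beta
  generalize {σ ∈ {σ : G | Gd Ω σ} | σ • a = b}.ncard = β at *
  obtain ⟨rfl, rfl, rfl, rfl⟩ := num_even (β := β) (i := i) (k := k) (u := u) (by rcases h.qi with l | l <;> omega)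
    (hb.imp (fun r => ⟨r.2, by_contra fun n => (Set.nonempty_of_ncard_ne_zero (s := {τ ∈ Tp Ω t | τ • a = b})
      (by omega)).elim fun _ m => r.1 (h.gd_st m)⟩) (Or.imp And.right And.right)) (by omega) hj
    (f1.symm.trans f4) v0 (Nat.eq_of_mul_eq_mul_right (show 0 < F * 4 by omega) (by rw [← k1]; ring))
    (k2.imp (fun r => Nat.eq_of_mul_eq_mul_right (show 0 < (k * (F + 1) + 1) * F * 4 by omega) (by
      rw [mul_one, ← r, ← mul_assoc, e3]; ring)) fun r => Nat.eq_of_mul_eq_mul_right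
      (show 0 < (k * (F + 1) + 1) * F * 4 by omega) (by rw [mul_one, ← r, ← mul_assoc, e3]; ring))
  exact ⟨rfl, by rcases hb with r | r | r <;> first | exact r.1 | omega, by omega, e1, f1⟩

end C2

end CF.Kf
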