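import Cfsg.Agent.Perm.Kf6

/-! Doubly transitive groups with two-point stabilizer `A₄` or `A₅`: the second case in odd degree. -/

set_option autoImplicit false
set_option linter.unusedSectionVars false

namespace CF.Kf

open MulAction Subgroup Cfsg CF.BG CF.GW CF.JR CF.Small

variable {G Ω : Type*} [Group G] [Finite G] [MulAction G Ω] [Finite Ω] {q i : ℕ} {a b x y : Ω}
  {t w c s σ τ g u v ρ : G} {C S M : Subgroup G}

theorem thompson (hS : Syl 2 S C) (hM : M.relIndex S = 2) (ht : t ∈ S) (j : Iv t) (l : C ≤ 𝐂₁ t) (n : t ∉ M) :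
    ∃ H, H ⊴ C ∧ H.relIndex C = 2 ∧ t ∉ H := by
  have h1 := hall_subgroupOf hS le_rfl
  rw [subgroupOf_self] at h1
  obtain ⟨K, nK, k2, k⟩ := Transfer.thompson_transfer (S := S.subgroupOf C) (M := M.subgroupOf C)
    (by rw [← relIndex_top_right]; exact h1.not_dvd Nat.prime_two) (by rwa [relIndex_subgroupOf hS.le])
    (x := ⟨t, hS.le ht⟩) ht (by rwa [Subgroup.orderOf_mk]) fun g hg => n (conj_t (l g.2) ▸ hg)
  refine ⟨K.map C.subtype, ?_, ?_, fun ⟨y, hy, e⟩ => k ((Subtype.ext e : y = ⟨t, _⟩) ▸ hy)⟩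
  · simpa only [map_top_subtype] using (normalIn_map_iff C.subtype_injective).2 (normalIn_top.2 nK)
  · rwa [relIndex, subgroupOf, comap_map_eq_self_of_injective C.subtype_injective]

theorem num_odd {u v e F : ℕ} (l : 1 ≤ F) (v0 : 0 < v) (k : u * v = (F + 1) * e) (u0 : 0 < u)
    (h : E4F u v ((2 * F + 1) * (2 * F + 3)) 1) : False := by
  obtain ⟨v, rfl⟩ : ∃ w, v = w + 1 := ⟨v - 1, by omega⟩
  have e0 : 0 < e := Nat.pos_of_ne_zero fun r => by rw [r] at k; simp at k; omega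
  have k2 : (u * (v + 1)) ^ 2 = ((F + 1) * e) ^ 2 := by rw [k]
  rcases h with h | h
  · have : (F + 1) ^ 2 * 1 ≤ (F + 1) ^ 2 * e ^ 2 := Nat.mul_le_mul_left _ (by nlinarith)
    nlinarith
  rw [show 4 * (v + 1) - 1 = 4 * v + 3 by omega, show 2 * (v + 1) - 1 = 2 * v + 1 by omega] at h
  obtain rfl | e2 : e = 1 ∨ 2 ≤ e := by omega
  · rcases Nat.eq_zero_or_pos v with rfl | v1
    · obtain rfl : u = F + 1 := by omega
      nlinarith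
    · have : u ^ 2 * 1 ≤ u ^ 2 * (v * v) := Nat.mul_le_mul_left _ (by nlinarith)
      nlinarith
  · have : (F + 1) ^ 2 * 4 ≤ (F + 1) ^ 2 * e ^ 2 := Nat.mul_le_mul_left _ (by nlinarith)
    nlinarith [Nat.zero_le (u ^ 2 * v), Nat.zero_le (u ^ 2 * v ^ 2)]

variable (Ω) in
/-- the other involutions of `C(t)` -/
def Zp (t : G) : Set G := {σ | σ ∈ 𝐂₁ t ∧ Iv σ ∧ σ ≠ t ∧ σ ∉ Tp Ω t}

theorem tp_conj (hg : g ∈ 𝐂₁ t) : g * τ * g⁻¹ ∈ Tp Ω t ↔ τ ∈ Tp Ω t :=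
  ⟨fun h => by simpa [mul_assoc] using Tp.conj h (inv_mem hg), fun h => Tp.conj h hg⟩

theorem tp_mul (j : Iv t) : t * τ ∈ Tp Ω t ↔ τ ∈ Tp Ω t :=
  ⟨fun h => by simpa [← mul_assoc, j.sq] using Tp.mul j h, Tp.mul j⟩

theorem Zp.conj (h : τ ∈ Zp Ω t) (hg : g ∈ 𝐂₁ t) : g * τ * g⁻¹ ∈ Zp Ω t :=
  ⟨mul_mem (mul_mem hg h.1) (inv_mem hg), h.2.1.conj g, fun e => h.2.2.1 (by simpa using e.trans (conj_t hg).symm),
    mt (tp_conj hg).1 h.2.2.2⟩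

theorem Zp.mul (j : Iv t) (h : τ ∈ Zp Ω t) : t * τ ∈ Zp Ω t :=
  ⟨mul_mem (self_mem_cent1 t) h.1, j.mul h.2.1 (mem_cent1.1 h.1).symm h.2.2.1.symm,
    fun e => h.2.1.ne_one (by simpa using e), mt (tp_mul j).1 h.2.2.2⟩

/-- a subgroup `A₄` of `C(t)` -/
structure E8 (a : Ω) (t u v ρ : G) : Prop where
  cy : Cy u v ρ
  mu : u ∈ 𝐂₁ t ⊓ stabilizer G a
  mv : v ∈ 𝐂₁ t ⊓ stabilizer G a
  mr : ρ ∈ 𝐂₁ t ⊓ stabilizer G a
  nt : t ∉ V4 u v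

namespace E8

variable (e : E8 a t u v ρ)
include e

theorem tpv : v ∈ Tp Ω t ↔ u ∈ Tp Ω t := e.cy.l ▸ tp_conj e.mr.1

theorem tpuv : u * v ∈ Tp Ω t ↔ u ∈ Tp Ω t := by rw [← e.cy.r, tp_conj e.mr.1, e.tpv]

theorem nm (hg : g ∈ V4 u v) : t * g ∉ V4 u v := fun k => e.nt ((mul_mem_cancel_right hg).1 k)

theorem three : ({u, v, u * v} : Set G).ncard = 3 :=
  Set.ncard_eq_three.2 ⟨_, _, _, e.cy.fp.ne, e.cy.fp.mul.ne, e.cy.fp.mul'.ne, rfl⟩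

theorem v_not (j : Iv t) : v ∉ V4 t u := fun k => by
  have f : FP t u := ⟨j, e.cy.fp.l, (mem_cent1.1 e.mu.1).symm, fun r => e.nt (r ▸ left_mem_V4 _ _)⟩
  rcases f.mem.1 k with r | r | r | r
  exacts [e.cy.fp.r.ne_one r, e.nt (r ▸ right_mem_V4 _ _), e.cy.fp.ne r.symm,
    e.nm (left_mem_V4 _ _) (r ▸ right_mem_V4 _ _)]

theorem mem_tp (j : Iv t) (k : u ∈ Tp Ω t) (hg : v * g ∈ V4 t u) : g ∈ Tp Ω t := by
  have f : FP t u := ⟨j, e.cy.fp.l, (mem_cent1.1 e.mu.1).symm, fun r => e.nt (r ▸ left_mem_V4 _ _)⟩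
  have c := mem_cent1.1 e.mv.1
  rcases f.mem.1 hg with r | r | r | r <;> rw [← eq_inv_mul_iff_mul_eq, e.cy.fp.r.inv_eq] at r <;> subst r
  · rwa [mul_one, e.tpv]
  · rwa [c, tp_mul j, e.tpv]
  · rwa [← e.cy.fp.comm, e.tpuv]
  · rwa [← mul_assoc, c, mul_assoc, ← e.cy.fp.comm, tp_mul j, e.tpuv]

end E8

namespace C2

variable (h : C2 q i a b t w c s)
include h

theorem iso (o : Odd (Nat.card Ω)) (n : ¬ Gd Ω s) :
    ∃ z : G, Iv z ∧ z • a = a ∧ 𝐂₁ z ⊔ oddCore G = ⊤ := by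
  have e := h.toHy.tt.dc1 (Set.mem_univ a) (Set.mem_univ b) h.ne (by rwa [Set.ncard_univ])
    (T := {σ : G | Iv σ ∧ ¬ Gd Ω σ}) (fun _ _ => trivial) (fun g _ σ k => ⟨k.1.conj g, mt gd_conj.1 k.2⟩)
    (fun σ k x _ => by rw [← mul_smul, k.1.sq, one_smul]) fun σ k x _ y _ e e' => by_contra fun r =>
      k.2 ⟨k.1, x, y, r, e, e'⟩
  rw [show {σ ∈ {σ : G | Iv σ ∧ ¬ Gd Ω σ} | σ • a = b} = {s} from Set.ext fun σ => ⟨fun k =>
    (h.iv_sw k.1.1 k.2).resolve_right fun r => k.1.2 ((h.cls_sw r).2.2.2 (h.gd_or.resolve_left n)),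
    fun k => k ▸ ⟨⟨h.si, n⟩, h.sa⟩⟩, Set.ncard_singleton] at e
  obtain ⟨z, hz⟩ := Set.ncard_eq_one.1 e
  obtain ⟨⟨j, k⟩, za⟩ := hz.ge rfl
  refine ⟨z, j, za, (sup_comm _ _).trans (Invol.isolated_sup_centralizer ⟨j, fun g r => hz.le ⟨⟨j.conj g,
    mt gd_conj.1 k⟩, by_contra fun n => k ⟨j, _, _, n, ?_, za⟩⟩⟩)⟩
  rw [← mul_smul, r.eq, mul_smul, za]

theorem oddm (o : Odd (Nat.card Ω)) : Odd (fixedBy Ω t).ncard := by
  obtain ⟨M, N, e1, e2, -, e3⟩ := h.cnt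
  rw [e2] at o
  have := h.oi
  rw [e1, Nat.odd_add_one, Nat.not_odd_iff_even] at *
  by_contra! n
  have k : Even (M + 1) := (Nat.not_even_iff_odd.1 n).add_one
  exact absurd (e3 ▸ o.mul_right i) (Nat.not_even_iff_odd.2 (((k.mul_left _).add_odd this).mul
    (Nat.not_even_iff_odd.1 n)))

variable (o : Odd (fixedBy Ω t).ncard)
include o

theorem oddf : Odd (F2 Ω t w).ncard := by
  obtain ⟨k, F, f1, -, f2, -⟩ := h.cnt2
  rw [f1, Nat.odd_add_one]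
  rw [f2, Nat.odd_add_one, Nat.odd_mul] at o
  intro r
  exact o ⟨(r.add_one.mul_left _).add_one, r⟩

theorem e8 (j : Gd Ω s) : ∃ u v ρ, E8 a t u v ρ := by
  have m : s ∈ 𝐂₁ t ⊓ 𝐍 (V4 t w) := ⟨h.st, cent_le_norm _ h.sV⟩
  have n : s ∉ V4 t w := fun r => h.ne ((V4_fix r h.aF).symm.trans h.sa)
  obtain ⟨p, hp, e⟩ := ex_fix (Set.toFinite _) (s • ·) (h.ttV.inv s m)
    (fun x _ => by rw [← mul_smul, h.si.sq, one_smul]) (h.oddf o)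
  have cp : c • p = p := by_contra fun r => n (h.shV h.st ⟨?_, ?_⟩ hp r (cent_fix (h.sK h.mc) e) e)
  · obtain ⟨g, rfl⟩ := h.gd_conj j
    obtain ⟨k, hk, r⟩ := h.tt.one h.mt.1 h.mt.2 h.ne (x := g⁻¹ • p) (by simpa [mul_assoc] using conj_fix e g⁻¹)
    have k1 : (g * k)⁻¹ * (g * t * g⁻¹) * (g * k)⁻¹⁻¹ = t := .trans (by group) (conj_t (inv_mem hk))
    have k2 : (g * k)⁻¹ • p = a := by rw [mul_inv_rev, mul_smul, ← r, inv_smul_smul]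
    have k3 : ∀ y ∈ stab2 G a b, y • p = p → (g * k)⁻¹ * y * (g * k)⁻¹⁻¹ ∈ 𝐂₁ t ⊓ stabilizer G a := fun y hy r =>
      ⟨by rw [← k1, ← cj_cent1]; exact conj_mem_cj.2 (h.sK hy), show _ • a = a from k2 ▸ conj_fix r _⟩
    refine ⟨_, _, _, h.cy.map (f := (MulAut.conj (g * k)⁻¹).toMonoidHom) (conj_inj _), k3 t h.mt hp.1, k3 w h.mw hp.2,
      k3 c h.mc cp, fun r => n (conj_mem_cj.1 (show _ ∈ cj (g * k)⁻¹ _ from ?_))⟩
    rwa [k1, cj_V4]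
  · exact h.ctw ▸ conj_fix (F2_mul.ge hp).2 c
  · exact h.cy.l ▸ conj_fix hp.1 c

theorem cntZ : {σ ∈ Zp Ω t | σ • a = a}.ncard + {τ ∈ Tp Ω t | τ • a = b}.ncard = 4 := by
  rw [h.tt.dc1 h.mt.1 h.mt.2 h.ne o (T := Zp Ω t) (fun _ k => k.1) (fun g hg σ k => Zp.conj k hg)
    (fun σ k x _ => by rw [← mul_smul, k.2.1.sq, one_smul]) fun σ k x hx y hy e e' => by_contra fun r =>
      k.2.2.2 ⟨k.1, k.2.1, k.2.2.1, x, y, r, ⟨hx, e⟩, hy, e'⟩, ← h.four,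
    ← Set.ncard_union_eq (Set.disjoint_left.2 fun σ k l => k.1.2.2.2 l.1)]
  congr 1
  refine Set.ext fun σ => ⟨fun k => k.elim (fun k => h.sw_mem h.st h.sa h.sb k.1.1 k.2 (sw_of k.1.2.1 k.2))
    h.tp_sw, fun k => ?_⟩
  obtain ⟨g, hg, rfl⟩ : ∃ g ∈ V4 t w, σ = s * g := by
    rcases k with rfl | rfl | rfl | rfl
    exacts [⟨1, one_mem _, (mul_one _).symm⟩, ⟨_, left_mem_V4 _ _, rfl⟩, ⟨_, right_mem_V4 _ _, rfl⟩,
      ⟨_, mul_mem (left_mem_V4 _ _) (right_mem_V4 _ _), rfl⟩]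
  have r := h.mul_a (h.vK hg)
  by_cases k : s * g ∈ Tp Ω t
  exacts [.inr ⟨k, r⟩, .inl ⟨⟨mul_mem h.st (h.fp.V4_le hg), h.mul_iv hg,
    fun e => h.ne ((show t • a = a from h.mt.1).symm.trans (e ▸ r)), k⟩, r⟩]

theorem u_tp (e : E8 a t u v ρ) : u ∈ Tp Ω t := by_contra fun n => by
  have z1 : u ∈ {σ ∈ Zp Ω t | σ • a = a} := ⟨⟨e.mu.1, e.cy.fp.l, fun r => e.nt (r ▸ left_mem_V4 _ _), n⟩, e.mu.2⟩
  have k : ∀ {σ}, σ ∈ {σ ∈ Zp Ω t | σ • a = a} → ρ * σ * ρ⁻¹ ∈ {σ ∈ Zp Ω t | σ • a = a} := fun k =>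
    ⟨Zp.conj k.1 e.mr.1, by simpa only [show ρ • a = a from e.mr.2] using conj_fix k.2 ρ⟩
  have k' : ∀ {σ}, σ ∈ {σ ∈ Zp Ω t | σ • a = a} → t * σ ∈ {σ ∈ Zp Ω t | σ • a = a} := fun k =>
    ⟨Zp.mul h.fp.l k.1, by rw [mul_smul, k.2]; exact h.mt.1⟩
  have z2 := e.cy.l ▸ k z1
  have l := Set.ncard_le_ncard (show {u, v, u * v} ∪ {t * u, t * v} ⊆ {σ ∈ Zp Ω t | σ • a = a} by
    rintro _ ((rfl | rfl | rfl) | rfl | rfl)
    exacts [z1, z2, e.cy.r ▸ k z2, k' z1, k' z2])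
  rw [Set.ncard_union_eq (Set.disjoint_left.2 (by
    rintro _ k (rfl | rfl) <;> refine e.nm ?_ (e.cy.fp.mem.2 (.inr k))
    exacts [left_mem_V4 _ _, right_mem_V4 _ _])), e.three, Set.ncard_pair (by simpa using e.cy.fp.ne)] at l
  have := h.cntZ o
  omega

theorem no4 (k : Gd Ω (s * t)) (j : Gd Ω s) (p : PiElt {2} g) : g * g = 1 := by
  have all : ∀ σ, Iv σ → Gd Ω σ := fun σ r => by
    obtain ⟨x, n⟩ := h.moves r.ne_one
    obtain ⟨g, -, e⟩ := h.ex_conj r n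
    exact gd_conj.1 ((h.iv_sw (r.conj g) e).elim (fun e => e ▸ j) fun e => (h.cls_sw e).2.2.2 k)
  have k4 : ∀ x : G, x * x * (x * x) = 1 → x * x = 1 := fun x r => by_contra fun n => by
    obtain ⟨g, e⟩ := h.gd_conj (all _ (.mk' n r))
    have e : g⁻¹ * x * g * (g⁻¹ * x * g) = t := by
      rw [← mul_left_cancel_iff (a := g), mul_inv_eq_iff_eq_mul.1 e]; group
    generalize g⁻¹ * x * g = y at e
    have m : y ∈ 𝐂₁ t := e ▸ mem_cent1.2 (mul_assoc _ _ _).symm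
    refine h.fp.l.ne_one (e.symm.trans ?_)
    by_cases ya : y • a = a
    · by_cases yb : y • b = b
      · exact h.sq4 ⟨ya, yb⟩ (by rw [e, h.fp.l.sq])
      · exact h.sw_iv m h.mt.2 yb (by rw [← mul_smul, e]; exact h.mt.2)
    · exact h.sw_iv m h.mt.1 ya (by rw [← mul_smul, e]; exact h.mt.1)
  obtain ⟨n, hn⟩ := p.zpowers.isPGroup ⟨g, mem_zpowers g⟩
  have : ∀ n, ∀ g : G, g ^ 2 ^ n = 1 → g * g = 1 := fun n => by
    induction n with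
    | zero => exact fun g e => by simp [show g = 1 by simpa using e]
    | succ n ih => exact fun g e => k4 g (ih _ (by rwa [← pow_two, ← pow_mul, ← pow_succ']))
  exact this n g (congrArg Subtype.val hn)

theorem not_gd : ¬ Gd Ω s := fun j => by
  obtain ⟨u, v, ρ, e⟩ := h.e8 o j
  have ut := h.u_tp o e
  obtain ⟨k, F, f1, l, f2, f3, f4⟩ := h.cnt2
  have cz := h.cntZ o
  have ua : a ∈ F2 Ω t u := ⟨h.mt.1, e.mu.2⟩
  obtain ⟨b', hb, n⟩ : ∃ y ∈ F2 Ω t u, a ≠ y := by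
    obtain ⟨x, y, n, hx, hy⟩ := ut.2.2.2
    by_cases r : a = x
    exacts [⟨y, hy, r ▸ n⟩, ⟨x, hx, r⟩]
  obtain ⟨ρ', d⟩ := h.tp_ex ut n ua hb
  have f5 := (h.tp_card ut).trans f1
  have vR : v ∈ 𝐂₁ t ⊓ 𝐍 (V4 t u) := ⟨e.mv.1, cent_le_norm _ (cent_V4 t u ▸ ⟨e.mv.1, mem_cent1.2 e.cy.fp.comm.symm⟩)⟩
  have sh : ∀ z ∈ 𝐂₁ t ⊓ 𝐍 (V4 t u), z • a = a → z ∉ V4 t u → z * z = 1 → v * z ∈ V4 t u := fun z hz za nz zz =>
    d.sharp.2 (by rw [h.tp_card ut]; exact h.oddf o) v vR z hz e.mv.2 za (e.v_not h.fp.l) nz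
      (e.cy.fp.r.sq ▸ one_mem _) (zz ▸ one_mem _)
  obtain rfl | rfl | rfl : k = 0 ∨ k = 1 ∨ k = 2 := by omega
  · have l := Set.ncard_le_ncard (show {u, v, u * v} ⊆ {τ ∈ Tp Ω t | τ • a = a} by
      rintro _ (rfl | rfl | rfl)
      exacts [⟨ut, e.mu.2⟩, ⟨e.tpv.2 ut, e.mv.2⟩, ⟨e.tpuv.2 ut, (mul_mem e.mu e.mv).2⟩])
    rw [e.three] at l
    omega
  · obtain ⟨z, hz, za⟩ := Set.nonempty_of_ncard_ne_zero (s := {σ ∈ Zp Ω t | σ • a = a}) (by omega)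
    have r := Set.eq_of_subset_of_ncard_le (show {z, t * z} ⊆ {σ ∈ Zp Ω t | σ • a = a} by
      rintro _ (rfl | rfl)
      exacts [⟨hz, za⟩, ⟨Zp.mul h.fp.l hz, by rw [mul_smul, za]; exact h.mt.1⟩])
      (by rw [Set.ncard_pair fun r => h.fp.l.ne_one (by simpa using r)]; omega)
    refine hz.2.2.2 (e.mem_tp h.fp.l ut (sh z ⟨hz.1, mem_norm_of_cj_le ?_⟩ za (fun m => hz.2.2.2
      ⟨hz.1, hz.2.1, hz.2.2.1, a, b', n, ⟨ua.1, za⟩, hb.1, V4_fix m hb⟩) hz.2.1.sq))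
    rw [cj_V4, conj_t hz.1, V4_le]
    refine ⟨left_mem_V4 _ _, ?_⟩
    rcases r.ge ⟨Zp.conj hz e.mu.1, by simpa only [show u • a = a from e.mu.2] using conj_fix za u⟩ with r | r
    · rw [conj_eq_of_comm (mul_inv_eq_iff_eq_mul.1 r).symm]
      exact right_mem_V4 _ _
    · rw [show z * u * z⁻¹ = t⁻¹ * u by rw [eq_inv_mul_iff_mul_eq, ← mul_assoc, ← mul_assoc,
        ← mul_inv_eq_iff_eq_mul.1 r, mul_inv_cancel_right]]
      exact mul_mem (inv_mem (left_mem_V4 _ _)) (right_mem_V4 _ _)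
  obtain ⟨τ, hτ⟩ := Set.nonempty_of_ncard_ne_zero (s := {τ ∈ Tp Ω t | τ • a = b}) (by omega)
  have lV : V4 u v ≤ 𝐂₁ t ⊓ stabilizer G a := V4_le.2 ⟨e.mu, e.mv⟩
  have nV : zpowers t ≤ 𝐍 (V4 u v) := norm_of_cent (zp_le_cent.2 (lV.trans inf_le_left))
  have c8 : ♯(V4 u v ⊔ zpowers t : Subgroup G) = 2 ^ 3 := by
    rw [card_sup_of_inf_bot (.inr nV) (eq_bot_iff.2 fun x hx => (h.fp.l.mem_zpowers.1 hx.2).resolve_right
      fun r => e.nt (r ▸ hx.1)), e.cy.fp.card, h.fp.l.card]; rfl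
  obtain ⟨S, hS, lS⟩ := exists_syl_le (M := 𝐂₁ t ⊓ stabilizer G a) (sup_le lV (zpowers_le.2 ⟨self_mem_cent1 t, h.mt.1⟩))
    (piGrp_of_card Nat.prime_two c8)
  have tS : t ∈ V4 u v ⊔ zpowers t := mem_sup_right (mem_zpowers t)
  have l' : V4 t u ≤ V4 u v ⊔ zpowers t := V4_le.2 ⟨tS, mem_sup_left (left_mem_V4 _ _)⟩
  have sq : ∀ y ∈ S, y * y = 1 := fun y hy => h.no4 o (h.gd_st hτ) j (hS.pi.elt hy)
  obtain rfl : V4 u v ⊔ zpowers t = S := le_antisymm lS fun y hy => by_contra fun r => r ((mul_mem_cancel_left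
    (mem_sup_left (right_mem_V4 u v))).1 (l' (sh y ⟨(hS.le hy).1, cent_le_norm _ fun x hx =>
      Bender.comm_of_sq (sq x (lS (l' hx))) (sq y hy) (sq _ (mul_mem (lS (l' hx)) hy))⟩ (hS.le hy).2
      (fun m => r (l' m)) (sq y hy))))
  have s1 : Syl 2 (V4 u v ⊔ zpowers t) (𝐂₁ t) := hS.trans_idx inf_le_left ((piNat_compl_single Nat.prime_two).2 fun d => by
    have := card_mul_relIndex (inf_le_left : 𝐂₁ t ⊓ stabilizer G a ≤ 𝐂₁ t)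
    rw [h.cardC.1, mul_comm] at this
    exact o.not_two_dvd_nat (Nat.eq_of_mul_eq_mul_right (card_pos' _) this ▸ d))
  obtain ⟨H, nH, iH, tH⟩ := thompson (M := V4 u v) s1 (by
    have := card_mul_relIndex (le_sup_left : V4 u v ≤ V4 u v ⊔ zpowers t)
    rw [c8, e.cy.fp.card] at this
    omega) tS h.fp.l le_rfl e.nt
  have two : ∀ x ∈ 𝐂₁ t, ∀ y ∈ 𝐂₁ t, (x * y ∈ H ↔ (x ∈ H ↔ y ∈ H)) := fun x hx y hy =>
    mul_mem_iff_of_index_two (H := H.subgroupOf (𝐂₁ t)) iH (a := ⟨x, hx⟩) (b := ⟨y, hy⟩)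
  have cj' : ∀ x, ρ * x * ρ⁻¹ ∈ H ↔ x ∈ H := fun x => (mem_norm.1 (nH.norm e.mr.1) x).symm
  have vH : v ∈ H := (cj' v).1 (e.cy.r ▸ (two u e.mu.1 v e.mv.1).2 (e.cy.l ▸ (cj' u).symm))
  have uH : u ∈ H := (cj' u).1 (e.cy.l ▸ vH)
  have rH : ρ ∈ H := by
    have := (two ρ e.mr.1 ρ e.mr.1).2 Iff.rfl
    rw [eq_inv_of_mul_eq_one_right (show ρ * (ρ * ρ) = 1 by rw [← e.cy.cube, pow_three])] at this
    exact inv_mem_iff.1 this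
  have half : ∀ X ≤ 𝐂₁ t, t ∈ X → ♯(H ⊓ X : Subgroup G) * 2 = ♯X := fun X l m => by
    rw [← card_inf_mul_relIndex H X, ((Nat.dvd_prime Nat.prime_two).1 (iH ▸ relIndex_dvd_of_norm l nH.norm)).resolve_left
      fun r => tH (relIndex_eq_one.1 r m)]
  have y : Syl 2 (V4 u v) H := (s1.normal_inf nH).of_card_le (V4_le.2 ⟨uH, vH⟩) e.cy.fp.pi (by
    have := half _ s1.le tS
    rw [c8] at this
    rw [e.cy.fp.card]
    omega)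
  obtain ⟨α, β, α0, β0, k1, k2⟩ := e4 e.cy.fp y rH e.cy.l e.cy.r
  have r1 : H ⊓ 𝐂₁ u = H ⊓ (𝐂₁ t ⊓ 𝐍 (V4 t u)) := le_antisymm
    (fun x hx => ⟨hx.1, nH.le hx.1, cent_le_norm _ (cent_V4 t u ▸ ⟨nH.le hx.1, hx.2⟩)⟩) fun x hx => ⟨hx.1,
      mem_cent1.2 (mul_inv_eq_iff_eq_mul.1 ((d.conj_w hx.2.1 hx.2.2).resolve_right fun r =>
        tH ((mul_mem_cancel_right uH).1 (r ▸ mul_mem (mul_mem hx.1 uH) (inv_mem hx.1)))))⟩
  have tR : t ∈ 𝐂₁ t ⊓ 𝐍 (V4 t u) := ⟨self_mem_cent1 t, le_norm_self _ (left_mem_V4 _ _)⟩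
  obtain ⟨ε, hε⟩ := card_dvd (show H ⊓ 𝐂 (V4 u v) ≤ H ⊓ (𝐂₁ t ⊓ 𝐍 (V4 t u) ⊓ stabilizer G a) from fun x hx => by
    have m := r1.le ⟨hx.1, cent_le_cent1 (left_mem_V4 u v) hx.2⟩
    exact ⟨hx.1, m.2, by_contra fun r => e.v_not h.fp.l (d.shV e.mv.1 (d.ttV.inv x m.2 a ua) ua r
      (cent_fix (cent_le_cent1 (right_mem_V4 u v) hx.2) e.mv.2) e.mv.2)⟩)
  have a1 := half _ le_rfl (self_mem_cent1 t)
  have a2 := half _ inf_le_left tR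
  have a3 := half (𝐂₁ t ⊓ 𝐍 (V4 t u) ⊓ stabilizer G a) (inf_le_left.trans inf_le_left) ⟨tR, h.mt.1⟩
  rw [inf_eq_left.2 nH.le, h.cardC.1, h.cardC.2, f2, Nat.add_sub_cancel] at a1
  rw [d.cardR.1, d.cardR.2, f5, Nat.add_sub_cancel, ← r1] at a2
  rw [d.cardR.2, f5, Nat.add_sub_cancel, hε] at a3
  have p := card_pos' (H ⊓ 𝐂 (V4 u v))
  have p' := card_pos' (H ⊓ 𝐂₁ u)
  have a4 : ♯H = (2 * F + 1) * (2 * F + 3) * ♯(H ⊓ 𝐂₁ u : Subgroup G) :=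
    Nat.eq_of_mul_eq_mul_right (show 0 < 2 by decide) (by rw [a1, mul_assoc _ _ 2, a2]; ring)
  rw [a4] at k2
  exact num_odd (e := ε) l β0 (Nat.eq_of_mul_eq_mul_right (mul_pos p (show 0 < 2 by decide)) (by
    rw [← mul_assoc, ← k1, a2, ← a3]; ring)) α0 (k2.imp (fun r => Nat.eq_of_mul_eq_mul_right p' (by rw [mul_one, r]))
      fun r => Nat.eq_of_mul_eq_mul_right p' (by rw [mul_one, r]))

end C2

theorem hy_of [FaithfulSMul G Ω] (h2 : IsMultiplyPretransitive G Ω 2) (qi : (q = 3 ∧ i = 3) ∨ (q = 5 ∧ i = 15))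
    (n : a ≠ b) (e : IsL q (stab2 G a b)) : Hy G Ω q i :=
  ⟨fun g k => FaithfulSMul.eq_of_smul_eq_smul fun x : Ω => by rw [k, one_smul], Perm.twoTrans_iff.1 h2, qi,
    fun x y n' => by
      obtain ⟨g, rfl, rfl⟩ := Perm.twoTrans_iff.1 h2 a b x y n n'
      rw [show stab2 G (g • a) (g • b) = cj g (stab2 G a b) from Subgroup.ext fun k => by
        simp [mem_cj, mul_smul, inv_smul_eq_iff]]
      exact e.map (conj_inj g)⟩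

theorem main5 (h : Hy G Ω 5 15) (n : a ≠ b) (r : ¬ EqF.Reg G Ω) :
    (Nat.card Ω = 7 ∧ Nonempty (G ≃* alternatingGroup (Fin 7))) ∨ (Nat.card Ω = 12 ∧ Spor.IsoM11 G) := by
  obtain ⟨t, w, c, d⟩ := h.ex0 n
  rcases d.cases with ⟨s, k⟩ | ⟨s, k⟩
  · exact k.main5 rfl r
  rcases Nat.even_or_odd (Nat.card Ω) with e | o
  · exact absurd (k.even e).1 (by decide)
  obtain ⟨z, j, za, e⟩ := k.iso o (k.not_gd (k.oddm o))
  haveI := h.fs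
  rw [EqF.oddCore_bot h.h2 r, sup_bot_eq] at e
  refine absurd (h.faith z fun x => ?_) j.ne_one
  obtain ⟨g, -, rfl⟩ := h.tt.one (Set.mem_univ a) (Set.mem_univ b) n (Set.mem_univ x)
  exact cent_fix (e.ge trivial) za

end CF.Kf
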