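import Cfsg.Agent.Perm.Semiaffine
import Cfsg.Agent.Transfer.Frat

/-! Linear groups transitive on non-zero vectors: the field of an abelian normal subgroup. -/

set_option autoImplicit false

namespace CF.Perm

open Subgroup

universe u

variable {G : Type*} {V : Type u} [Group G] [AddCommGroup V] [DistribMulAction G V]

/-- transitivity on non-zero vectors -/
def Tr (G V : Type*) [Group G] [AddCommGroup V] [DistribMulAction G V] : Prop :=
  ∀ v w : V, v ≠ 0 → w ≠ 0 → ∃ g : G, g • v = w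

/-- `V` is a vector space over the field `K` generated by `A`, and `G` acts semilinearly -/
structure FS (V K : Type*) [AddCommGroup V] [DistribMulAction G V] [Field K] [Module K V]
    (A : Subgroup G) (σ : G →* RingAut K) : Prop where
  semi : ∀ (g : G) (k : K) (v : V), g • k • v = σ g k • g • v
  scal : ∀ a ∈ A, ∃ k : K, ∀ v : V, a • v = k • v
  ker : σ.ker = centralizer (A : Set G)
  gen : ∀ W : AddSubgroup V, (∀ a ∈ A, ∀ v ∈ W, a • v ∈ W) → ∀ k : K, ∀ v ∈ W, k • v ∈ W

theorem Tr.eq_zero [Finite V] (h : Tr G V) (R : Subring (AddMonoid.End V))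
    (hc : ∀ f ∈ R, ∀ f' ∈ R, ∀ v, f (f' v) = f' (f v))
    (hn : ∀ g : G, ∀ f ∈ R, ∃ f' ∈ R, ∀ v, f' (g • v) = g • f v) {f : AddMonoid.End V}
    (hf : f ∈ R) {v : V} (hv : v ≠ 0) (h0 : f v = 0) : f = 0 := by
  have := finite_addEnd (V := V)
  let N : V → Set (AddMonoid.End V) := fun v => {f | f ∈ R ∧ f v = 0}
  have h1 : ∀ v w, v ≠ 0 → w ≠ 0 → N v ⊆ N w → N w ⊆ N v := fun v w hv hw h2 => by
    obtain ⟨g, rfl⟩ := h w v hw hv
    choose! c hc hc' using hn g
    refine (Set.eq_of_subset_of_ncard_le h2 (Set.ncard_le_ncard_of_injOn c (fun f hf =>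
      ⟨hc f hf.1, by rw [hc' f hf.1, hf.2, smul_zero]⟩) fun f hf f' hf' e => ?_)).ge
    exact AddMonoidHom.ext fun x => MulAction.injective g
      ((hc' f hf.1 x).symm.trans (e ▸ hc' f' hf'.1 x))
  refine AddMonoidHom.ext fun w => by_contra fun hw => ?_
  have hw0 : w ≠ 0 := by rintro rfl; exact hw (map_zero f)
  have h2 : v + w ≠ 0 := fun e => hw (by
    have := congrArg f e
    rwa [map_add, h0, zero_add, map_zero] at this)
  have h3 : N (v + w) ⊆ N w := fun f' hf' => h1 w (f w) hw0 hw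
    (fun k hk => ⟨hk.1, by rw [hc k hk.1 f hf, hk.2, map_zero]⟩) ⟨hf'.1, by
      have := congrArg f hf'.2
      rwa [hc f hf f' hf'.1, map_add, h0, zero_add, map_zero] at this⟩
  have h4 := h1 _ v h2 hv (fun f' hf' => ⟨hf'.1, by
    have := hf'.2
    rwa [map_add, (h3 hf').2, add_zero] at this⟩) ⟨hf, h0⟩
  exact hw (h3 h4).2

theorem Tr.exists_FS [Finite V] [Nontrivial V] [FaithfulSMul G V] (h : Tr G V) (A : Subgroup G)
    [hA : A.Normal] (hc : IsMulCommutative A) : ∃ (K : Type u) (_ : Field K) (_ : Finite K)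
      (_ : Module K V) (σ : G →* RingAut K), FS V K A σ := by
  have := finite_addEnd (V := V)
  let T := DistribMulAction.toAddMonoidEnd G V
  let R := Subring.closure (T '' A)
  have hR : ∀ a ∈ A, T a ∈ R := fun a ha => Subring.subset_closure ⟨a, ha, rfl⟩
  have h1 : ∀ g : G, ∀ f ∈ R, T g * f * T g⁻¹ ∈ R := fun g f hf => by
    induction hf using Subring.closure_induction with
    | mem x hx =>
      obtain ⟨a, ha, rfl⟩ := hx
      simpa only [map_mul] using hR _ (hA.conj_mem a ha g)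
    | zero => simp
    | one => simp [← map_mul]
    | add x y _ _ hx hy => simpa only [mul_add, add_mul] using R.add_mem hx hy
    | neg x _ hx => simpa only [mul_neg, neg_mul] using R.neg_mem hx
    | mul x y _ _ hx hy =>
      have := R.mul_mem hx hy
      rwa [mul_assoc, ← mul_assoc (T g⁻¹), ← mul_assoc (T g⁻¹), ← map_mul, inv_mul_cancel, map_one,
        one_mul, ← mul_assoc, mul_assoc (T g)] at this
  have h2 : ∀ g ∈ centralizer (A : Set G), ∀ f ∈ R, f * T g = T g * f := fun g hg f hf =>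
    Subring.closure_le (t := Subring.centralizer {T g}).2 (by
      rintro _ ⟨a, ha, rfl⟩ _ rfl
      rw [← map_mul, ← hg a ha, map_mul]) hf _ rfl |>.symm
  have h3 : ∀ f ∈ R, ∀ f' ∈ R, f * f' = f' * f := fun f hf f' hf' =>
    Subring.closure_le (t := Subring.centralizer {f}).2 (by
      rintro _ ⟨a, ha, rfl⟩ _ rfl
      exact h2 a (le_centralizer A ha) _ hf) hf' _ rfl
  obtain ⟨v, hv⟩ := exists_ne (0 : V)
  have : Nontrivial (AddMonoid.End V) := ⟨1, 0, fun h => hv (DFunLike.congr_fun h v)⟩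
  have : NoZeroDivisors R := ⟨fun {a b} hab => or_iff_not_imp_right.2 fun hb => by
    obtain ⟨w, hw⟩ := DFunLike.ne_iff.1 (mt Subtype.ext hb)
    exact Subtype.ext (h.eq_zero R (fun f hf f' hf' v => DFunLike.congr_fun (h3 f hf f' hf') v)
      (fun g f hf => ⟨_, h1 g f hf, fun v => by
        change g • f (g⁻¹ • g • v) = _; rw [inv_smul_smul]⟩) a.2 hw
      (DFunLike.congr_fun (congrArg Subtype.val hab) w))⟩
  have : IsDomain R := NoZeroDivisors.to_isDomain _
  letI : Field R := (Finite.isDomain_to_isField R).toField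
  letI : MulSemiringAction G R :=
    { smul := fun g f => ⟨_, h1 g f f.2⟩
      one_smul := fun f => Subtype.ext (show T 1 * f * T 1⁻¹ = f by simp)
      mul_smul := fun g k f => Subtype.ext (show T (g * k) * f * T (g * k)⁻¹ =
        T g * (T k * f * T k⁻¹) * T g⁻¹ by simp only [mul_inv_rev, map_mul, mul_assoc])
      smul_zero := fun g => Subtype.ext (show T g * 0 * T g⁻¹ = 0 by simp)
      smul_add := fun g f f' => Subtype.ext (show T g * (f + f') * T g⁻¹ =
        T g * f * T g⁻¹ + T g * f' * T g⁻¹ by simp only [mul_add, add_mul])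
      smul_one := fun g => Subtype.ext (show T g * 1 * T g⁻¹ = 1 by simp [← map_mul])
      smul_mul := fun g f f' => Subtype.ext (show T g * (f * f') * T g⁻¹ =
        T g * f * T g⁻¹ * (T g * f' * T g⁻¹) by
          simp only [mul_assoc]; rw [← mul_assoc (T g⁻¹), ← map_mul]; simp) }
  refine ⟨R, inferInstance, inferInstance, inferInstance, MulSemiringAction.toRingAut G R,
    fun g k v => ?_, fun a ha => ⟨⟨_, hR a ha⟩, fun _ => rfl⟩, le_antisymm (fun g hg a ha => ?_)
    fun g hg => RingEquiv.ext fun k => Subtype.ext ?_, fun W hW k v hv => ?_⟩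
  · change _ = g • (k : AddMonoid.End V) (g⁻¹ • g • v)
    rw [inv_smul_smul]; rfl
  · refine eq_mul_inv_iff_mul_eq.1 (eq_of_smul_eq_smul (α := V) fun v => ?_)
    rw [mul_smul, mul_smul]
    exact (DFunLike.congr_fun (congrArg Subtype.val (DFunLike.congr_fun hg ⟨_, hR a ha⟩)) v).symm
  · change T g * k * T g⁻¹ = k
    rw [← h2 g hg k k.2, mul_assoc, ← map_mul]; simp
  · obtain ⟨k, hk⟩ := k
    change k v ∈ W
    induction hk using Subring.closure_induction generalizing v with
    | mem x hx => obtain ⟨a, ha, rfl⟩ := hx; exact hW a ha v hv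
    | zero => exact W.zero_mem
    | one => exact hv
    | add x y _ _ hx hy => exact W.add_mem (hx v hv) (hy v hv)
    | neg x _ hx => exact W.neg_mem (hx v hv)
    | mul x y _ _ hx hy => exact hx _ (hy v hv)

theorem Tr.card_dvd [Finite V] [Nontrivial V] (h : Tr G V) : Nat.card V - 1 ∣ Nat.card G := by
  obtain ⟨v, hv⟩ := exists_ne (0 : V)
  have h1 : MulAction.orbit G v = {0}ᶜ := Set.ext fun w =>
    ⟨fun ⟨g, hg⟩ e => hv ((smul_eq_zero_iff_eq g).1 (hg.trans e)), h v w hv⟩
  have h2 := Set.ncard_add_ncard_compl ({0} : Set V)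
  rw [← h2, Set.ncard_singleton, Nat.add_sub_cancel_left, ← h1]
  exact card_orbit_dvd v

namespace FS

variable {K : Type*} [Field K] [Module K V] {A : Subgroup G} {σ : G →* RingAut K}

theorem comm (h : FS V K A σ) {g : G} (hg : g ∈ centralizer (A : Set G)) (k : K) (v : V) :
    g • k • v = k • g • v := by
  rw [h.semi, show σ g = 1 from h.ker.ge hg]; rfl

/-- an element centralising `A` as a linear map -/
def lin (h : FS V K A σ) {g : G} (hg : g ∈ centralizer (A : Set G)) : Module.End K V :=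
  ⟨DistribSMul.toAddMonoidHom V g, h.comm hg⟩

@[simp] theorem lin_apply (h : FS V K A σ) {g : G} (hg : g ∈ centralizer (A : Set G)) (v : V) :
    h.lin hg v = g • v := rfl

theorem exists_chi [Nontrivial V] [FaithfulSMul G V] (h : FS V K A σ) :
    ∃ χ : A →* Kˣ, Function.Injective χ ∧ ∀ (a : A) (v : V), (a : G) • v = (χ a : K) • v := by
  obtain ⟨v, hv⟩ := exists_ne (0 : V)
  choose c hc using fun a : A => h.scal a a.2
  refine ⟨MonoidHom.toHomUnits ⟨⟨c, smul_left_injective K hv (by simp [← hc])⟩, fun a b =>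
    smul_left_injective K hv (by simp only [← hc, mul_smul, coe_mul])⟩,
    fun a b e => Subtype.ext (eq_of_smul_eq_smul (α := V) fun w => ?_), hc⟩
  rw [hc, hc, show c a = c b from congrArg Units.val e]

theorem isCyclic [Nontrivial V] [FaithfulSMul G V] [Finite K] (h : FS V K A σ) : IsCyclic A := by
  obtain ⟨χ, h1, -⟩ := h.exists_chi
  exact isCyclic_of_injective χ h1

theorem card_dvd [Nontrivial V] [FaithfulSMul G V] [Finite K] (h : FS V K A σ) :
    Nat.card A ∣ Nat.card K - 1 := by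
  obtain ⟨χ, h1, -⟩ := h.exists_chi
  exact Nat.card_units K ▸ card_dvd_of_injective χ h1

theorem exists_pow_index [Finite K] (h : FS V K A σ) :
    ∃ k, 2 ≤ k ∧ Nat.card K = k ^ (centralizer (A : Set G)).index :=
  ⟨Nat.card {x : K // ∀ φ ∈ σ.range, φ x = x}, Finite.one_lt_card_iff_nontrivial.2
    ⟨⟨0, fun φ _ => map_zero φ⟩, ⟨1, fun φ _ => map_one φ⟩, by simp⟩,
    by rw [← h.ker, index_ker, ← card_eq_pow_of_ringAut σ.range]⟩

theorem semilinear [Finite K] (h : FS V K A σ) (hd : Module.finrank K V = 1) (F : Type*) [Field F]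
    [Finite F] (hF : Nat.card F = Nat.card V) : ∃ e : V ≃+ F, (∀ g : G, ∃ (a : F) (τ : F ≃+* F),
      ∀ v : V, e (g • v) = a * τ (e v)) := by
  have := Fintype.ofFinite K
  have := Fintype.ofFinite F
  have := Module.finite_of_finrank_eq_succ hd
  let e := LinearEquiv.ofFinrankEq (R := K) K V (by simp [hd])
  let ψ : K ≃+* F := FiniteField.ringEquivOfCardEq (by
    rw [← Nat.card_eq_fintype_card, ← Nat.card_eq_fintype_card, hF, Nat.card_congr e.toEquiv])
  refine ⟨e.symm.toAddEquiv.trans ψ.toAddEquiv, fun g => ⟨ψ (e.symm (g • e 1)),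
    ψ.symm.trans ((σ g).trans ψ), fun v => ?_⟩⟩
  obtain ⟨k, rfl⟩ := e.surjective v
  have : e k = k • e 1 := by rw [← map_smul, smul_eq_mul, mul_one]
  change ψ (e.symm (g • e k)) = _ * ψ (σ g (ψ.symm (ψ (e.symm (e k)))))
  rw [e.symm_apply_apply, ψ.symm_apply_apply, this, h.semi, map_smul, smul_eq_mul, map_mul, mul_comm]

theorem irred (h : FS V K A σ) (hd : Module.finrank K V = 1) (W : AddSubgroup V)
    (hW : ∀ a ∈ A, ∀ v ∈ W, a • v ∈ W) : W = ⊥ ∨ W = ⊤ := by
  refine or_iff_not_imp_left.2 fun h1 => eq_top_iff.2 fun w _ => ?_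
  obtain ⟨⟨v, hv⟩, h2⟩ := AddSubgroup.ne_bot_iff_exists_ne_zero.1 h1
  obtain ⟨k, rfl⟩ := (finrank_eq_one_iff_of_nonzero' v fun e => h2 (Subtype.ext e)).1 hd w
  exact h.gen W hW k v hv

end FS

end CF.Perm
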