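import Cfsg.Agent.S2916
import Cfsg.Agent.ABG.B1
import Cfsg.Agent.S3331
import Cfsg.Agent.S5892
import Cfsg.Agent.S2060
import Cfsg.Agent.S0813
import Cfsg.Agent.S3277
import Cfsg.Agent.Perm.Sims3
import Cfsg.Agent.JR.Pk0
import Cfsg.Agent.Small.M11b

/-!
# Simple groups with a self-centralizing four-group
-/

set_option autoImplicit false
set_option linter.unusedSectionVars false

namespace CF.Perm.Wg
open Subgroup Cfsg CF.BG CF.GW CF.JR
open CF.Ab2 (p2 NS)
open scoped MatrixGroups Pointwise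

universe u

variable {G : Type u} [Group G] [Finite G] {D M S T : Subgroup G} {v x z : G}

theorem sol4 (h : DG (⊤ : Subgroup G)) (i : Iv x) (c : ♯(𝐂₁ x) = 4) (e : ∀ y ∈ 𝐂₁ x, y ^ 2 = 1)
    (d : 8 ∣ Nat.card G) : Sol (⊤ : Subgroup G) := by
  have nO := (O_normal {2}ᶜ (⊤ : Subgroup G)).norm
  have o := odd_O (⊤ : Subgroup G)
  refine Sol.of_qt (sol_of_odd o) nO ?_
  rcases (h.qt _).cases (O_qt_O _ _) with k | ⟨a, b, f, n, k⟩ | ⟨L, n, k, cL, -, s, -⟩
  · exact k.sol
  · exact sol_of_four f n k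
  have t : qt (𝐎 {2}ᶜ (⊤ : Subgroup G)) ⊤ = ⊤ := top_le_iff.1 ((qt_norm_eq_top _).ge.trans (qt_mono _ le_top))
  have c1 := qt_cent1 (H := ⊤) i (nO trivial) (by simp) o
  rw [top_inf_eq, t, top_inf_eq] at c1
  rw [t] at n cL ⊢
  by_contra ns
  obtain ⟨f⟩ := Agent.S3277.result _ (i.qe (nO trivial) o) (by
    rw [← c1, card_qt_of_inf_bot (le_top.trans nO) ((O_pi _ _).inf_eq_bot' (piGrp_of_card (k := 2) p2 c)), c])
    (by
      rw [← c1]
      intro y hy
      obtain ⟨w, hw, ny, rfl⟩ := mem_qt.1 hy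
      rw [← qe_pow ny, e w hw, qe_of_mem (one_mem _)])
    (fun k => ns (sol_of_npc ((npc_iff p2).2 (Transfer.HasNPC.of_equiv k topEquiv.symm)))) fun E nE a => by
      have : E = ⊥ := by
        have a' : Abel E := .of_comm a.1
        have := (Ab2.ns_of_simple s fun l => ns ?_).le_or_cent (N := E) (le_top.trans (normalIn_top.2 nE).norm)
          (le_top.trans n.norm)
        · rcases this with l | l
          · exact absurd (a'.mono l) fun l => k.not_sol l.sol
          · exact le_bot_iff.1 (cL ▸ le_inf le_top (cent_symm l))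
        · exact absurd l.sol k.not_sol
      simp [this]
  have := Nat.card_congr f.toEquiv
  rw [← card_top', ← t, card_qt nO, relIndex_top_right] at this
  rw [← (𝐎 {2}ᶜ (⊤ : Subgroup G)).card_mul_index, this] at d
  have := (Nat.Coprime.pow_left 3 o.coprime_two_left).dvd_of_dvd_mul_left d
  rw [nat_card_alternatingGroup] at this
  simp [Nat.factorial] at this

theorem not_m11 [IsSimpleGroup G] (h : Nat.card G = 7920) (m : IsCoatom M) (c : ♯M = 24) : False := by
  obtain ⟨X, _, _, _, cX, t⟩ := Small.exists_act11 h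
  have t : MulAction.IsPretransitive G X := MulAction.is_one_pretransitive_iff.1
    (MulAction.isMultiplyPretransitive_of_le' (n := 4) (by decide) (by simp [cX]; decide))
  obtain ⟨P, s⟩ := exists_syl 2 M
  have := Fact.mk p2
  obtain ⟨x, hx⟩ := s.pi.isPGroup.nonempty_fixed_point_of_prime_not_dvd_card X (by simp [cX])
  let A : Finset X := (MulAction.orbit M x).toFinite.toFinset
  have d : A.card ∣ 3 := by
    have e : A.card = (MulAction.stabilizer G x).relIndex M := by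
      rw [← Set.ncard_eq_toFinset_card, ← MulAction.index_stabilizer]; rfl
    have := card_mul_relIndex s.le
    have c8 : 8 ∣ ♯P := s.dvd_card (by rw [c]; decide) (piNat_pow_self p2 3)
    have l := relIndex_dvd_left M (show P ≤ MulAction.stabilizer G x from fun g hg => hx ⟨g, hg⟩)
    obtain ⟨k, c8⟩ := c8
    rw [c8, c] at this
    exact e ▸ l.trans ⟨k, by linarith⟩
  have l : M ≤ MulAction.stabilizer G A := fun g hg => by
    rw [MulAction.mem_stabilizer_iff, ← Finset.coe_inj, Finset.coe_smul_finset, Set.Finite.coe_toFinset]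
    exact MulAction.smul_orbit (⟨g, hg⟩ : M) x
  rcases m.le_iff.1 l with e | e
  · have : A = Finset.univ := Finset.eq_univ_of_forall fun y => by
      obtain ⟨g, rfl⟩ := t.exists_smul_eq x y
      rw [← (e.ge (mem_top g) : g • A = A)]
      exact Finset.smul_mem_smul_finset ((Set.Finite.mem_toFinset _).2 (MulAction.mem_orbit_self x))
    simp [this, cX] at d
  · have i := M.card_mul_index
    rw [h, c, ← e, MulAction.index_stabilizer] at i
    have := Set.ncard_le_ncard (s := MulAction.orbit G A) (t := ((Finset.powersetCard A.card Finset.univ : Finset (Finset X)) : Set _))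
      (by rintro _ ⟨g, rfl⟩; simp)
    rw [Set.ncard_coe_finset, Finset.card_powersetCard, Finset.card_univ, cX] at this
    rcases (Nat.dvd_prime Nat.prime_three).1 d with d | d <;> rw [d] at this <;> simp [Nat.choose] at this <;> omega

theorem dc_qd (h : IsQuasiDihedral T) (i : Iv z) (hz : z ∈ T ⊓ 𝐂 T) : DC (qt (zpowers z) T) := by
  obtain ⟨n, a, b, k⟩ := Invol.exists_qd h
  obtain rfl : z = a (Invol.zh n) :=
    (k.mem_zpowers_zh.1 ((k.inf_centralizer_self k.two_le).le hz)).resolve_left i.ne_one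
  have nT : T ≤ 𝐍 (zpowers (a (Invol.zh n))) := k.le_normalizer_zpowers _
  have m : ∀ j, qe (zpowers (a (Invol.zh n))) (a j) ∈ zpowers (qe (zpowers (a (Invol.zh n))) (a 1)) := fun j =>
    qt_zpowers (nT (k.a_mem 1)) ▸ qe_mem_qt (k.a_mem_zpowers_one j) (nT (k.a_mem j))
  have key : ∀ y ∈ qt (zpowers (a (Invol.zh n))) T, y ∉ zpowers (qe _ (a 1)) → ∃ j, y = qe _ (b j) := fun y hy e => by
    obtain ⟨w, hw, -, rfl⟩ := mem_qt.1 hy
    rcases (k.mem w).1 hw with ⟨j, rfl⟩ | ⟨j, rfl⟩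
    exacts [absurd (m j) e, ⟨j, rfl⟩]
  refine ⟨_, qe_mem_qt (k.a_mem 1) (nT (k.a_mem 1)), fun y hy e => ?_, fun y hy y' hy' e e' => ?_⟩
  · obtain ⟨j, rfl⟩ := key y hy e
    rw [← qe_mul (nT (k.b_mem j)) (nT (k.b_mem j)), ← qe_conj (nT (k.b_mem j)) (nT (k.a_mem 1)), ← qe_inv (nT (k.a_mem 1)),
      k.bb, k.conj_ba, k.a_inv, qe_eq_iff (nT (k.a_mem _)) (nT (k.a_mem _)), k.a_inv, k.aa]
    refine ⟨qe_of_mem ((k.sq_cases j).elim (fun e => by rw [e, k.a_zero]; exact one_mem _) fun e => by rw [e]; exact mem_zpowers _), ?_⟩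
    rw [show -((Invol.zh n - 1) * 1) + -1 = -Invol.zh n by ring, ← k.a_inv]
    exact inv_mem (mem_zpowers _)
  · obtain ⟨j, rfl⟩ := key y hy e
    obtain ⟨j', rfl⟩ := key y' hy' e'
    rw [← qe_mul (nT (k.b_mem j)) (nT (k.b_mem j')), k.bb]
    exact m _

theorem s4core (n : NS (⊤ : Subgroup G)) (f : FP z v) (c : 𝐂 (V4 z v) ≤ V4 z v) (e : 𝐍 (V4 z v) ⊓ 𝐂₁ z = D)
    (c8 : ♯D = 8) (sq : ∀ d ∈ D, d ^ 2 ∈ zpowers z) (d : 16 ∣ Nat.card G) :
    (∃ (F : Type) (_ : Field F) (_ : Fintype F), Odd (Fintype.card F) ∧ 3 < Fintype.card F ∧ Nonempty (G ≃* PSL(2, F))) ∨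
      Nonempty (G ≃* PSL(3, ZMod 3)) ∨ Nat.card G = 7920 := by
  have := n.simple_top
  have := Fact.mk p2
  obtain ⟨T, s, l⟩ := exists_syl_le le_top (piGrp_of_card (k := 3) p2 c8)
  have cV : ∀ a b, V4 a b = V4 z v → 𝐂₁ a ⊓ 𝐂₁ b ≤ V4 z v := fun a b k => by rwa [← cent_V4, k]
  have VD : V4 z v ≤ D := e ▸ le_inf le_normalizer (le_cent1_iff.2 (f.abel (left_mem_V4 z v)))
  have Dz : D ≤ 𝐂₁ z := e ▸ inf_le_right
  have zT : z ∈ 𝐂 T := by
    obtain ⟨w, hw, w1⟩ := exists_mem_ne_one (s.pi.center_ne_bot (n.syl_ne s))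
    have nl : ¬ D ≤ V4 z v := fun k => by have := card_le k; rw [c8, f.card] at this; omega
    have cw := le_cent1_iff.2 (cent_anti l hw.2)
    rcases f.mem.1 (c (cent_anti (VD.trans l) hw.2)) with rfl | rfl | rfl | rfl
    · exact absurd rfl w1
    · exact hw.2
    · exact absurd ((le_inf Dz cw).trans (cV _ _ rfl)) nl
    · exact absurd ((le_inf Dz cw).trans (cV _ _ f.V4_mul)) nl
  have vT := l (VD (right_mem_V4 z v))
  obtain ⟨T, rfl⟩ := s.exists_sylow_top
  have c16 : 16 ∣ ♯(T : Subgroup G) := s.dvd_card (card_top' (G := G) ▸ d) (piNat_pow_self p2 4)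
  rcases two_group_cases_of_card_centralizer T.isPGroup' (x := ⟨v, vT⟩) ((orderOf_coe _).symm.trans f.r) (by
    rw [← card_map (T : Subgroup G).subtype_injective, ← top_inf_eq (centralizer _), map_inf_cent1
      (T : Subgroup G).subtype_injective, map_top_subtype, ← f.card]
    exact congrArg _ (congrArg _ (le_antisymm ((inf_le_inf_right _ (le_cent1_iff.2 zT)).trans (cV _ _ rfl))
      (le_inf (VD.trans l) (le_cent1_iff.2 (f.abel (right_mem_V4 z v))))))) with ⟨m, -, ⟨k⟩⟩ | k | k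
  · rcases gw_sylow n.not_comm_top T k with k | ⟨⟨k⟩⟩
    · exact .inl k
    · rw [Nat.card_congr k.toEquiv, nat_card_alternatingGroup] at d
      simp [Nat.factorial] at d
  · have nz : 𝐍 (zpowers z) = 𝐂₁ z := (Ab2.norm_zp_le f.l).antisymm (cent1_le_norm_zp z)
    have t : qt (zpowers z) (𝐂₁ z) = ⊤ := nz ▸ qt_norm_eq_top _
    have nv : v ∈ 𝐍 (zpowers z) := nz ▸ Dz (VD (right_mem_V4 z v))
    have zD := zpowers_le.2 (VD (left_mem_V4 z v))
    have iv : Iv (qe (zpowers z) v) := .mk' (fun k => by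
      rcases f.l.mem_zpowers.1 ((qe_eq_one nv).1 k) with k | k
      exacts [f.r.ne_one k, f.ne k.symm]) (by rw [← qe_mul nv nv, f.r.sq, qe_of_mem (one_mem _)])
    have c1 : qt (zpowers z) D = 𝐂₁ (qe (zpowers z) v) := by
      rw [← e, inf_comm, qt_inf_norm_eq ⟨le_sup_left, (VD.trans Dz).trans nz.ge⟩, t, top_inf_eq,
        qt_sup_left (zpowers_le.2 nv), qt_zpowers nv]
      exact (Ab2.norm_zp_le iv).antisymm (cent1_le_norm_zp _)
    have cq : ∀ X, zpowers z ≤ X → X ≤ 𝐂₁ z → 2 * ♯(qt (zpowers z) X) = ♯X := fun X a b => by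
      rw [card_qt (b.trans nz.ge), ← card_mul_relIndex a, Nat.card_zpowers, f.l]
    obtain ⟨k⟩ := ABG.qd_three T k f.l (Sol.of_qt (abel_zpowers z).sol nz.ge (t ▸ sol4
      (dg_of_syl (t ▸ (s.of_le (le_cent1_iff.2 zT) le_top).qt nz.ge) (dc_qd k f.l ⟨l (VD (left_mem_V4 z v)), zT⟩)) iv
      (by have := cq D zD Dz; rw [← c1]; omega)
      (by
        rw [← c1]
        intro y hy
        obtain ⟨w, hw, nw, rfl⟩ := mem_qt.1 hy
        rw [← qe_pow nw, qe_of_mem (sq w hw)])
      (by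
        have := cq T (zD.trans l) (le_cent1_iff.2 zT)
        exact Dvd.dvd.trans (by omega) (card_subgroup_dvd_card (qt (zpowers z) T)))))
    obtain ⟨j, J, -⟩ := L3r.exists_JG' (F := ZMod 3) (by decide) f.l k
    exact .inr ((J.three J.res (Nat.card_zmod 3)).imp_right And.right)
  · omega

end CF.Perm.Wg
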