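import Cfsg.Agent.Perm.Wg1
import Cfsg.Agent.Perm.SymAut

/-!
# Identification lemmas for primitive groups with a suborbit of length three
-/

set_option autoImplicit false
set_option linter.unusedSectionVars false

namespace CF.Perm.Wg
open Subgroup Cfsg CF.BG CF.GW CF.JR CF.Classical
open CF.Ab2 (p2 NS)
open scoped MatrixGroups Pointwise

universe u

variable {G : Type u} [Group G] [Finite G] {L M X : Subgroup G} {c : G} {p q : ℕ}

theorem equiv_of_index {Γ : Type*} [Group Γ] [Finite Γ] [L.Normal] {Λ : Subgroup Γ} [Λ.Normal] (h : 𝐂 L = ⊥)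
    (e : L ≃* Λ) (b : Function.Bijective (MulAut.conjNormal : Γ →* MulAut Λ)) (i : L.index = Λ.index) :
    Nonempty (G ≃* Γ) := by
  obtain ⟨f, hf, -⟩ := exists_embed_aux h e b
  exact ⟨.ofBijective f ((Nat.bijective_iff_injective_and_card f).2 ⟨hf, by
    rw [← L.card_mul_index, ← Λ.card_mul_index, i, Nat.card_congr e.toEquiv]⟩)⟩

theorem s5_of [L.Normal] (h : 𝐂 L = ⊥) (e : L ≃* alternatingGroup (Fin 5)) (i : L.index = 2) :
    Nonempty (G ≃* Equiv.Perm (Fin 5)) :=
  equiv_of_index h e ⟨conjNormal_alt_injective (by simp), fun f => (exists_aut_eq_conj (by simp) (by simp) f).imp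
    fun _ => Eq.symm⟩ (i.trans alternatingGroup.index_eq_two.symm)

theorem pgl_of [hp : Fact p.Prime] (h4 : 4 ≤ p) [L.Normal] (h : 𝐂 L = ⊥) (e : L ≃* PSL(2, ZMod p)) (i : L.index = 2) :
    Nonempty (G ≃* PGL(2, ZMod p)) := by
  have c := Nat.card_zmod p
  have o : Odd (Nat.card (ZMod p)) := c.symm ▸ hp.out.odd_of_ne_two (by omega)
  have i' := index_psl_of_odd (two_ne o)
  have := normal_of_index_eq_two i'
  have n : NS (psl (ZMod p)) := IsL.ns (q := p) ⟨_, _, inferInstance, ZMod.card p, ⟨(pslEquiv _).symm⟩⟩ (c ▸ o) h4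
  refine equiv_of_index h (e.trans (pslEquiv _)) ((Nat.bijective_iff_injective_and_card _).2 ⟨conjNormal_injective
    (by_contra fun k => n.not_abel (psl_le_of_normal_of_ne_bot (c.symm ▸ h4) k)), ?_⟩) (i.trans i'.symm)
  rw [← Nat.card_congr (MulAut.congr (pslEquiv _)).toEquiv, Known.card_aut_psl (p := p) (f := 1) (by simp) le_rfl]
  simp

theorem IsL.zmod (h : IsL p X) (hp : p.Prime) : Nonempty (X ≃* PSL(2, ZMod p)) := by
  obtain ⟨k, _, _, c, ⟨e⟩⟩ := h
  exact ⟨e.trans (pslCongr _ (ZMod.ringEquivOfPrime k hp c).symm)⟩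

theorem not_17 [L.Normal] (h : 𝐂 L = ⊥) (e : IsL 17 L) (i : L.index = 2) (v : Iv c) : ♯(𝐂₁ c) ≠ 48 := fun k => by
  have : Fact (Nat.Prime 17) := ⟨by norm_num⟩
  obtain ⟨e⟩ := IsL.zmod e this.out
  obtain ⟨f⟩ := pgl_of (by decide) h e i
  have v' : Iv (f c) := (f.orderOf_eq c).trans v
  have := (isL2_PGL (ZMod 17) (AlgebraicClosure (ZMod 17))).card_centralizer_cases v'.ne_one
  rw [← card_map (f := f.toMonoidHom) f.injective, ← top_inf_eq (centralizer _), map_inf_cent1 f.injective,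
    map_top_of_surjective _ f.surjective, top_inf_eq] at k
  simp only [MulEquiv.coe_toMonoidHom] at k
  rw [k, v'.sq, Nat.card_zmod, MonoidHom.range_eq_top_of_surjective (MonoidHom.id _) fun x => ⟨x, rfl⟩, index_top] at this
  simp only [if_true] at this
  obtain k | ⟨n, a, -, b⟩ := this <;> omega

theorem out_m11 [L.Normal] (h : 𝐂 L = ⊥) (s : IsSimpleGroup L) (k : ♯L = 7920) : L.index ≠ 2 := fun i => by
  obtain ⟨e⟩ := Small.M11_of_card k
  have a := Nat.card_le_card_of_injective _ (conjNormal_injective h)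
  have b := (Inn Spor.M11).card_mul_index
  have d := Nat.card_le_card_of_surjective _ (MulAut.conj : Spor.M11 →* _).rangeRestrict_surjective
  rw [index_eq_card, Agent.S2060.result, ← Nat.card_congr (MulAut.congr e).toEquiv] at b
  rw [← L.card_mul_index, i, k] at a
  rw [← Nat.card_congr e.toEquiv, k] at d
  exact absurd (a.trans (b.ge.trans ((mul_one _).le.trans d))) (by decide)

theorem three (l : X ≤ L) (c : ♯X = 3) (e : L ⊓ 𝐂 X = X) (n : ¬ Sol L) (o : 𝐎 {2} L = ⊥) :
    Nonempty (L ≃* alternatingGroup (Fin 5)) ∨ Nonempty (L ≃* PSL(2, ZMod 7)) := by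
  rcases Agent.S3331.result (X.subgroupOf L) ((card_subgroupOf' l).trans c) (map_injective L.subtype_injective (by
    rw [← top_inf_eq (centralizer _), map_inf_cent L.subtype_injective, map_top_subtype, map_subgroupOf_eq_of_le l, e]))
    with ⟨N, _, a, -, b⟩ | ⟨N, k, a, b, ⟨f⟩⟩ | k
  · have : Group.IsSolvable (L ⧸ N) := Char.isSolvable_of_card_dvd p2 Nat.prime_three _ (a := 1) (b := 1)
      (b.elim (fun b => by rw [b]; decide) fun ⟨b⟩ => by rw [Nat.card_congr b.toEquiv, Nat.card_perm]; simp; decide)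
    exact (n (Group.isSolvable_of_ker_le_range N.subtype (QuotientGroup.mk' N) (by simp))).elim
  · obtain rfl : N = ⊥ := map_eq_bot_iff_of_injective _ L.subtype_injective |>.1 (le_bot_iff.1 (o ▸ le_O
      (by simpa only [map_top_subtype] using (normalIn_map_iff L.subtype_injective).2 (normalIn_top.2 k))
      ((piGrp_map_iff L.subtype_injective).2 (piGrp_of_forall_elt fun x hx => piElt_of_pow_eq_one p2 (b x hx)))))
    exact .inl ⟨QuotientGroup.quotientBot.symm.trans f⟩
  · exact .inr k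

theorem cube_aux {n k : ℕ} (h : n * (n ^ 2 - 1) = k) (l : k < 60) : n ≤ 3 := by
  by_contra! a
  have : 4 * (4 ^ 2 - 1) ≤ n * (n ^ 2 - 1) := by gcongr <;> omega
  omega

theorem mod16 (o : Odd q) (h : 32 ∣ q * (q ^ 2 - 1)) : q % 16 = 1 ∨ q % 16 = 15 := by
  have := (Nat.Coprime.pow_left 5 o.coprime_two_left).dvd_of_dvd_mul_left h
  have e : q ^ 2 = 256 * (q / 16 * (q / 16)) + 32 * (q / 16 * (q % 16)) + (q % 16) ^ 2 := by
    conv_lhs => rw [← Nat.div_add_mod q 16]
    ring
  have := Nat.odd_iff.1 o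
  have : q % 16 < 16 := Nat.mod_lt _ (by decide)
  interval_cases k : q % 16 <;> omega

theorem max_l2 (h : IsL q (⊤ : Subgroup G)) (o : Odd q) (h3 : 3 < q) (m : IsCoatom M) :
    (q = 7 → 6 < ♯M) ∧ (♯M = 24 → M ⊓ 𝐂 M = ⊥ → 16 ∣ Nat.card G → q.Prime ∧ (q % 16 = 1 ∨ q % 16 = 15)) := by
  have cG := h.card o
  rw [card_top'] at cG
  obtain ⟨k, _, _, rfl, ⟨e⟩⟩ := h
  replace e := topEquiv.symm.trans e
  obtain ⟨p, hp⟩ := CharP.exists k
  have := Fact.mk (CharP.char_is_prime k p)
  have f := (equivMapOfInjective M e.toMonoidHom e.injective)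
  have c := Nat.card_congr f.toEquiv
  have h5 := Nat.odd_iff.1 o
  rcases Agent.S5892.result p o (by omega) (M.map e.toMonoidHom) ((OrderIso.isCoatom_iff e.mapSubgroup M).2 m) with
    a | ⟨a, n, b, ⟨g⟩⟩ | ⟨a, -, n, b, ⟨g⟩⟩ | ⟨F, _, _, a, ⟨g⟩⟩ | ⟨F, _, _, r, r1, -, a, ⟨g⟩⟩ | ⟨a, -, ⟨g⟩⟩ |
    ⟨a, b, -, ⟨g⟩⟩ | ⟨a, b, ⟨g⟩⟩
  · refine ⟨fun e => by rw [e] at a; omega, fun d => ?_⟩
    rw [← c, d] at a
    rcases le_or_gt (Fintype.card k) 7 with l | l
    · interval_cases Fintype.card k <;> omega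
    · have : 8 * (8 - 1) ≤ Fintype.card k * (Fintype.card k - 1) := by gcongr <;> omega
      omega
  iterate 2
    refine ⟨by omega, fun d z => ?_⟩
    replace g := f.trans g
    obtain rfl : n = 12 := by have := Nat.card_congr g.toEquiv; rw [DihedralGroup.nat_card] at this; omega
    have : (g.symm (.r 6) : G) ∈ M ⊓ 𝐂 M := ⟨(g.symm _).2, fun x hx => congrArg Subtype.val (g.injective (a₁ :=
      ⟨x, hx⟩ * g.symm (.r 6)) (a₂ := g.symm (.r 6) * ⟨x, hx⟩) (by
        simp only [map_mul, g.apply_symm_apply]; generalize g ⟨x, hx⟩ = y; revert y; decide))⟩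
    rw [z, mem_bot, OneMemClass.coe_eq_one, g.symm.map_eq_one_iff] at this
    exact absurd this (by decide)
  · rw [Nat.card_congr g.toEquiv, card_PGL_two, Nat.card_eq_fintype_card (α := F)] at c
    refine ⟨fun e => ?_, fun d _ l => ?_⟩
    · exact absurd (e.symm.trans a ▸ (by norm_num : Nat.Prime 7)) (Nat.Prime.not_prime_pow le_rfl)
    · have := cube_aux (c.symm.trans d) (by decide)
      rw [a] at cG
      interval_cases Fintype.card F <;> omega
  · have c' := card_PSL_two (F := F)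
    refine ⟨fun e => ?_, fun d _ l => ?_⟩
    · exact absurd (e.symm.trans a ▸ (by norm_num : Nat.Prime 7)) (Nat.Prime.not_prime_pow r1.two_le)
    · rw [← Nat.card_congr g.toEquiv, ← c, d] at c'
      have := Nat.gcd_le_left (Fintype.card F - 1) two_pos
      have := cube_aux c'.symm (by omega)
      interval_cases Fintype.card F <;> simp at c'
  · rw [Nat.card_congr g.toEquiv, nat_card_alternatingGroup] at c
    simp [Nat.factorial] at c
    omega
  · rw [Nat.card_congr g.toEquiv, nat_card_alternatingGroup] at c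
    simp [Nat.factorial] at c
    omega
  · rw [Nat.card_congr g.toEquiv, Nat.card_perm] at c
    simp [Nat.factorial] at c
    exact ⟨by omega, fun _ _ d => ⟨a ▸ this.out, mod16 o (cG ▸ Nat.mul_dvd_mul_left 2 d)⟩⟩

end CF.Perm.Wg
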