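import Cfsg.Agent.Perm.Wg2

/-!
# Groups containing the amalgam of two conjugate `S₄`
-/

set_option autoImplicit false
set_option linter.unusedSectionVars false

namespace CF.Perm.Wg
open Subgroup Cfsg CF.BG CF.GW CF.JR CF.Invol
open CF.Ab2 (p2 NS)
open scoped MatrixGroups Pointwise commutatorElement

universe u

variable {G : Type u} [Group G] [Finite G] {D K M X : Subgroup G} {a b c d e g w x : G} {p : ℕ}

theorem exists_iv_cent (n : D ≤ 𝐍 K) (k : PiGrp {2} D) (o : ¬ Odd (♯K)) : ∃ w ∈ K ⊓ 𝐂 D, Iv w := by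
  obtain ⟨T, s, l⟩ := exists_syl_le (le_sup_right : D ≤ K ⊔ D) k
  have h := s.inf_normal (normalIn_sup_left n)
  obtain ⟨w, hw, i⟩ := exists_iv_of_two h.pi.inf_left (k.inf_cent_ne_bot h.pi (norm_inf (norm_of_le l) n)
    (h.syl_ne_bot p2 (Nat.not_odd_iff_even.1 o).two_dvd))
  exact ⟨w, ⟨hw.1.2, hw.2⟩, i⟩

theorem inf_eq_of_prime (hp : p.Prime) (c : ♯M = ♯D * p) (l : D ≤ M) (k : D ≤ X) (h : e ∈ M) (n : e ∉ X) :
    M ⊓ X = D :=
  (Fgs1.eq_or_eq_of_relIndex_prime (Nat.eq_of_mul_eq_mul_left (card_pos' D) ((card_mul_relIndex l).trans c) ▸ hp)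
    (le_inf l k) inf_le_left).resolve_right fun i => n (i.ge h).2

theorem norm_V4 (h : g * a * g⁻¹ ∈ V4 a b) (k : g * b * g⁻¹ ∈ V4 a b) : g ∈ 𝐍 (V4 a b) :=
  mem_norm_of_cj_le (by rw [cj_V4]; exact V4_le.2 ⟨h, k⟩)

theorem conj_eq (h : a * b = b * a) : a * b * a⁻¹ = b := by rw [h, mul_inv_cancel_right]

/-- four consecutive conjugates of an involution, the first three generating `D₈` -/
structure A3 (a b d e g : G) : Prop where
  fp : FP b d
  ada : a * d * a = b * d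
  ga : g * a * g⁻¹ = b
  gb : g * b * g⁻¹ = d
  gd : g * d * g⁻¹ = e

/-- two conjugate subgroups `S₄` sharing the Sylow subgroup `⟨a, b, d⟩` -/
structure A4 (a b d e g : G) : Prop extends A3 a b d e g where
  c : ♯(𝐍 (V4 b d)) = 24

namespace A3
variable (h : A3 a b d e g)
include h

theorem ia : Iv a := by simpa [← h.ga, mul_assoc] using h.fp.l.conj' g

theorem ab : a * b = b * a := (MulAut.conj g).injective (by
  simpa only [map_mul, MulAut.conj_apply, h.ga, h.gb] using h.fp.comm)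

theorem ie : Iv e := h.gd ▸ h.fp.r.conj g

theorem de : e * d = d * e := by
  simpa only [map_mul, MulAut.conj_apply, h.gd, h.gb] using congrArg (MulAut.conj g) h.fp.comm.symm

theorem ada' : a * d * a⁻¹ = b * d := by rw [h.ia.inv_eq, h.ada]

theorem ebe : e * b * e⁻¹ = b * d := by
  have : b * e * b = d * e := by
    simpa only [map_mul, MulAut.conj_apply, h.gd, h.gb, h.ga] using congrArg (MulAut.conj g) h.ada
  rw [mul_inv_eq_iff_eq_mul, mul_assoc, ← this, ← mul_assoc, ← mul_assoc, h.fp.l.sq, one_mul]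

theorem bd : b * d ∈ V4 b d := mul_mem (left_mem_V4 b d) (right_mem_V4 b d)

theorem aN : a ∈ 𝐍 (V4 b d) := norm_V4 (by rw [conj_eq h.ab]; exact left_mem_V4 b d) (h.ada' ▸ h.bd)

theorem eN : e ∈ 𝐍 (V4 b d) := norm_V4 (h.ebe ▸ h.bd) (by rw [conj_eq h.de]; exact right_mem_V4 b d)

theorem ad : a ∉ 𝐂₁ d := fun k => h.fp.l.ne_one (by simpa [conj_eq (mem_cent1.1 k)] using h.ada')

theorem eb : e ∉ 𝐂₁ b := fun k => h.fp.r.ne_one (by simpa [conj_eq (mem_cent1.1 k)] using h.ebe)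

theorem aV : a ∉ V4 b d := fun k => h.ad (le_cent1_iff.2 (h.fp.abel (right_mem_V4 b d)) k)

theorem aa : a * a ∈ V4 b d := h.ia.sq ▸ one_mem _

theorem c8 : ♯(V4 b d ⊔ zpowers a) = 8 := by rw [card_sup_zpowers h.aN h.aa h.aV, h.fp.card]

theorem DN : V4 b d ⊔ zpowers a ≤ 𝐍 (V4 b d) := sup_le le_normalizer (zpowers_le.2 h.aN)

theorem cen (hx : x ∈ V4 b d) (k : a * x = x * a) (n : x ≠ 1) : x = b := by
  rcases h.fp.mem.1 hx with e | e | rfl | rfl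
  exacts [absurd e n, e, absurd (mem_cent1.2 k) h.ad, absurd (mem_cent1.2 (by
    rwa [← mul_assoc, h.ab, mul_assoc, mul_assoc, mul_right_inj] at k)) h.ad]

theorem sq' (hx : x * a⁻¹ ∈ V4 b d) : x * x = 1 ∧ (x = a ∨ x = b * a) ∨ x * x = b := by
  obtain ⟨x, rfl⟩ : ∃ y, x = y * a := ⟨x * a⁻¹, by simp⟩
  have e : x * a * (x * a) = x * (a * x * a⁻¹) := by rw [h.ia.inv_eq]; group
  rw [e]
  rcases h.fp.mem.1 hx with k | k | k | k <;> rw [mul_inv_cancel_right] at k <;> subst k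
  · simp
  · simp [conj_eq h.ab, h.fp.l.sq]
  · rw [h.ada', h.fp.comm, ← mul_assoc, h.fp.r.sq, one_mul]; exact .inr rfl
  · rw [← conj_mul, conj_eq h.ab, h.ada', h.fp.mul_mul, mul_assoc b, h.fp.r.sq, mul_one]; exact .inr rfl

theorem sq (hx : x ∈ V4 b d ⊔ zpowers a) : x ^ 2 ∈ zpowers b := by
  rw [_root_.sq]
  rcases (mem_sup_zpowers_iff h.aN h.aa).1 hx with k | k
  · rw [h.fp.sq k]; exact one_mem _
  · rcases h.sq' k with ⟨k, -⟩ | k <;> rw [k]
    exacts [one_mem _, mem_zpowers _]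

end A3

namespace A4
variable (h : A4 a b d e g)
include h

theorem inf : 𝐍 (V4 b d) ⊓ 𝐂₁ b = V4 b d ⊔ zpowers a :=
  inf_eq_of_prime Nat.prime_three (by rw [h.c, h.c8]) h.DN (sup_le h.fp.V4_le (zpowers_le.2 (mem_cent1.2 h.ab)))
    h.eN h.eb

theorem cV : 𝐂 (V4 b d) ≤ V4 b d := fun x hx =>
  (inf_eq_of_prime p2 (by rw [h.c8, h.fp.card]) le_sup_left (le_cent1_iff.2 (h.fp.abel (right_mem_V4 b d)))
    (mem_sup_right (mem_zpowers a)) h.ad).le ⟨h.inf.le ⟨cent_le_norm _ hx, cent_le_cent1 (left_mem_V4 b d) hx⟩,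
      cent_le_cent1 (right_mem_V4 b d) hx⟩

theorem sixteen : 16 ∣ Nat.card G := by
  have s : Syl 2 (V4 b d ⊔ zpowers a) (𝐍 (V4 b d)) := syl_mk p2 h.DN (piGrp_of_card (k := 3) p2 h.c8) (by
    have := card_mul_relIndex h.DN
    rw [h.c, h.c8] at this; omega)
  obtain ⟨m, hm, l⟩ := s.syl_cj_le (K := cj g (V4 b d ⊔ zpowers a)) (by
    rw [cj_sup, cj_V4, cj_zpowers, h.ga, h.gb, h.gd]
    exact sup_le (V4_le.2 ⟨le_normalizer (right_mem_V4 b d), h.eN⟩) (zpowers_le.2 (le_normalizer (left_mem_V4 b d))))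
    ((piGrp_map_iff (conj_inj g)).2 s.pi)
  rw [cj_cj] at l
  have n := mem_norm_of_cj_le l
  have ha : m * g * a * (m * g)⁻¹ ∈ V4 b d := by simpa [← h.ga, mul_assoc] using conj_mem_of_norm hm (left_mem_V4 b d)
  have hb : m * g * b * (m * g)⁻¹ ∈ V4 b d := by simpa [← h.gb, mul_assoc] using conj_mem_of_norm hm (right_mem_V4 b d)
  generalize m * g = k at n ha hb
  have kN : k ∉ 𝐍 (V4 b d) := fun n => h.aV (by simpa [mul_assoc] using conj_mem_of_norm' n ha)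
  have kb : k * b * k⁻¹ = b := h.cen hb (mem_cent1.1 (by
    rw [← cj_cent1]
    exact cj_mono k (h.inf.ge.trans inf_le_right) ((cj_of_norm n).ge (mem_sup_right (mem_zpowers a)))))
    (h.fp.l.conj k).ne_one
  have kd : k * (k * d * k⁻¹) * k⁻¹ ∈ V4 b d := by
    rcases (mem_sup_zpowers_iff h.aN h.aa).1 (conj_mem_of_norm n (mem_sup_left (right_mem_V4 b d))) with i | i
    · exact absurd (norm_V4 (kb.symm ▸ left_mem_V4 b d) i) kN
    · rcases h.sq' i with ⟨-, i | i⟩ | i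
      · rwa [i]
      · rw [i, ← conj_mul]; exact mul_mem hb ha
      · exact absurd ((h.fp.r.conj k).sq.symm.trans i).symm h.fp.l.ne_one
  have := card_sup_zpowers n (h.inf.le ⟨norm_V4 (by
    rw [show k * k * b * (k * k)⁻¹ = k * (k * b * k⁻¹) * k⁻¹ by group, kb, kb]; exact left_mem_V4 b d)
    (by simpa [mul_assoc] using kd), mul_mem (mem_cent1.2 (mul_inv_eq_iff_eq_mul.1 kb))
      (mem_cent1.2 (mul_inv_eq_iff_eq_mul.1 kb))⟩) fun i => kN (h.DN i)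
  exact Dvd.dvd.trans (by rw [this, h.c8]) (card_subgroup_dvd_card _)

theorem ns (o : 𝐎 {2}ᶜ (⊤ : Subgroup G) = ⊥) (k : ∀ K, K ⊴ ⊤ → b ∈ K → K = ⊤) : NS (⊤ : Subgroup G) := by
  refine ⟨ne_bot_of_mem (mem_top b) h.fp.l.ne_one, k _ (der_normal _) ?_, fun K n => or_iff_not_imp_left.2 fun i => ?_⟩
  · rw [show b = ⁅a, d⁆ by rw [commutatorElement_def, h.ada', mul_inv_cancel_right]]
    exact commutator_mem_commutator trivial trivial
  · obtain ⟨w, hw, j⟩ := exists_iv_cent (le_top.trans n.norm) (piGrp_of_card (k := 3) p2 h.c8)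
      fun j => i (le_bot_iff.1 (o ▸ le_O n (odd_iff_pi.1 j)))
    exact k K n (h.cen (h.cV (cent_anti le_sup_left hw.2)) (hw.2 _ (mem_sup_right (mem_zpowers a))) j.ne_one ▸ hw.1)

theorem main (o : 𝐎 {2}ᶜ (⊤ : Subgroup G) = ⊥) (k : ∀ K, K ⊴ ⊤ → b ∈ K → K = ⊤) :
    (∃ q, Odd q ∧ 3 < q ∧ IsL q (⊤ : Subgroup G)) ∨ Nonempty (G ≃* PSL(3, ZMod 3)) ∨
      IsSimpleGroup G ∧ Nat.card G = 7920 :=
  (s4core (h.ns o k) h.fp h.cV h.inf h.c8 (fun _ => h.sq) h.sixteen).imp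
    (fun ⟨F, _, _, a, b, ⟨e⟩⟩ => ⟨_, a, b, F, _, _, rfl, ⟨topEquiv.trans e⟩⟩)
    (Or.imp_right fun e => ⟨(h.ns o k).simple_top, e⟩)

theorem center : 𝐍 (V4 b d) ⊓ 𝐂 (𝐍 (V4 b d)) = ⊥ := eq_bot_of_forall fun x hx => by_contra fun n =>
  h.eb (mem_cent1.2 (h.cen (h.cV (cent_anti le_normalizer hx.2)) (hx.2 _ h.aN) n ▸ hx.2 _ h.eN))

end A4

end CF.Perm.Wg
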