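import Cfsg.Agent.Perm.Wg3
import Cfsg.Agent.Perm.Wg4

/-!
# Primitive groups with a suborbit of length three: small stabilisers
-/

set_option autoImplicit false
set_option linter.unusedSectionVars false

namespace CF.Perm.Wg
open Subgroup Cfsg CF.BG CF.GW CF.JR CF.Invol
open CF.Ab2 (p2 NS)
open scoped MatrixGroups Pointwise commutatorElement

universe u

variable {G : Type u} [Group G] [Finite G] {A L N X : Subgroup G} {g r s : G} {x : ℤ → G} {t : ℕ} {i j k : ℤ}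

/-- Wong's list -/
def Res (G : Type u) [Group G] : Prop :=
  Nonempty (G ≃* alternatingGroup (Fin 5)) ∨ Nonempty (G ≃* Equiv.Perm (Fin 5)) ∨
    Nonempty (G ≃* GL (Fin 2) (ZMod 7) ⧸ Subgroup.center (GL (Fin 2) (ZMod 7))) ∨ Nonempty (G ≃* PSL(2, ZMod 11)) ∨
    Nonempty (G ≃* PSL(2, ZMod 13)) ∨ (∃ p : ℕ, p.Prime ∧ (p % 16 = 1 ∨ p % 16 = 15) ∧ Nonempty (G ≃* PSL(2, ZMod p))) ∨
    Nonempty (G ≃* PSL(3, ZMod 3)) ∨
    ∃ N : Subgroup G, N.Normal ∧ N.index = 2 ∧ 𝐂 N = ⊥ ∧ Nonempty (N ≃* PSL(3, ZMod 3))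

theorem bot_of_sol (m : MaxCF A) {n : ℕ} (c : ♯A = 2 ^ n * 3) (ns : ¬ Sol (⊤ : Subgroup G)) (hN : N ⊴ ⊤) (s : Sol N) :
    N = ⊥ := by_contra fun e => ns (m.coatom.2 _ (left_lt_sup.2 fun l => e (m.core N (normalIn_top.1 hN) l)) ▸
  Sol.sup (Char.isSolvable_of_card_dvd p2 Nat.prime_three _ (b := 1) c.dvd) s (le_top.trans hN.norm))

theorem cent_three (m : MaxCF A) (o : orderOf r = 3) (hr : r ∈ L ⊓ A) (n : A ≤ 𝐍 (zpowers r)) (c : ♯(L ⊓ A :) = 6)
    (hs : s ∈ L ⊓ A) (e : s * r * s⁻¹ = r⁻¹) : L ⊓ 𝐂 (zpowers r) = zpowers r := by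
  have c3 := (Nat.card_zpowers r).trans o
  have := m.normalizer_eq n (zpowers_le.2 hr.2) (ne_bot_of_prime_card (c3 ▸ Nat.prime_three))
  rw [← inf_eq_right.2 ((cent_le_norm _).trans this.le), ← inf_assoc]
  refine inf_eq_of_prime p2 (by rw [c, c3]) (zpowers_le.2 hr) (abel_zpowers r) hs fun k => ?_
  rw [← k r (mem_zpowers r), mul_inv_cancel_right, eq_inv_iff_mul_eq_one, ← sq, ← orderOf_dvd_iff_pow_eq_one, o] at e
  omega

theorem res_three (m : MaxCF A) {n : ℕ} (c : ♯A = 2 ^ n * 3) (l : n ≤ 1) (ns : ¬ Sol (⊤ : Subgroup G)) (c3 : ♯X = 3)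
    (e : ⊤ ⊓ 𝐂 X = X) : Res G := by
  rcases three le_top c3 e ns (bot_of_sol m c ns (O_normal _ _) (O_pi _ _).sol) with ⟨⟨f⟩⟩ | f
  · exact .inl ⟨topEquiv.symm.trans f⟩
  have : Fact (Nat.Prime 7) := ⟨by norm_num⟩
  have := (max_l2 ⟨_, _, inferInstance, ZMod.card 7, f⟩ (by decide) (by decide) m.coatom).1 rfl
  interval_cases n <;> omega

namespace Sm'
variable (h : Sm A g x t)
include h

theorem shift (i : ℤ) : g * x i * g⁻¹ = x (i + 1) := (h.sq.shift i).symm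

theorem iv (i : ℤ) : Iv (x i) := h.sq.orderOf_eq h.pos i

theorem mem (h1 : 1 ≤ i) (h2 : i ≤ t + 1) : x i ∈ A := h.eq.le (mem_seg h1 h2)

theorem top : seg x 0 (t + 1) = ⊤ := h.mx.coatom.2 _ (lt_of_le_of_ne (h.eq.ge.trans (seg_mono (by omega) le_rfl))
  fun e => h.ne (e.ge (mem_seg le_rfl (by omega))))

theorem all (n : N ⊴ ⊤) (m : x i ∈ N) : N = ⊤ := top_le_iff.1 (h.top.ge.trans (seg_le.2 fun j _ _ =>
  shift_ind (P := fun i => x i ∈ N) (fun a => by rw [← h.shift]; exact (mem_norm.1 (n.norm trivial) _)) i j m))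

theorem two (n : N ⊴ ⊤) (e : N ≠ ⊤) (m : x i * x (i + 1) ∈ N) : N.index = 2 ∧ ∀ i j, x i * x j ∈ N := by
  have a : ∀ j, x j * x (j + 1) ∈ N := fun j => shift_ind (P := fun i => x i * x (i + 1) ∈ N) (fun a => by
    rw [← h.shift (a + 1), ← h.shift a, conj_mul, h.shift a]; exact (mem_norm.1 (n.norm trivial) _)) i j m
  have b : ∀ i j, x i * x j ∈ N := fun i j => shift_ind (P := fun j => x i * x j ∈ N) (fun j => by
    rw [← mul_mem_cancel_right (a j), mul_assoc, ← mul_assoc (x j), (h.iv j).sq, one_mul]) i j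
      ((h.iv i).sq ▸ one_mem _)
  refine ⟨?_, b⟩
  rw [← relIndex_sup_zpowers (n.norm trivial) (b 0 0) fun k => e (h.all n k), ← relIndex_top_right]
  exact congrArg _ (top_le_iff.1 (h.top.ge.trans (seg_le.2 fun j _ _ => (mem_sup_zpowers_iff (n.norm trivial)
    (b 0 0)).2 (.inr ((h.iv 0).inv_eq.symm ▸ b j 0))))).symm

theorem cD : ♯(seg x 1 t) = 2 ^ t := h.sq.card t le_rfl

theorem DA : seg x 1 t ≤ A := (seg_mono le_rfl (by omega)).trans h.eq.le

theorem nmem : x 1 * x (t + 1) ∉ seg x 2 t := fun e => by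
  have := card_le (h.eq.ge.trans (seg_le.2 fun i _ _ => show x i ∈ seg x 1 t by
    by_cases e' : i = t + 1
    · exact e' ▸ (mul_mem_cancel_left (mem_seg le_rfl (by have := h.pos; omega))).1 (seg_mono (by omega) le_rfl e)
    · exact mem_seg (by omega) (by omega)))
  rw [h.card, h.cD] at this
  have := Nat.two_pow_pos t
  omega

theorem ne_succ (l : 2 ≤ t) (i : ℤ) : x i ≠ x (i + 1) := fun e =>
  h.sq.notMem (a := i) (b := i + 1) (by omega) (by omega) (by rw [e]; exact mem_seg le_rfl le_rfl)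

theorem inv : x 1 * (x 1 * x (t + 1)) * (x 1)⁻¹ = (x 1 * x (t + 1))⁻¹ := by
  rw [← mul_assoc, (h.iv 1).sq, one_mul, mul_inv_rev, (h.iv (t + 1)).inv_eq]

theorem inv' : x (t + 1) * (x 1 * x (t + 1)) * (x (t + 1))⁻¹ = (x 1 * x (t + 1))⁻¹ := by
  rw [← mul_assoc, mul_inv_cancel_right, mul_inv_rev, (h.iv (t + 1)).inv_eq, (h.iv 1).inv_eq]

variable (ns : ¬ Sol (⊤ : Subgroup G))
include ns

theorem bot (n : N ⊴ ⊤) (s : Sol N) : N = ⊥ := bot_of_sol h.mx h.card ns n s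

theorem dich (f : FP (x k) (x (k + 1))) (c : 𝐂 (seg x 1 t) ≤ V4 (x k) (x (k + 1))) : NS (⊤ : Subgroup G) ∨
    ∃ N : Subgroup G, N ⊴ ⊤ ∧ N.index = 2 ∧ 𝐂 N = ⊥ ∧ (∀ i j, x i * x j ∈ N) ∧ (∀ i, x i ∉ N) ∧
      ∀ K, K ⊴ ⊤ → K ≠ ⊥ → K ≤ N → K = N := by
  have a : ∀ N, N ⊴ ⊤ → N ≠ ⊥ → x k * x (k + 1) ∈ N := fun N n e => by
    obtain ⟨w, hw, i⟩ := exists_iv_cent (le_top.trans n.norm) (piGrp_of_card p2 h.cD)
      fun o => e (h.bot ns n (sol_of_odd o))
    rcases f.mem.1 (c hw.2) with rfl | rfl | rfl | rfl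
    exacts [absurd rfl i.ne_one, (h.all n hw.1).ge trivial, (h.all n hw.1).ge trivial, hw.1]
  by_cases e : ∀ N : Subgroup G, N ⊴ ⊤ → N = ⊥ ∨ N = ⊤
  · exact .inl ⟨ne_bot_of_mem trivial f.l.ne_one, (e _ (der_normal _)).resolve_left fun k =>
      ns (der_eq_bot.1 k).sol, e⟩
  push Not at e
  obtain ⟨N, n, e1, e2⟩ := e
  obtain ⟨i2, b⟩ := h.two n e2 (a N n e1)
  have nC : 𝐂 N ⊴ ⊤ := ⟨le_top, norm_cent n.norm⟩
  refine .inr ⟨N, n, i2, by_contra fun e => ne_bot_of_mem (H := 𝐙 N) ⟨a N n e1, a _ nC e⟩ f.iv.ne_one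
    (h.bot ns (n.inf nC) (center_abel N).sol), b, fun i m => e2 (h.all n m), fun K m e l => ?_⟩
  have := (h.two m (fun e => e2 (top_le_iff.1 (e.ge.trans l))) (a K m e)).1
  exact eq_of_card_eq l (Nat.eq_of_mul_eq_mul_right two_pos (by
    rw [← this, card_mul_index, this, ← i2, card_mul_index]))

end Sm'

theorem card_inf_two (n : N.index = 2) (hs : s ∈ A) (k : s ∉ N) : ♯(N ⊓ A :) * 2 = ♯A := by
  have := normal_of_index_eq_two n
  rw [← card_inf_mul_relIndex N A]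
  exact congrArg _ ((Nat.dvd_prime p2).1 (n ▸ relIndex_dvd_index_of_normal N A) |>.resolve_left
    fun e => k (relIndex_eq_one.1 e hs)).symm

theorem res1 (h : Sm A g x 1) (ns : ¬ Sol (⊤ : Subgroup G)) : Res G := by
  have o : orderOf (x 1 * x ((1 : ℕ) + 1)) = 3 := orderOf_eq_prime (by simpa [seg] using h.cube)
    (by simpa [seg] using h.nmem)
  refine res_three h.mx h.card le_rfl ns ((Nat.card_zpowers _).trans o) (cent_three h.mx o
    ⟨trivial, mul_mem (h.mem le_rfl (by simp)) (h.mem (by simp) le_rfl)⟩ (h.eq.ge.trans (seg_le.2 fun i _ hi => ?_))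
    (by rw [top_inf_eq, h.card]; rfl) ⟨trivial, h.mem le_rfl (by simp)⟩ h.inv)
  norm_num at hi
  interval_cases i
  exacts [(inv_zpowers h.inv).norm le_rfl, (inv_zpowers h.inv').norm le_rfl]

theorem cent_eq (m : MaxCF A) (i : Iv s) (hs : s ∈ A) (c : A ≤ 𝐂₁ s) : 𝐂₁ s = A :=
  ((cent1_le_norm_zp s).trans (m.normalizer_eq (c.trans (cent1_le_norm_zp s)) (zpowers_le.2 hs)
    (ne_bot_of_mem (mem_zpowers s) i.ne_one)).le).antisymm c

theorem simple12 (n : NS (⊤ : Subgroup G)) (f : FP s r) (c : ♯(𝐂₁ s) = 12) : Res G := by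
  have := n.simple_top
  have := Fact.mk p2
  obtain ⟨T, hT, l⟩ := exists_syl_le le_top f.pi
  have e : T ⊓ 𝐂₁ s = V4 s r := ((syl_mk p2 f.V4_le f.pi (by
    have := card_mul_relIndex f.V4_le; rw [f.card, c] at this; omega)).eq_of_le (le_inf l f.V4_le) inf_le_right
      hT.pi.inf_left).symm
  obtain ⟨T, rfl⟩ := hT.exists_sylow_top
  have d : DG (⊤ : Subgroup G) := by
    rcases two_group_cases_of_card_centralizer T.isPGroup' (x := ⟨s, l (left_mem_V4 s r)⟩)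
      ((orderOf_coe _).symm.trans f.l) (by
        rw [← card_map (T : Subgroup G).subtype_injective, ← top_inf_eq (centralizer _), map_inf_cent1
          (T : Subgroup G).subtype_injective, map_top_subtype, ← f.card, ← e]
        rfl) with ⟨m, -, ⟨k⟩⟩ | k | k
    · exact dg_of_sylow T k
    · obtain ⟨k⟩ := ABG.qd_three T k f.l (Char.isSolvable_of_card_dvd p2 Nat.prime_three _ (a := 2) (b := 1) c.dvd)
      rw [Nat.card_congr k.toEquiv, Classical.card_GL_two] at c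
      simp at c
    · exact dg_of_syl hT (eq_of_card_eq l (f.card.trans k.symm) ▸ Ab2.dc_V4 f)
  rcases gw_simple G inferInstance n.not_comm_top d with ⟨F, _, _, o, -, ⟨k⟩⟩ | ⟨⟨k⟩⟩
  · have L : IsL (Fintype.card F) (⊤ : Subgroup G) := ⟨F, _, _, rfl, ⟨topEquiv.trans k⟩⟩
    have := L.card_iv o trivial f.l
    rw [top_inf_eq, c] at this
    rcases this with e | e
    · obtain ⟨k⟩ := IsL.zmod (e ▸ L) (by norm_num)
      exact .inr (.inr (.inr (.inr (.inl ⟨topEquiv.symm.trans k⟩))))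
    · obtain ⟨k⟩ := IsL.zmod ((show Fintype.card F = 11 by omega) ▸ L) (by norm_num)
      exact .inr (.inr (.inr (.inl ⟨topEquiv.symm.trans k⟩)))
  · obtain ⟨w, hw, i⟩ := exists_iv_of_two hT.pi.inf_left (hT.pi.center_ne_bot (n.syl_ne hT))
    obtain ⟨y, -, rfl⟩ := d.oneC (n.top.index_ne) s trivial w trivial f.l i
    have := (hT.dvd_card (n := 2 ^ 3) (by
      rw [card_top', Nat.card_congr k.toEquiv, nat_card_alternatingGroup]; simp [Nat.factorial])
        (piNat_pow_self p2 3)).trans (card_dvd (le_cent1_iff.2 hw.2))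
    rw [← cj_cent1, cj_def, card_map (conj_inj y), c] at this
    omega

theorem res2 (h : Sm A g x 2) (ns : ¬ Sol (⊤ : Subgroup G)) : Res G := by
  have c1 : Commute (x 1) (x 2) := by simpa using h.cases
  have c2 : Commute (x 2) (x 3) := h.sq.commute_iff 1 2 1 c1
  have f : FP (x 1) (x 2) := ⟨h.iv 1, h.iv 2, c1, h.ne_succ le_rfl 1⟩
  have m : ∀ i, 1 ≤ i → i ≤ 3 → x i ∈ A := fun _ => h.mem
  have l : ∀ S : Subgroup G, x 1 ∈ S → x 2 ∈ S → x 3 ∈ S → A ≤ S := fun S _ _ _ =>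
    h.eq.ge.trans (seg_le.2 fun i _ hi => by norm_num at hi; interval_cases i <;> assumption)
  have cA := cent_eq h.mx f.r (m 2 (by decide) (by decide)) (l _ (mem_cent1.2 c1) (self_mem_cent1 _) (mem_cent1.2 c2.symm))
  have nm : x 1 * x 3 ∉ seg x 2 2 := h.nmem
  have cu : (x 1 * x 3) ^ 3 ∈ seg x 2 2 := h.cube
  rcases h.dich ns (k := 1) f (fun w hw => (inf_eq_of_prime Nat.prime_three (by rw [h.card, f.card]; rfl)
    (V4_le.2 ⟨m 1 (by decide) (by decide), m 2 (by decide) (by decide)⟩) f.V4_le (m 3 (by decide) le_rfl) fun k => nm (by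
      rwa [pow_succ, (show Commute _ _ from (mem_cent1.1 k).symm).mul_pow, sq, sq, f.l.sq, (h.iv 3).sq, one_mul, one_mul]
        at cu)).le ⟨cA.le (cent_le_cent1 (mem_seg (by decide) (by decide)) hw),
          cent_le_cent1 (mem_seg (by decide) (by decide)) hw⟩) with n | ⟨N, n, i, c, a, b, -⟩
  · exact simple12 n f.symm (by rw [cA, h.card]; rfl)
  have := normalIn_top.1 n
  have o : orderOf (x 1 * x 3) = 3 := orderOf_eq_prime (by_contra fun e => b 2
    (h.sq.eq_of_mem h.pos cu e ▸ pow_mem (a 1 3) 3)) fun e => nm (e ▸ one_mem _)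
  have r : x 1 * x 3 ∈ A := mul_mem (m 1 (by decide) (by decide)) (m 3 (by decide) (by decide))
  have k := card_inf_two i (m 1 (by decide) (by decide)) (b 1)
  rcases three (zpowers_le.2 (a 1 3)) ((Nat.card_zpowers _).trans o) (cent_three h.mx o ⟨a 1 3, r⟩
    (l _ ((inv_zpowers h.inv).norm le_rfl) (cent1_le_norm_zp _ (mem_cent1.2 (c1.symm.mul_right c2)))
      ((inv_zpowers h.inv').norm le_rfl)) (by rw [h.card] at k; omega)
    ⟨a 1 2, mul_mem (m 1 (by decide) (by decide)) (m 2 (by decide) (by decide))⟩ (by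
      rw [mul_inv_rev, ← mul_assoc, mul_assoc (x 1), mul_assoc (x 1), (c1.symm.mul_right c2).mul_inv_cancel]
      exact h.inv))
    (fun s => nm (eq_one_of_mem_bot (h.bot ns n s) (a 1 3) ▸ one_mem _)) (h.bot ns (n.char (O_le _ _) (norm_O _ _)) (O_pi _ _).sol)
    with ⟨⟨e⟩⟩ | ⟨⟨e⟩⟩
  · exact .inr (.inl (s5_of c e i))
  · have : Fact (Nat.Prime 7) := ⟨by norm_num⟩
    exact .inr (.inr (.inl (pgl_of (by decide) c e i)))

theorem res3 (h : Sm A g x 3) (ns : ¬ Sol (⊤ : Subgroup G)) : Res G := by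
  have s : Sh A (x 1) (x 2) 1 (x 3) (x 4) := by simpa using h.cases
  have a : A3 (x 1) (x 2) (x 3) (x 4) g := ⟨⟨h.iv 2, h.iv 3, s.bd, h.ne_succ (by decide) 2⟩, by simpa using s.ada,
    h.shift 1, h.shift 2, h.shift 3⟩
  have e := h.mx.normalizer_eq (M := V4 (x 2) (x 3)) (h.eq.ge.trans (seg_le.2 fun i _ hi => by
    norm_num at hi
    interval_cases i
    exacts [a.aN, le_normalizer (left_mem_V4 _ _), le_normalizer (right_mem_V4 _ _), a.eN]))
    (V4_le.2 ⟨h.mem (by decide) (by decide), h.mem (by decide) (by decide)⟩) (ne_bot_of_mem (left_mem_V4 _ _) a.fp.l.ne_one)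
  have b : A4 (x 1) (x 2) (x 3) (x 4) g := ⟨a, e ▸ h.card⟩
  rcases b.main (h.bot ns (O_normal _ _) (sol_of_odd (odd_O _))) fun _ => h.all with ⟨q, o, l, k⟩ | k | ⟨_, k⟩
  · obtain ⟨p, i⟩ := (max_l2 k o l h.mx.coatom).2 h.card (e ▸ b.center) b.sixteen
    obtain ⟨k⟩ := IsL.zmod k p
    exact .inr (.inr (.inr (.inr (.inr (.inl ⟨q, p, i, ⟨topEquiv.symm.trans k⟩⟩)))))
  · exact .inr (.inr (.inr (.inr (.inr (.inr (.inl k))))))
  · exact (not_m11 k h.mx.coatom h.card).elim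

end CF.Perm.Wg
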