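import Cfsg.Agent.Perm.Wg3

/-!
# Two exclusions for the stabiliser `S₄ × 2`
-/

set_option autoImplicit false
set_option linter.unusedSectionVars false

namespace CF.Perm.Wg
open Subgroup Cfsg CF.BG CF.GW CF.JR CF.Invol
open CF.Ab2 (p2 NS)
open scoped MatrixGroups Pointwise commutatorElement

universe u

variable {G : Type u} [Group G] [Finite G] {N : Subgroup G} {c h s u v z : G} {q : ℕ}

theorem q17 (l : IsL q N) (o : Odd q) (q3 : 3 < q) (d : 16 ∣ ♯N) (n : c ∈ 𝐍 N) (cc : c * c = 1) (f : FP z v)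
    (hu : u ∈ N) (uu : u * u = z) (hv : v ∈ N) (cu : c ∈ 𝐂₁ u) (e : ∀ w ∈ 𝐂₁ c ⊓ 𝐂₁ z, w ^ 4 = 1)
    (e' : ∀ w ∈ 𝐂₁ (c * v) ⊓ 𝐂₁ z, w ^ 4 = 1) : q = 17 := by
  obtain ⟨T, t, hz⟩ := l.tq o (uu ▸ mul_mem hu hu) f.l.ne_one (by rw [f.l]; exact o.coprime_two_left)
  have uT : u ∈ T := (t.out z hz f.l.ne_one u hu (by rwa [conj_eq (by rw [← uu, mul_assoc])])).resolve_right
    fun k => f.l.ne_one (uu.symm.trans k.1)
  have cT : c ∈ 𝐍 T := by
    rw [← t.cen uT (uu ▸ f.l.ne_one), ← cj_eq_self, cj_inf, cj_of_norm n, cj_cent1, conj_eq (mem_cent1.1 cu)]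
  have i : Inv v T := ((t.out z hz f.l.ne_one v hv (by rwa [conj_eq f.comm.symm])).resolve_left
    fun k => f.ne (eq_of_cyc t.cyc hz k f.l f.r)).2
  obtain ⟨y, rfl⟩ := t.cyc.exists_gen
  have a := abel_zpowers y
  have m := conj_mem_of_norm cT (mem_zpowers y)
  have c1 : c * (c * y * c⁻¹) * c⁻¹ = y := by
    rw [← mul_assoc, ← mul_assoc, cc, one_mul, mul_assoc, ← mul_inv_rev, cc, inv_one, mul_one]
  generalize hw : c * y * c⁻¹ = w at m c1
  have m1 := mul_mem (mem_zpowers y) m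
  have m2 := mul_mem (inv_mem (mem_zpowers y)) m
  have e1 := e _ ⟨mem_cent1.2 (mul_inv_eq_iff_eq_mul.1 (by
    rw [← conj_mul, hw, c1, a.mul_comm m (mem_zpowers y)])).symm, le_cent1_iff.2 (a hz) m1⟩
  have e2 := e' _ ⟨mem_cent1.2 (mul_inv_eq_iff_eq_mul.1 (by
    rw [show c * v * (y⁻¹ * w) * (c * v)⁻¹ = c * (v * (y⁻¹ * w) * v⁻¹) * c⁻¹ by group, i _ m2, ← conj_inv, ← conj_mul,
      ← conj_inv, c1, hw, mul_inv_rev, inv_inv])).symm, le_cent1_iff.2 (a hz) m2⟩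
  have k : ♯(zpowers y) ∣ 8 := by
    rw [Nat.card_zpowers, orderOf_dvd_iff_pow_eq_one, show 8 = 2 * 4 from rfl, pow_mul,
      show y ^ 2 = y * w * (y⁻¹ * w)⁻¹ by rw [sq]; group, (show Commute _ _ from a.mul_comm m1 (inv_mem m2)).mul_pow,
      e1, inv_pow, e2, inv_one, mul_one]
  have := Nat.le_of_dvd (by decide) k
  have := mod16 o (l.card o ▸ Nat.mul_dvd_mul_left 2 d)
  have := t.card
  by_contra k
  obtain rfl : q = 15 := by omega
  obtain ⟨p, n, hp, -, k⟩ := l.pp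
  have a := (Nat.prime_dvd_prime_iff_eq Nat.prime_three hp).1 (Nat.prime_three.dvd_of_dvd_pow (n := n) (k ▸ by decide))
  have b := (Nat.prime_dvd_prime_iff_eq Nat.prime_five hp).1 (Nat.prime_five.dvd_of_dvd_pow (n := n) (k ▸ by decide))
  omega

theorem hol (n : NS (⊤ : Subgroup G)) (o : orderOf h = 8) (ss : s * s = 1) (ic : Iv c) (hs : s * h * s⁻¹ = h ^ 3)
    (hc : c * h * c⁻¹ = h ^ 5) (sc : c * s = s * c) (j : IsConj s (h ^ 4))
    (l : 𝐂₁ c ⊓ 𝐂₁ (h ^ 4 * c) ≤ zpowers h ⊔ zpowers s ⊔ zpowers c) : ♯(𝐂₁ c) ≠ 48 := fun c48 => by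
  have pw : ∀ {a b : ℕ}, h ^ a = h ^ b ↔ a % 8 = b % 8 := by intro a b; rw [pow_eq_pow_iff_modEq, o]; rfl
  have iz : Iv (h ^ 4) := by rw [Iv, orderOf_pow' _ (by decide), o]; rfl
  have ns : s ∈ 𝐍 (zpowers h) := mem_norm_of_cj_le (by rw [cj_zpowers, hs]; exact zpowers_le.2 (npow_mem_zpowers h 3))
  have m1 : ∀ w ∈ zpowers h ⊔ zpowers s, ∃ k : ℕ, w = h ^ k ∨ w = h ^ k * s := fun w hw => by
    rcases (mem_sup_zpowers_iff ns (ss ▸ one_mem _)).1 hw with k | k <;>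
      obtain ⟨k, e⟩ := mem_powers_iff_mem_zpowers.2 k
    exacts [⟨k, .inl e.symm⟩, ⟨k, .inr (mul_inv_eq_iff_eq_mul.1 e.symm)⟩]
  have m2 : ∀ (k m : ℕ) (w), w * h * w⁻¹ = h ^ m → h ^ k * w * h * (h ^ k * w)⁻¹ = h ^ m := fun k m w e => by
    rw [show h ^ k * w * h * (h ^ k * w)⁻¹ = h ^ k * (w * h * w⁻¹) * (h ^ k)⁻¹ by group, e]; group
  have i1 : ∀ w ∈ zpowers h ⊔ zpowers s, Iv w → IsConj w (h ^ 4) := fun w hw i => by
    obtain ⟨k, rfl | rfl⟩ := m1 w hw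
    · rw [eq_of_cyc (cyc_zpowers h) (npow_mem_zpowers h k) (npow_mem_zpowers h 4) i iz]
    have e := i.sq
    rw [show h ^ k * s * (h ^ k * s) = h ^ k * (s * h ^ k * s⁻¹) * (s * s) by group, ss, mul_one, ← conj_pow, hs,
      ← pow_mul, ← pow_add, ← pow_zero h, pw] at e
    obtain ⟨k, rfl⟩ : ∃ m, k = 2 * m := ⟨k / 2, by omega⟩
    refine IsConj.trans (isConj_iff.2 ⟨h ^ k, ?_⟩) j
    rw [mul_inv_eq_iff_eq_mul, mul_inv_eq_iff_eq_mul.1 (show s * h ^ k * s⁻¹ = h ^ (3 * k) by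
      rw [← conj_pow, hs, pow_mul]), ← mul_assoc, ← pow_add, show k + 2 * k = 3 * k by ring]
  have c1 : c ∉ zpowers h ⊔ zpowers s := fun hw => by
    obtain ⟨k, e | e⟩ := m1 c hw
    · have := m2 k 1 1 (by simp); rw [mul_one, ← e, hc, pw] at this; omega
    · have := m2 k 3 s hs; rw [← e, hc, pw] at this; omega
  have nc : c ∈ 𝐍 (zpowers h ⊔ zpowers s) := mem_norm_of_cj_le (by
    rw [cj_sup, cj_zpowers, cj_zpowers, hc, conj_eq sc]
    exact sup_le_sup_right (zpowers_le.2 (npow_mem_zpowers h 5)) _)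
  have cc : c * c ∈ zpowers h ⊔ zpowers s := ic.sq ▸ one_mem _
  have c32 := card_sup_zpowers nc cc c1
  rw [card_sup_zpowers ns (ss ▸ one_mem _) fun k => by
    rw [conj_eq (abel_zpowers h |>.mul_comm k (mem_zpowers h)), ← pow_one h, ← pow_mul, pw] at hs; omega,
    Nat.card_zpowers, o] at c32
  have zc : c ∈ 𝐂₁ (h ^ 4) := mem_cent1.2 (mul_inv_eq_iff_eq_mul.1 (by rw [← conj_pow, hc, ← pow_mul, pw]))
  have lz : zpowers h ⊔ zpowers s ⊔ zpowers c ≤ 𝐂₁ (h ^ 4) := sup_le (sup_le (zpowers_le.2 (mem_cent1.2 (by group)))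
    (zpowers_le.2 (mem_cent1.2 (mul_inv_eq_iff_eq_mul.1 (by rw [← conj_pow, hs, ← pow_mul, pw]))))) (zpowers_le.2 zc)
  have nj : ¬ IsConj c (h ^ 4) := fun k => by
    have := card_dvd lz
    rw [c32, ← card_centralizer_eq_of_isConj k, c48] at this; omega
  have hcz : h * c * h⁻¹ = h ^ 4 * c := by
    rw [mul_inv_eq_iff_eq_mul, mul_assoc, mul_inv_eq_iff_eq_mul.1 hc, ← mul_assoc, ← pow_add, mul_left_inj,
      ← pow_one h, ← pow_mul, pw]
  have f : FP (h ^ 4) c := ⟨iz, ic, (mem_cent1.1 zc).symm, fun k => nj (k ▸ .refl _)⟩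
  have hR : h ∈ zpowers h ⊔ zpowers s ⊔ zpowers c := mem_sup_left (mem_sup_left (mem_zpowers h))
  have cR : c ∈ zpowers h ⊔ zpowers s ⊔ zpowers c := mem_sup_right (mem_zpowers c)
  have nW : zpowers h ⊔ zpowers s ⊔ zpowers c ≤ 𝐍 (V4 (h ^ 4) c) := by
    refine sup_le (sup_le (zpowers_le.2 (norm_V4 ?_ ?_)) (zpowers_le.2 (norm_V4 ?_ ?_))) (zpowers_le.2
      (le_normalizer (right_mem_V4 _ _)))
    · rw [conj_eq (mem_cent1.1 (lz hR))]; exact left_mem_V4 _ _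
    · rw [hcz]; exact mul_mem (left_mem_V4 _ _) (right_mem_V4 _ _)
    · rw [conj_eq (mem_cent1.1 (lz (mem_sup_left (mem_sup_right (mem_zpowers s)))))]; exact left_mem_V4 _ _
    · rw [conj_eq sc.symm]; exact right_mem_V4 _ _
  have sq : ∀ r ∈ zpowers h ⊔ zpowers s ⊔ zpowers c, r * (r * c * r⁻¹) * r⁻¹ = c := fun r hr => by
    rcases f.mem.1 (conj_mem_of_norm (nW hr) (right_mem_V4 _ _)) with k | k | k | k
    · exact absurd k (ic.conj r).ne_one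
    · exact absurd (isConj_iff.2 ⟨r, k⟩) nj
    · rw [k, k]
    · rw [k, ← conj_mul, k, conj_eq (mem_cent1.1 (lz hr)), ← mul_assoc, iz.sq, one_mul]
  have key : ∀ m ∈ 𝐍 (zpowers h ⊔ zpowers s ⊔ zpowers c), m * c * m⁻¹ = c ∨ m * c * m⁻¹ = h ^ 4 * c := fun m hm => by
    have e : m * c * m⁻¹ * h ^ 2 * (m * c * m⁻¹)⁻¹ = h ^ 2 := conj_eq (by
      conv_lhs => rw [← sq _ (conj_mem_of_norm' hm hR)]
      rw [pow_two]; group)
    have i := ic.conj m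
    rcases (mem_sup_zpowers_iff nc cc).1 (conj_mem_of_norm hm cR) with k | k
    · exact absurd ((isConj_iff.2 ⟨m, rfl⟩).trans (i1 _ k i)) nj
    obtain ⟨k, k' | k'⟩ := m1 _ k <;> rw [mul_inv_eq_iff_eq_mul] at k' <;> rw [k'] at e i ⊢
    · replace i := i.sq
      rw [show h ^ k * c * (h ^ k * c) = h ^ k * (c * h ^ k * c⁻¹) * (c * c) by group, ic.sq, mul_one, ← conj_pow, hc,
        ← pow_mul, ← pow_add, ← pow_zero h, pw] at i
      rw [mul_left_inj, pw, mul_eq_right, ← pow_zero h, pw]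
      omega
    · rw [← conj_pow, mul_assoc (h ^ k), m2 k 15 _ (by
        rw [show s * c * h * (s * c)⁻¹ = s * (c * h * c⁻¹) * s⁻¹ by group, hc, ← conj_pow, hs, ← pow_mul]),
        ← pow_mul, pw] at e
      omega
  have k1 : ∀ m ∈ 𝐍 (zpowers h ⊔ zpowers s ⊔ zpowers c), m * c * m⁻¹ = c → m ∈ zpowers h ⊔ zpowers s ⊔ zpowers c :=
    fun m hm e => l ⟨mem_cent1.2 (mul_inv_eq_iff_eq_mul.1 e), mem_cent1.2 (mul_inv_eq_iff_eq_mul.1 (by
      have := key _ (mul_mem hm (le_normalizer hR))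
      rw [show m * h * c * (m * h)⁻¹ = m * (h * c * h⁻¹) * m⁻¹ by group, hcz] at this
      exact this.resolve_left fun k => iz.ne_one (by simpa using k.trans e.symm)))⟩
  have S := (Hall.refl (piGrp_of_card (k := 5) p2 c32)).syl_of_norm_le (fun m hm =>
    (key m hm).elim (k1 m hm) fun e => (mul_mem_cancel_left hR).1 (k1 _ (mul_mem (le_normalizer hR) hm) (by
      rw [show h * m * c * (h * m)⁻¹ = h * (m * c * m⁻¹) * h⁻¹ by group, e, ← hcz, sq h hR]))) le_top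
  obtain ⟨y, hy, k⟩ := exists_conj_mem_of_relIndex n.index_ne (S.isSylowIn p2) (relIndex_sup_zpowers nc cc c1).dvd ic
  obtain ⟨w, rfl⟩ := isConj_iff.1 k
  exact nj (k.trans (i1 _ hy (ic.conj w)))

end CF.Perm.Wg
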