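import Cfsg.Agent.Perm.Wg5
import Cfsg.Agent.Perm.Wg6

/-!
# Wong's theorem on primitive groups with a suborbit of length three
-/

set_option autoImplicit false
set_option linter.unusedSectionVars false

namespace CF.Perm.Wg
open Subgroup Cfsg CF.BG CF.GW CF.JR CF.Invol
open CF.Ab2 (p2 NS)
open scoped MatrixGroups Pointwise commutatorElement

universe u

variable {G : Type u} [Group G] [Finite G] {A : Subgroup G} {a b c d e g w : G} {x : ℤ → G}

theorem A3.zD (h : A3 a b d e g) (hw : w ∈ V4 b d ⊔ zpowers a) (k : w ∈ 𝐂₁ a) (l : w ∈ 𝐂₁ d) : w = 1 ∨ w = b := by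
  rcases (mem_sup_zpowers_iff h.aN h.aa).1 hw with i | i
  · exact or_iff_not_imp_left.2 (h.cen i (mem_cent1.1 k).symm)
  · exact absurd (inv_mem_iff.1 ((mul_mem_cancel_left l).1 (le_cent1_iff.2 (h.fp.abel (right_mem_V4 b d)) i))) h.ad

theorem A3.mul_left (h : A3 a b d e g) (k : c ∈ 𝐂₁ b) (l : c ∈ 𝐂₁ d) (m : c ∈ 𝐂₁ e) : A3 a b d e (c * g) := by
  have : ∀ y, c * g * y * (c * g)⁻¹ = c * (g * y * g⁻¹) * c⁻¹ := fun y => by group
  exact ⟨h.fp, h.ada, by rw [this, h.ga, conj_eq (mem_cent1.1 k)], by rw [this, h.gb, conj_eq (mem_cent1.1 l)],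
    by rw [this, h.gd, conj_eq (mem_cent1.1 m)]⟩

/-- five consecutive conjugates of an involution generating `S₄ × 2` -/
structure B5 (a b c d e g : G) : Prop where
  sh : Sh (𝐂₁ c) a b c d e
  fp : FP b c
  card : ♯(𝐂₁ c) = 48
  ga : g * a * g⁻¹ = b
  gb : g * b * g⁻¹ = c
  gc : g * c * g⁻¹ = d
  gd : g * d * g⁻¹ = e
  cube : (a * e) ^ 3 ∈ closure {b, c, d}
  c16 : ♯(closure {a, b, c, d}) = 16

namespace B5
variable (h : B5 a b c d e g)
include h

theorem ia : a⁻¹ = a := inv_eq_of_mul_eq_one_right h.sh.aa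

theorem ie : e⁻¹ = e := inv_eq_of_mul_eq_one_right h.sh.ee

theorem cd : FP c d := h.gb ▸ h.gc ▸ h.fp.conj g

theorem y : A3 (a * b) (b * c) (c * d) (d * e) g := by
  have s := h.sh
  refine ⟨⟨h.fp.iv, h.cd.iv, ((s.bc.mul_right s.bd).mul_left ((Commute.refl c).mul_right s.cd)).eq, fun k => ?_⟩, ?_,
    by rw [← conj_mul, h.ga, h.gb], by rw [← conj_mul, h.gb, h.gc], by rw [← conj_mul, h.gc, h.gd]⟩
  · have := s.ada
    rw [← (mul_left_inj c).1 (k.trans s.cd.eq), s.ab.eq, mul_assoc, s.aa, mul_one, right_eq_mul] at this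
    exact h.fp.iv.ne_one this
  · rw [show a * b * (c * d) * (a * b) = a * (b * c) * d * a * b by group, (s.ab.mul_right s.ac).eq,
      show b * c * a * d * a * b = b * c * (a * d * a) * b by group, s.ada, ← mul_assoc, h.fp.iv.sq, one_mul, ← s.bd.eq,
      mul_assoc, ← mul_assoc c, s.cc, one_mul]

theorem mem : a ∈ 𝐂₁ c ∧ b ∈ 𝐂₁ c ∧ d ∈ 𝐂₁ c ∧ e ∈ 𝐂₁ c :=
  ⟨mem_cent1.2 h.sh.ac, mem_cent1.2 h.sh.bc, mem_cent1.2 h.sh.cd.symm, mem_cent1.2 h.sh.ec⟩

theorem eb : e ∉ 𝐂₁ b := fun k => h.sh.ne (by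
  simpa [mem_cent1.1 k, mul_assoc, h.sh.ee] using h.sh.ebe)

theorem inf : 𝐂₁ c ⊓ 𝐂₁ b = closure {a, b, c, d} := by
  refine inf_eq_of_prime Nat.prime_three (by rw [h.card, h.c16]) ((closure_le _).2 ?_) ((closure_le _).2 ?_)
    h.mem.2.2.2 h.eb <;> rintro _ (rfl | rfl | rfl | rfl)
  exacts [h.mem.1, h.mem.2.1, self_mem_cent1 _, h.mem.2.2.1, mem_cent1.2 h.sh.ab, self_mem_cent1 _,
    mem_cent1.2 h.sh.bc.symm, mem_cent1.2 h.sh.bd.symm]

theorem D0 : V4 (b * c) (c * d) ⊔ zpowers (a * b) ≤ 𝐂₁ c := by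
  have := h.mem
  exact sup_le (V4_le.2 ⟨mul_mem this.2.1 (self_mem_cent1 c), mul_mem (self_mem_cent1 c) this.2.2.1⟩)
    (zpowers_le.2 (mul_mem this.1 this.2.1))

theorem dec (hw : w ∈ 𝐂₁ c ⊓ 𝐂₁ b) :
    w ∈ V4 (b * c) (c * d) ⊔ zpowers (a * b) ∨ w * c⁻¹ ∈ V4 (b * c) (c * d) ⊔ zpowers (a * b) := by
  refine (mem_sup_zpowers_iff (cent_le_norm _ (le_cent1_iff.1 h.D0)) (h.sh.cc ▸ one_mem _)).1
    ((closure_le _).2 ?_ (h.inf.le hw))
  have m : ∀ w ∈ V4 (b * c) (c * d) ⊔ zpowers (a * b), w ∈ V4 (b * c) (c * d) ⊔ zpowers (a * b) ⊔ zpowers c :=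
    fun _ => mem_sup_left
  have c := mem_sup_right (S := V4 (b * c) (c * d) ⊔ zpowers (a * b)) (mem_zpowers c)
  have b := (mul_mem_cancel_right c).1 (m _ (mem_sup_left (left_mem_V4 _ _)))
  rintro _ (rfl | rfl | rfl | rfl)
  exacts [(mul_mem_cancel_right b).1 (m _ (mem_sup_right (mem_zpowers _))), b, c,
    (mul_mem_cancel_left c).1 (m _ (mem_sup_left (right_mem_V4 _ _)))]

theorem zD (k : w ∈ 𝐂₁ a) (l : w ∈ 𝐂₁ b) (m : w ∈ 𝐂₁ c) (n : w ∈ 𝐂₁ d) : w ∈ V4 b c := by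
  have z := mul_mem (left_mem_V4 b c) (right_mem_V4 b c)
  have i := cent1_mul_of k l
  have j := cent1_mul_of m n
  rcases h.dec ⟨m, l⟩ with o | o
  · rcases h.y.zD o i j with rfl | rfl
    exacts [one_mem _, z]
  · refine (mul_mem_cancel_right (inv_mem (right_mem_V4 b c))).1 ?_
    rcases h.y.zD o (mul_mem i (inv_mem (mem_cent1_comm.1 (mul_mem h.mem.1 h.mem.2.1)))) (mul_mem j (inv_mem
      (mem_cent1_comm.1 (mul_mem (self_mem_cent1 c) h.mem.2.2.1)))) with o | o <;> rw [o]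
    exacts [one_mem _, z]

theorem four (hw : w ∈ 𝐂₁ c ⊓ 𝐂₁ (b * c)) : w ^ 4 = 1 := by
  have k : ∀ w ∈ V4 (b * c) (c * d) ⊔ zpowers (a * b), w ^ 4 = 1 := fun w hw => by
    rw [show 4 = 2 * 2 from rfl, pow_mul]
    rcases h.fp.iv.mem_zpowers.1 (h.y.sq hw) with k | k <;> rw [k]
    exacts [one_pow 2, (sq _).trans h.fp.iv.sq]
  rcases h.dec ⟨hw.1, by simpa [mul_assoc, h.sh.cc] using cent1_mul_of hw.2 hw.1⟩ with o | o
  · exact k w o
  · have := k _ o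
    rwa [(show Commute w c from mem_cent1.1 hw.1).inv_right.mul_pow, inv_pow, show 4 = 2 * 2 from rfl, pow_mul c, sq c,
      h.sh.cc, one_pow, inv_one, mul_one] at this

theorem norm : 𝐂₁ c ≤ 𝐍 (V4 (b * c) (c * d)) := by
  have s := h.sh
  have k : ∀ w, Commute w b → Commute w c → Commute w d → w ∈ 𝐍 (V4 (b * c) (c * d)) := fun w i j k =>
    cent_le_norm _ ((cent_V4 _ _).ge ⟨mem_cent1.2 (i.mul_right j), mem_cent1.2 (j.mul_right k)⟩)
  have b := k b rfl s.bc s.bd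
  have d := k d s.bd.symm s.cd.symm rfl
  rw [← s.gen, closure_le]
  rintro _ (rfl | rfl | rfl | rfl | rfl)
  exacts [(mul_mem_cancel_right b).1 h.y.aN, b, k _ s.bc.symm rfl s.cd, d, (mul_mem_cancel_left d).1 h.y.eN]

theorem four' (hw : w ∈ 𝐂₁ (c * (c * d)) ⊓ 𝐂₁ (b * c)) : w ^ 4 = 1 := by
  rw [← mul_assoc, h.sh.cc, one_mul, ← h.gc, ← h.y.ga, ← cj_cent1, ← cj_cent1, ← cj_inf, mem_cj_iff] at hw
  obtain ⟨w, hw, rfl⟩ := hw
  rw [conj_pow, h.four ⟨hw.1, mem_cent1.2 (mul_inv_eq_iff_eq_mul.1 (h.y.cen (conj_mem_of_norm (h.norm hw.1)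
    (left_mem_V4 _ _)) ?_ (h.fp.iv.conj w).ne_one))⟩, mul_one, mul_inv_cancel]
  have : Commute (a * b) w := (mem_cent1.1 hw.2).symm
  exact (this.mul_right h.y.ab).mul_right this.inv_right

theorem exists_h : ∃ k, k * a * k⁻¹ = b * c * d ∧ k * b * k⁻¹ = c ∧ k * c * k⁻¹ = b ∧ k * d * k⁻¹ = a ∧
    k * k = a * d := by
  have s := h.sh
  have i := inv_eq_of_mul_eq_one_right (s.sq1 h.cube)
  have pe : e ∈ 𝐂₁ ((a * e) ^ 3) := mem_cent1.2 (mul_inv_eq_iff_eq_mul.1 (by rw [← conj_pow, s.inv_e, inv_pow, i]))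
  have p := h.zD (w := (a * e) ^ 3) (mem_cent1.2 (mul_inv_eq_iff_eq_mul.1 (by
    rw [← conj_pow, s.inv_a, inv_pow, i])).symm) (mem_cent1.2 (s.cube (subset_closure (by simp))))
    (mem_cent1.2 (s.cube (subset_closure (by simp)))) (mem_cent1.2 (s.cube (subset_closure (by simp))))
  have ad : a * d * a⁻¹ = b * c * d := by rw [h.ia, s.ada]
  have eb : e * b * e⁻¹ = b * c * d := by rw [h.ie, s.ebe]
  have cj : ∀ y, e * a * g * y * (e * a * g)⁻¹ = e * (a * (g * y * g⁻¹) * a⁻¹) * e⁻¹ := fun y => by group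
  have ka := cj a
  have kb := cj b
  have kc := cj c
  have kd := (cj d).trans (show _ = a * (a * e) ^ 3 by
    rw [h.gd, h.ia, h.ie, show a * (a * e) ^ 3 = a * a * (e * (a * e * a) * e) by rw [pow_succ, sq]; group, s.aa, one_mul])
  rw [h.ga, conj_eq s.ab, eb] at ka
  rw [h.gb, conj_eq s.ac, conj_eq s.ec] at kb
  rw [h.gc, ad, ← conj_mul, ← conj_mul, eb, conj_eq s.ec, conj_eq s.ed,
    show b * c * d * c * d = b * (c * d * (c * d)) by group, h.cd.iv.sq, mul_one] at kc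
  generalize e * a * g = k at ka kb kc kd
  have k2 : ∀ y, k * k * y * (k * k)⁻¹ = k * (k * y * k⁻¹) * k⁻¹ := fun y => by group
  have cb : k * k ∈ 𝐂₁ b := mem_cent1.2 (mul_inv_eq_iff_eq_mul.1 (by rw [k2, kb, kc]))
  have cc : k * k ∈ 𝐂₁ c := mem_cent1.2 (mul_inv_eq_iff_eq_mul.1 (by rw [k2, kc, kb]))
  rcases h.fp.mem.1 p with p | p | p | p <;> rw [p] at kd pe
  rotate_left
  · exact absurd pe h.eb
  · have := conj_mem_of_norm (h.norm (show g * (k * k) * g⁻¹ ∈ _ by rw [← h.gb, ← cj_cent1]; exact conj_mem_cj.2 cb))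
      (left_mem_V4 _ _)
    rw [← h.y.ga, conj_inv, conj_mul, conj_mul, k2, ← conj_mul (a := a) (b := k), ka, kb, mul_assoc (b * c), ← s.cd.eq,
      mul_assoc b, ← mul_assoc c, s.cc, one_mul, ← conj_mul (a := b) (b := k), kb, kd, s.ac.eq, ← mul_assoc c, s.cc, one_mul,
      h.ga, h.y.ga] at this
    exact absurd (left_eq_mul.1 (h.y.cen this (s.ab.mul_left rfl) h.fp.l.ne_one)) h.fp.r.ne_one
  · exact absurd (by simpa [mul_assoc, s.cc] using cent1_mul_of pe h.mem.2.2.2) h.eb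
  rw [mul_one] at kd
  have ad' := mul_inv_eq_iff_eq_mul.1 ad
  have m : ∀ y, a * d * y * (a * d)⁻¹ = k * k * y * (k * k)⁻¹ → (a * d)⁻¹ * (k * k) ∈ 𝐂₁ y := fun y e =>
    mem_cent1.2 (by rw [mul_assoc, mul_inv_eq_iff_eq_mul.1 e.symm]; group)
  have kw : k * ((a * d)⁻¹ * (k * k)) * k⁻¹ = (a * d)⁻¹ * (k * k) := by
    rw [← conj_mul, ← conj_inv, ← conj_mul, ka, kd, ← ad']; group
  rcases h.fp.mem.1 (h.zD (m a (by
      rw [k2, ka, ← conj_mul, ← conj_mul, kb, kc, kd, mul_assoc a d, mul_inv_eq_iff_eq_mul, ← s.bc.eq, mul_assoc (b * c),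
        ← mul_assoc a a, s.aa, one_mul, ← mul_assoc, s.ada]))
      (mul_mem (inv_mem (mem_cent1.2 (s.ab.mul_left s.bd.symm))) cb) (mul_mem (inv_mem (mul_mem h.mem.1 h.mem.2.2.1)) cc)
      (m d (by rw [k2, kd, ka, ← ad]; group))) with o | o | o | o
  · exact ⟨k, ka, kb, kc, kd, (inv_mul_eq_one.1 o).symm⟩
  · rw [o, kb] at kw; exact absurd kw.symm h.fp.ne
  · rw [o, kc] at kw; exact absurd kw h.fp.ne
  have n : ∀ y, c * y = y * c → k * c * y * (k * c)⁻¹ = k * y * k⁻¹ := fun y e => by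
    rw [show k * c * y * (k * c)⁻¹ = k * (c * y * c⁻¹) * k⁻¹ by group, conj_eq e]
  refine ⟨k * c, (n a s.ac.symm).trans ka, (n b s.bc.symm).trans kb, (n c rfl).trans kc, (n d s.cd).trans kd, ?_⟩
  rw [show k * c * (k * c) = k * c * k⁻¹ * (k * k) * c by group, kc, inv_mul_eq_iff_eq_mul.1 o, mul_assoc, mul_assoc,
    mul_assoc b, s.cc, mul_one, ← mul_assoc, (s.ab.symm.mul_right s.bd).eq, mul_assoc, s.bb, mul_one]

theorem not_ns : ¬ NS (⊤ : Subgroup G) := fun n => by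
  obtain ⟨k, ka, kb, kc, kd, kk⟩ := h.exists_h
  have s := h.sh
  have k4 : k ^ 4 = b * c := by
    rw [show 4 = 2 + 2 from rfl, pow_add, sq, kk, ← mul_assoc, s.ada, mul_assoc, s.dd, mul_one]
  refine hol n (h := k) (s := a * b) (orderOf_eq_prime_pow (p := 2) (n := 2) (k4 ▸ h.fp.iv.ne_one) (by
    rw [show 2 ^ (2 + 1) = 4 + 4 from rfl, pow_add, k4, h.fp.iv.sq])) h.y.ia.sq h.fp.r ?_ ?_
    (s.ac.mul_left s.bc).symm (k4 ▸ isConj_iff.2 ⟨g, h.y.ga⟩) ?_ h.card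
  · rw [h.y.ia.inv_eq, show a * b * k * (a * b) = a * b * (k * a * k⁻¹ * (k * b * k⁻¹)) * k by group, ka, kb, pow_succ, sq,
      kk, mul_assoc (b * c), ← s.cd.eq, mul_assoc b, ← mul_assoc c, s.cc, one_mul, mul_assoc a, ← mul_assoc b, s.bb,
      one_mul]
  · rw [h.fp.r.inv_eq, show c * k * c = c * (k * c * k⁻¹) * k by group, kc, pow_succ, k4, s.bc.eq]
  rw [k4, mul_assoc, s.cc, mul_one, h.inf, closure_le]
  have mc := mem_sup_right (S := zpowers k ⊔ zpowers (a * b)) (mem_zpowers c)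
  have mk : k ∈ zpowers k ⊔ zpowers (a * b) ⊔ zpowers c := mem_sup_left (mem_sup_left (mem_zpowers k))
  have mb := (mul_mem_cancel_right mc).1 (k4 ▸ pow_mem mk 4)
  have ma := (mul_mem_cancel_right mb).1 (mem_sup_left (mem_sup_right (mem_zpowers (a * b))))
  rintro _ (rfl | rfl | rfl | rfl)
  exacts [ma, mb, mc, (mul_mem_cancel_left ma).1 (kk ▸ mul_mem mk mk)]

end B5

theorem res4 (h : Sm A g x 4) (ns : ¬ Sol (⊤ : Subgroup G)) : Res G := by
  have s : Sh A (x 1) (x 2) (x 3) (x 4) (x 5) := by simpa using h.cases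
  have cA := cent_eq h.mx (h.iv 3) (h.mem (by decide) (by decide)) (h.eq.ge.trans (seg_le.2 fun i _ hi => by
    norm_num at hi
    interval_cases i
    exacts [mem_cent1.2 s.ac, mem_cent1.2 s.bc, self_mem_cent1 _, mem_cent1.2 s.cd.symm, mem_cent1.2 s.ec]))
  have eD : seg x 1 (4 : ℕ) = closure {x 1, x 2, x 3, x 4} := le_antisymm (seg_le.2 fun i _ hi => subset_closure (by
    norm_num at hi; interval_cases i <;> simp)) ((closure_le _).2 (by
      rintro _ (rfl | rfl | rfl | rfl) <;> exact mem_seg (by decide) (by decide)))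
  have B : B5 (x 1) (x 2) (x 3) (x 4) (x 5) g := ⟨cA ▸ s, ⟨h.iv 2, h.iv 3, s.bc, h.ne_succ (by decide) 2⟩, cA ▸ h.card,
    h.shift 1, h.shift 2, h.shift 3, h.shift 4, (seg_le.2 fun i _ hi => subset_closure (by
      norm_num at hi; interval_cases i <;> simp)) h.cube, eD ▸ h.cD⟩
  obtain ⟨N, n, i, c, m, nm, k⟩ := (h.dich ns (k := 2) B.fp fun w hw => B.zD
    (cent_le_cent1 (mem_seg (by decide) (by decide)) hw) (cent_le_cent1 (mem_seg (by decide) (by decide)) hw)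
    (cent_le_cent1 (mem_seg (by decide) (by decide)) hw) (cent_le_cent1 (mem_seg (by decide) (by decide)) hw)).resolve_left
      B.not_ns
  have := normalIn_top.1 n
  obtain ⟨g', hg, y⟩ : ∃ g' ∈ N, A3 (x 1 * x 2) (x 2 * x 3) (x 3 * x 4) (x 4 * x 5) g' := by
    by_cases e : g ∈ N
    · exact ⟨g, e, B.y⟩
    · exact ⟨_, (mul_mem_iff_of_index_two i).2 (iff_of_false (nm 3) e), B.y.mul_left
        (mem_cent1.2 (s.bc.symm.mul_right rfl)) (mem_cent1.2 ((Commute.refl _).mul_right s.cd))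
        (mem_cent1.2 (s.cd.mul_right s.ec.symm))⟩
  have e := h.mx.normalizer_eq (cA ▸ B.norm) (cA ▸ le_sup_left.trans B.D0) (ne_bot_of_mem (left_mem_V4 _ _) y.fp.l.ne_one)
  have c24 := card_inf_two i (h.mem (i := 3) (by decide) (by decide)) (nm 3)
  have hf := N.subtype_injective
  have Y : A4 (G := N) ⟨_, m 1 2⟩ ⟨_, m 2 3⟩ ⟨_, m 3 4⟩ ⟨_, m 4 5⟩ ⟨g', hg⟩ := ⟨⟨.of_map hf y.fp, Subtype.ext y.ada,
    Subtype.ext y.ga, Subtype.ext y.gb, Subtype.ext y.gd⟩, by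
      rw [← card_map hf, ← top_inf_eq (normalizer _), map_inf_norm hf, map_top_subtype, map_V4]
      rw [h.card, ← e] at c24
      exact Nat.eq_of_mul_eq_mul_right two_pos c24⟩
  rcases Y.main ((map_eq_bot_iff_of_injective _ hf).1 (by
    rw [map_O _ _ hf, map_top_subtype]; exact h.bot ns (n.char (O_le _ _) (norm_O _ _)) (sol_of_odd (odd_O _))))
    (fun K l z => map_injective hf (by
      have l' := normal_iff_map_subtype.1 (normalIn_top.1 l)
      have z' : x 2 * x 3 ∈ K.map N.subtype := mem_map_of_mem _ z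
      rw [map_top_subtype]
      generalize K.map N.subtype = K at l' z'
      refine l'.le.antisymm ((k (K ⊓ cj (x 3) K) ⟨le_top, ?_⟩ (ne_bot_of_mem ⟨z', by
        rw [← conj_eq (s.bc.symm.mul_right rfl : Commute (x 3) (x 2 * x 3))]; exact conj_mem_cj.2 z'⟩ y.fp.l.ne_one)
        (inf_le_left.trans l'.le)).ge.trans inf_le_left)
      rw [← Fgs1.sup_zpowers_eq_top (i ▸ p2) (nm 3)]
      refine sup_le (norm_inf l'.norm ?_) (zpowers_le.2 (cj_eq_self.1 ?_))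
      · rw [← cj_norm, ← cj_of_norm (n.norm (mem_top (x 3)))]; exact cj_mono _ l'.norm
      · rw [cj_inf, cj_cj, s.cc, cj_one, inf_comm])) with ⟨q, o, l, L⟩ | L | ⟨L, L'⟩
  · have L := map_top_subtype N ▸ L.map hf
    obtain rfl := q17 L o l Y.sixteen (n.norm (mem_top (x 3))) s.cc y.fp (m 1 4) (by
      rw [← mul_assoc, s.ada, mul_assoc, s.dd, mul_one]) (m 3 4) (mem_cent1.2 (s.ac.symm.mul_right s.cd))
      (fun _ => B.four) fun _ => B.four'
    exact (not_17 c L i (h.iv 3) B.card).elim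
  · exact .inr (.inr (.inr (.inr (.inr (.inr (.inr ⟨N, this, i, c, L⟩))))))
  · exact (out_m11 c L L' i).elim

theorem wong {Ω : Type*} [MulAction G Ω] [FaithfulSMul G Ω] [MulAction.IsPreprimitive G Ω] (ns : ¬ Group.IsSolvable G)
    {a b : Ω} (h3 : Nat.card (MulAction.orbit (MulAction.stabilizer G a) b) = 3) : Res G := by
  replace ns : ¬ Sol (⊤ : Subgroup G) := fun _ => ns (Group.isSolvable_of_surjective (f := (⊤ : Subgroup G).subtype)
    topEquiv.surjective)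
  rcases exists_sm h3 with ⟨m, c⟩ | ⟨g, x, t, h⟩
  · refine res_three m (n := 0) c (by decide) ns c ((top_inf_eq _).trans (le_antisymm ((cent_le_norm _).trans
      (m.normalizer_eq le_normalizer le_rfl (ne_bot_of_prime_card (c ▸ Nat.prime_three))).le) ?_))
    exact (cyc_of_prime (c ▸ Nat.prime_three)).abel
  · rcases h.cases with rfl | ⟨rfl, -⟩ | ⟨rfl, -⟩ | ⟨rfl, -⟩
    exacts [res1 h ns, res2 h ns, res3 h ns, res4 h ns]

end CF.Perm.Wg
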